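import Cfsg.Agent.Lib.Invol.G23Two.ChevData
import Cfsg.Agent.Lib.Fus.GTwoThreeGroup
import Cfsg.Agent.Lib.Grp.ModMat.Lanes
import Cfsg.Agent.Lib.Spor.Cos.Words

/-! The relations hold in `G₂(3)`, and the five letters generate it. -/

set_option autoImplicit false
set_option linter.unusedSectionVars false
set_option maxRecDepth 100000

namespace Cfsg.Agent.Invol.G23Two

open Cfsg.Agent.Fus.GTwoThree
open Cfsg.Agent.Spor.Cos (ev force force_eq)
open Cfsg.Agent.Grp.ModMat (fieldAt fieldAt_sum)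

/-- packing of values below four -/
def pk (f : ℕ → ℕ) : ℕ → ℕ
  | 0 => 0
  | k + 1 => pk f k + f k * 4 ^ k

/-- one entry of a product -/
def ent (a b k : ℕ) : ℕ :=
  (fieldAt 2 a (7 * (k / 7)) * fieldAt 2 b (k % 7) + fieldAt 2 a (7 * (k / 7) + 1) * fieldAt 2 b (7 + k % 7) +
    fieldAt 2 a (7 * (k / 7) + 2) * fieldAt 2 b (14 + k % 7) + fieldAt 2 a (7 * (k / 7) + 3) * fieldAt 2 b (21 + k % 7) +
    fieldAt 2 a (7 * (k / 7) + 4) * fieldAt 2 b (28 + k % 7) + fieldAt 2 a (7 * (k / 7) + 5) * fieldAt 2 b (35 + k % 7) +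
    fieldAt 2 a (7 * (k / 7) + 6) * fieldAt 2 b (42 + k % 7)) % 3

/-- product of packed matrices -/
def mulN (a b : ℕ) : ℕ := force a fun a => force b fun b => force (pk (ent a b) 49) fun p => p

/-- the packed identity -/
def oneN : ℕ := rootC.getD 0 0

/-- product of a list -/
def prodN : List ℕ → ℕ
  | [] => oneN
  | a :: l => mulN a (prodN l)

/-- the packed matrix of a letter -/
def letC (s : ℕ) : ℕ := prodN ((letW.getD s []).map fun p => rootC.getD (3 * p.1 + p.2) 0)

/-- the matrix of a packed number -/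
def toM (n : ℕ) : M7 := Matrix.of fun i j => ((fieldAt 2 n (7 * i.val + j.val) : ℕ) : Z3)

theorem pk_eq (f : ℕ → ℕ) : ∀ k, pk f k = ∑ i ∈ Finset.range k, f i * (2 ^ 2) ^ i
  | 0 => rfl
  | k + 1 => by rw [pk, pk_eq f k, Finset.sum_range_succ]; rfl

theorem toM_mulN (a b : ℕ) : toM (mulN a b) = toM a * toM b := by
  ext i j
  have hk : 7 * i.val + j.val < 49 := by have := i.isLt; have := j.isLt; omega
  have e1 : (7 * i.val + j.val) / 7 = i.val := by have := j.isLt; omega
  have e2 : (7 * i.val + j.val) % 7 = j.val := by have := j.isLt; omega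
  rw [Matrix.mul_apply, Fin.sum_univ_seven]
  simp only [mulN, force_eq, toM, Matrix.of_apply, pk_eq]
  rw [fieldAt_sum 49 (ent a b) (fun k _ => lt_trans (Nat.mod_lt _ (by norm_num)) (by norm_num)) _ hk, ent, e1, e2]
  rw [ZMod.natCast_mod]
  simp

theorem rootC_ok : ∀ p : Fin 12 × Z3, ∀ i j : Fin 7,
    fieldAt 2 (rootC.getD (3 * p.1.val + p.2.val) 0) (7 * i.val + j.val) = (gen7 p i j).val := by
  decide +kernel

theorem toM_root (p : Fin 12 × Z3) : toM (rootC.getD (3 * p.1.val + p.2.val) 0) = gen7 p := by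
  ext i j
  rw [toM, Matrix.of_apply, rootC_ok p i j, ZMod.natCast_zmod_val]

theorem one_ok : ∀ i j : Fin 7, fieldAt 2 oneN (7 * i.val + j.val) = ((1 : M7) i j).val := by decide +kernel

theorem toM_one : toM oneN = 1 := by
  ext i j
  rw [toM, Matrix.of_apply, one_ok i j, ZMod.natCast_zmod_val]

theorem root_zero : ∀ r < 12, rootC.getD (3 * r) 0 = oneN := by decide +kernel

theorem toM_prodN : ∀ l, toM (prodN l) = (l.map toM).prod
  | [] => toM_one
  | a :: l => by rw [prodN, toM_mulN, toM_prodN l, List.map_cons, List.prod_cons]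

theorem letW_ok : (letW.all fun w => w.all fun p => Nat.blt p.1 12 && Nat.blt p.2 3) = true := by decide +kernel

theorem rels_ok : ((caseBase ((cList.getD 0 (0, [])).2)).all fun w =>
    Nat.beq (prodN (w.map letC)) oneN) = true := by decide +kernel

theorem gen_ok : ((List.range 12).all fun r => Nat.beq (prodN ((rootW.getD r []).map letC)) (rootC.getD (3 * r + 1) 0) &&
    ((rootW.getD r []).all fun s => Nat.blt s 5) &&
    Nat.beq (mulN (rootC.getD (3 * r + 1) 0) (rootC.getD (3 * r + 1) 0)) (rootC.getD (3 * r + 2) 0)) = true := by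
  decide +kernel

/-- The letters in `G₂(3)`. -/
noncomputable def gM (s : ℕ) : Cfsg.Agent.Fus.GTwoThree.G :=
  el ((letW.getD s []).map fun p => (Fin.ofNat 12 p.1, (p.2 : Z3)))

theorem ρ_gM (s : ℕ) : ρ (gM s) = toM (letC s) := by
  rw [gM, ρ_el, letC, toM_prodN, List.map_map, List.map_map]
  congr 1
  refine List.map_congr_left fun p hp => ?_
  have hlt : p.1 < 12 ∧ p.2 < 3 := by
    have h := letW_ok
    simp only [List.all_eq_true, Bool.and_eq_true, Nat.blt_eq] at h
    rcases Nat.lt_or_ge s letW.length with hs | hs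
    · rw [List.getD_eq_getElem _ _ hs] at hp
      exact h _ (List.getElem_mem hs) p hp
    · rw [List.getD_eq_default _ _ hs] at hp
      exact absurd hp List.not_mem_nil
  simp only [Function.comp]
  rw [← toM_root]
  congr 2
  simp [ZMod.val_natCast, Nat.mod_eq_of_lt hlt.1, Nat.mod_eq_of_lt hlt.2]

theorem ρ_ev : ∀ w : List ℕ, ρ (ev gM w) = toM (prodN (w.map letC))
  | [] => by rw [ev, map_one, List.map_nil, prodN, toM_one]
  | s :: w => by rw [ev, map_mul, ρ_gM, ρ_ev w, List.map_cons, prodN, toM_mulN]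

/-- The relations hold. -/
theorem gM_rel : ∀ w ∈ caseBase ((cList.getD 0 (0, [])).2), ev gM w = 1 := by
  intro w hw
  have h := rels_ok
  simp only [List.all_eq_true, Nat.beq_eq] at h
  refine ρ_injective ?_
  rw [ρ_ev, h w hw, toM_one, map_one]

set_option maxHeartbeats 1000000 in
/-- The letters generate. -/
theorem gM_top : Subgroup.closure {x | ∃ s < 5, gM s = x} = ⊤ := by
  rw [eq_top_iff]
  have h := gen_ok
  simp only [List.all_eq_true, List.mem_range, Bool.and_eq_true, Nat.beq_eq, Nat.blt_eq] at h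
  set K := Subgroup.closure {x | ∃ s < 5, gM s = x}
  have hroot : ∀ (r : ℕ) (hr : r < 12) (t : Z3),
      (⟨Cfsg.Agent.Lie.Chev.certFullG2.xg r t, Cfsg.Agent.Lie.Chev.certFullG2.xg_mem_group_all r t⟩ :
        Cfsg.Agent.Fus.GTwoThree.G) ∈ K := by
    intro r hr t
    set x := fun t : Z3 => el [((⟨r, hr⟩ : Fin 12), t)] with hx
    have hel : ∀ t, x t = ⟨Cfsg.Agent.Lie.Chev.certFullG2.xg r t,
        Cfsg.Agent.Lie.Chev.certFullG2.xg_mem_group_all r t⟩ := fun t => by simp [hx, el]
    have hρ : ∀ t, ρ (x t) = toM (rootC.getD (3 * r + t.val) 0) := fun t => by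
      rw [hx, ρ_el, toM_root (⟨r, hr⟩, t)]; simp
    have h1 : x 1 ∈ K := by
      have : ev gM (rootW.getD r []) = x 1 := ρ_injective (by
        rw [ρ_ev, hρ, (h r hr).1.1]
        rfl)
      rw [← this]
      exact Cfsg.Agent.Spor.Cos.ev_mem _ fun s hs => Subgroup.subset_closure ⟨s, (h r hr).1.2 s hs, rfl⟩
    rw [← hel]
    have hval : t.val = 0 ∨ t.val = 1 ∨ t.val = 2 := by have := t.val_lt; omega
    rcases hval with e | e | e
    · have : x t = 1 := ρ_injective (by
        rw [hρ, e, map_one, Nat.add_zero, root_zero r hr, toM_one])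
      rw [this]
      exact K.one_mem
    · rw [show t = 1 from ZMod.val_injective 3 (e.trans (by decide))]
      exact h1
    · have : x t = x 1 * x 1 := ρ_injective (by
        rw [map_mul, hρ, hρ, e, show (1 : Z3).val = 1 from rfl, ← toM_mulN, (h r hr).2])
      rw [this]
      exact K.mul_mem h1 h1
  intro g _
  have hle : Cfsg.Lie.chevG2.group Z3 ≤ K.map (Cfsg.Lie.chevG2.group Z3).subtype := by
    refine (le_of_eq (Cfsg.Agent.Lie.Chev.certFullG2.group_eq (F := Z3))).trans ((Subgroup.closure_le _).2 ?_)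
    rintro y ⟨r, hr, t, rfl⟩
    exact ⟨_, hroot r hr t, rfl⟩
  obtain ⟨y, hy, e⟩ := hle g.2
  exact (Subtype.ext e : y = g) ▸ hy

end Cfsg.Agent.Invol.G23Two
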