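import Cfsg.Agent.Lib.Invol.G23Two.Words

/-! The five letters inside `G₂(3)`. -/

set_option autoImplicit false

namespace Cfsg.Agent.Invol.G23Two

/-- the letters as products of root elements -/

def letW : List (List (ℕ × ℕ)) :=
  [[(2, 1), (0, 1), (11, 2), (4, 1), (7, 2), (4, 1), (2, 2), (0, 1)],
    [(11, 1), (9, 1), (0, 1), (11, 1), (5, 1), (0, 1)],
    [(11, 1), (0, 1), (11, 1), (5, 2), (2, 2), (0, 1)],
    [(9, 1), (5, 2), (6, 2), (2, 1)],
    [(5, 2), (4, 1), (1, 2), (10, 2), (8, 1), (7, 2), (0, 1)]]

/-- root elements as words in the letters -/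
def rootW : List (List ℕ) :=
  [[3, 1, 4, 1, 4, 1, 0, 4, 1, 4, 3, 1],
    [2, 4, 1, 4, 1, 0, 4, 1, 4, 2],
    [3, 0, 2, 0, 1],
    [1, 0, 4, 1, 4, 3, 1, 2, 0, 4, 1, 2, 4, 2, 0, 1],
    [4, 1, 4, 3, 1, 2, 0, 4, 1, 2, 4, 2],
    [3, 0, 3, 1],
    [2, 0, 1, 2],
    [3, 4, 1, 4, 3, 0, 2, 0, 1, 4, 1, 4, 3],
    [0, 3, 4, 1, 4, 2, 0, 3, 1, 0, 4, 1, 4, 3, 0],
    [0, 2, 3, 1, 2],
    [2, 3, 4, 1, 4, 0, 1, 4, 1, 4, 3, 2],
    [2, 0, 4, 1, 4, 0, 1, 4, 1, 4, 0, 2]]

/-- the root elements on the seven-dimensional module, two bits to an entry -/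
def rootC : List ℕ :=
  [0x1000100010001000100010001,
    0x1000101012001000100010001,
    0x1000102011001000100010001,
    0x1000100010001000100010001,
    0x1000100410001800100010001,
    0x1000100810001400100010001,
    0x1000100010001000100010001,
    0x1010508010101200100010001,
    0x1020908010201100100010001,
    0x1000100010001000100010001,
    0x1008110210801000100010021,
    0x1004120110801000100010011,
    0x1000100010001000100010001,
    0x1002180010081080100050001,
    0x1001140010041080100090001,
    0x1000100010001000100010001,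
    0x1000100018001000100010005,
    0x1000100014001000100010009,
    0x1000100010001000100010001,
    0x1000100010009000100014001,
    0x1000100010005000100018001,
    0x1000100010001000100010001,
    0x1040100090001000140011081,
    0x1080100050001000180012081,
    0x1000100010001000100010001,
    0x1100100010011000124810001,
    0x1200100010021000118810001,
    0x1000100010001000100010001,
    0x1800100010001028100210101,
    0x1400100010001018100110201,
    0x1000100010001000100010001,
    0x1000100010001000900010401,
    0x1000100010001000500010801,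
    0x1000100010001000100010001,
    0x1000100010001002101010001,
    0x1000100010001001102010001]

end Cfsg.Agent.Invol.G23Two
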