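import Cfsg.Agent.Lib.Invol.PSp43.Data

/-!
Tables for the centraliser of an involution of `G₂(3)`: pairs of elements of `SL(2, 3)` up to a common sign,
extended by the automorphism of both factors which negates the off-diagonal entries.
-/

set_option autoImplicit false

namespace Cfsg.Agent.Invol.G23Two

open Cfsg.Agent.Spor.Coset (fld)
open Cfsg.Agent.Invol.PSp43 (mt ivs ngs sa sb se norm)

/-- the outer automorphism of `SL(2, 3)` -/
def tauTbl : ℕ := 0x31cb052d3410c2c94e24b5ea873da0

/-- the outer automorphism of `SL(2, 3)` -/
def tw (a : ℕ) : ℕ := fld 5 tauTbl a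

/-- multiplication -/
def mL (i j : ℕ) : ℕ :=
  bif Nat.beq (se i) 0 then norm (mt (sa i) (sa j)) (mt (sb i) (sb j)) (se j)
  else norm (mt (sa i) (tw (sa j))) (mt (sb i) (tw (sb j))) (1 - se j)

/-- inverses -/
def iL (i : ℕ) : ℕ :=
  bif Nat.beq (se i) 0 then norm (ivs (sa i)) (ivs (sb i)) 0 else norm (tw (ivs (sa i))) (tw (ivs (sb i))) 1

/-- conjugation -/
def cj (k i : ℕ) : ℕ := mL (mL k i) (iL k)

/-- commuting -/
def com (i j : ℕ) : Bool := Nat.beq (mL i j) (mL j i)

/-- the central involution -/
abbrev zI : ℕ := 12
/-- the outer involution -/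
abbrev tI : ℕ := 288
/-- the second involution of the plane -/
abbrev wI : ℕ := 25
/-- the third basis element of the elementary group -/
abbrev vI : ℕ := 50
/-- an element of order three of the first factor -/
abbrev xI : ℕ := 96
/-- an element of order three of the second factor -/
abbrev yI : ℕ := 4

/-- the elementary abelian group of order eight -/
def vList : List ℕ := [0, 12, 25, 37, 50, 62, 75, 87]

/-- membership in the elementary abelian group -/
def inV (i : ℕ) : Bool := vList.any (Nat.beq i)

/-- the normaliser of the elementary abelian group -/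
def inB (k : ℕ) : Bool := vList.all fun v => inV (cj k v)

/-- the centraliser of the plane -/
def rList : List ℕ :=
  [0, 1, 12, 13, 24, 25, 36, 37, 50, 51, 62, 63, 74, 75, 86, 87, 288, 289, 300, 301, 312, 313, 324, 325, 338, 339, 350,
    351, 362, 363, 374, 375]

/-- membership in the centraliser of the plane -/
def inR (i : ℕ) : Bool := rList.any (Nat.beq i)

/-- the action of the third involution on the centraliser of the plane -/
def alList : List ℕ :=
  [0, 338, 25, 363, 375, 12, 350, 37, 50, 313, 75, 288, 300, 62, 325, 87, 63, 312, 74, 301, 289, 51, 324, 86, 1, 339, 36,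
    374, 362, 13, 351, 24]

/-- the action of the third involution -/
def al (i : ℕ) : ℕ := alList.getD (rList.idxOf i) 0

/-- a power -/
def pw (i : ℕ) : ℕ → ℕ
  | 0 => 0
  | n + 1 => mL (pw i n) i

end Cfsg.Agent.Invol.G23Two
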