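import Cfsg.Agent.Lib.Invol.G23Two.Signal
import Cfsg.Agent.Lib.Grp.Coprime

/-!
# The diagonal elements of order three

If the centralisers of the two factors are small, so is that of every element of order three of the centraliser
of the involution.
-/

set_option autoImplicit false
set_option linter.unusedSectionVars false
set_option linter.style.haveILetI false
set_option maxRecDepth 20000

namespace Cfsg.Agent.Invol.G23Two

open Cfsg.Agent.Invol.PSp43 (beq_iff)

/-- the group generated by the two elements of order three -/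
def p9List : List ℕ := [0, 4, 8, 96, 100, 104, 192, 196, 200]

theorem diag_ok : ([100, 104].all fun y => Nat.beq (cj tI y) (iL y) && com y zI &&
      ((List.range 576).all fun i => !(com i y) ||
        ((!(Nat.beq (mL i i) 0) || Nat.beq i 0 || Nat.beq i zI) &&
          (!(Nat.beq (pw i 3) 0) || p9List.contains i))) &&
      p9List.all fun p => com p y) = true ∧
    (p9List.all fun p => Nat.beq (pw p 3) 0 && p9List.all fun q => com p q && p9List.contains (mL p q)) = true ∧
    ((List.range 576).all fun i => Nat.beq i 0 || !(Nat.beq (pw i 3) 0) ||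
      (List.range 576).any fun k => [96, 4, 100, 104, 192, 8, 200, 196].contains (cj k i)) = true ∧
    ((List.range 576).all fun i => Nat.beq i 0 || !(Nat.beq (pw i 3) 0) ||
      (List.range 576).all fun j => !(Nat.beq (mL j j) 0) || Nat.beq j 0 || Nat.beq j zI || !(com j i)) = true ∧
    iL xI = 192 ∧ iL yI = 8 ∧ iL 100 = 200 ∧ iL 104 = 196 := by
  decide +kernel

theorem p9_lt : ∀ p ∈ p9List, p < 576 := by decide

namespace Loc

variable {G : Type*} [Group G] [Finite G] (L : Loc G)

/-- The odd core of the centraliser of an element, in the whole group. -/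
noncomputable def coreC (y : G) : Subgroup G :=
  (Cfsg.pPrimeCore 2 ↥(Subgroup.centralizer ({y} : Set G))).map (Subgroup.centralizer ({y} : Set G)).subtype

theorem coreC_le {y : G} : coreC y ≤ Subgroup.centralizer ({y} : Set G) := by
  rintro _ ⟨a, -, rfl⟩
  exact a.2

theorem coreC_odd {y : G} {a : G} (ha : a ∈ coreC y) : Odd (orderOf a) := by
  obtain ⟨b, hb, rfl⟩ := ha
  rw [orderOf_injective (Subgroup.centralizer ({y} : Set G)).subtype Subtype.coe_injective b]
  exact Odd.of_dvd_nat (Nat.coprime_two_right.1 Grp.pPrimeCore_coprime) (Subgroup.orderOf_dvd_natCard _ hb)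

theorem coreC_conj {y g : G} (hg : g * y * g⁻¹ = y ∨ g * y * g⁻¹ = y⁻¹) {a : G} (ha : a ∈ coreC y) :
    g * a * g⁻¹ ∈ coreC y := by
  set C := Subgroup.centralizer ({y} : Set G) with hC
  have hmem : ∀ c : G, c ∈ C → ∀ k : G, (k * y * k⁻¹ = y ∨ k * y * k⁻¹ = y⁻¹) → k * c * k⁻¹ ∈ C := by
    intro c hc k hk
    rw [hC, Subgroup.mem_centralizer_singleton_iff] at hc ⊢
    have h1 : Commute (k * c * k⁻¹) (k * y * k⁻¹) := Commute.map (show Commute c y from hc) (MulAut.conj k).toMonoidHom
    rcases hk with e | e <;> rw [e] at h1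
    · exact h1
    · have := h1.inv_right
      rw [inv_inv] at this
      exact this
  have hg' : g⁻¹ * y * g⁻¹⁻¹ = y ∨ g⁻¹ * y * g⁻¹⁻¹ = y⁻¹ := by
    rcases hg with e | e
    · left
      calc g⁻¹ * y * g⁻¹⁻¹ = g⁻¹ * (g * y * g⁻¹) * g⁻¹⁻¹ := by rw [e]
        _ = y := by group
    · right
      have e' : g * y⁻¹ * g⁻¹ = y := by
        rw [show g * y⁻¹ * g⁻¹ = (g * y * g⁻¹)⁻¹ by group, e, inv_inv]
      calc g⁻¹ * y * g⁻¹⁻¹ = g⁻¹ * (g * y⁻¹ * g⁻¹) * g⁻¹⁻¹ := by rw [e']
        _ = y⁻¹ := by group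
  let τ : C ≃* C :=
    { toFun := fun c => ⟨g * c * g⁻¹, hmem c c.2 g hg⟩
      invFun := fun c => ⟨g⁻¹ * c * g⁻¹⁻¹, hmem c c.2 g⁻¹ hg'⟩
      left_inv := fun c => Subtype.ext (by show g⁻¹ * (g * (c : G) * g⁻¹) * g⁻¹⁻¹ = c; group)
      right_inv := fun c => Subtype.ext (by show g * (g⁻¹ * (c : G) * g⁻¹⁻¹) * g⁻¹ = c; group)
      map_mul' := fun c d => Subtype.ext (by
        show g * ((c : G) * d) * g⁻¹ = (g * c * g⁻¹) * (g * d * g⁻¹)
        group) }
  obtain ⟨b, hb, rfl⟩ := ha
  haveI : (Cfsg.pPrimeCore 2 ↥C).Characteristic := inferInstance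
  refine ⟨τ b, ?_, rfl⟩
  have := Subgroup.Characteristic.fixed (H := Cfsg.pPrimeCore 2 ↥C) inferInstance τ
  rw [← this] at hb
  exact hb

/-- The centraliser of a diagonal element is small. -/
theorem diag_small (hx : ∀ g : G, Commute g (L.h.e xI) → Commute g (L.h.e zI)) {yc : ℕ} (hyc : yc = 100 ∨ yc = 104)
    {g : G} (hg : Commute g (L.h.e yc)) : Commute g (L.h.e zI) := by
  classical
  haveI : Fact (Nat.Prime 2) := ⟨Nat.prime_two⟩
  obtain ⟨hy0, hp0, -⟩ := diag_ok
  simp only [List.all_eq_true, Bool.and_eq_true, beq_iff, List.mem_cons, List.not_mem_nil, or_false, List.mem_range,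
    Bool.or_eq_true, Bool.not_eq_true', List.contains_iff_mem] at hy0 hp0
  obtain ⟨⟨⟨hty, hyz⟩, hC0⟩, hPy⟩ := hy0 yc hyc
  have ly : yc < 576 := by rcases hyc with rfl | rfl <;> norm_num
  set y := L.h.e yc with hy
  set z := L.h.e zI with hz
  set t := L.h.e tI with ht
  obtain ⟨-, -, ht2, htz⟩ := L.inverts (s := tI) (Or.inl rfl)
  rw [← ht] at ht2
  rw [← ht, ← hz] at htz
  have z2 : z * z = 1 := L.z2
  have zi : z⁻¹ = z := inv_eq_of_mul_eq_one_right z2
  have hzy : z * y * z⁻¹ = y := by
    rw [← ((L.h.com_iff ly (by norm_num)).2 hyz), mul_inv_cancel_right]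
  have hty' : t * y * t⁻¹ = y⁻¹ := by rw [ht, hy, L.h.conj_e (by norm_num) ly, hty, L.h.e_inv ly]
  set C := Subgroup.centralizer ({y} : Set G) with hCdef
  have hzC : z ∈ C := Subgroup.mem_centralizer_singleton_iff.2 ((L.h.com_iff ly (by norm_num)).2 hyz).symm
  set O := coreC y with hO
  have hz1 : z ≠ 1 := fun e => absurd ((L.h.e_eq_one (by norm_num)).1 e) (by norm_num)
  let zC : C := ⟨z, hzC⟩
  have hzC2 : orderOf zC = 2 := Cfsg.Agent.Invol.orderOf_two_iff.2
    ⟨Subtype.ext z2, fun e => hz1 (congrArg Subtype.val e)⟩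
  -- reduce to the odd core
  suffices hsm : ∀ v ∈ O, Commute v z by
    have hpg : IsPGroup 2 (Subgroup.zpowers zC) :=
      IsPGroup.of_card (n := 1) (by rw [Nat.card_zpowers, hzC2, pow_one])
    obtain ⟨S, hS⟩ := hpg.exists_le_sylow
    have hzS : zC ∈ (S : Subgroup C) := hS (Subgroup.mem_zpowers _)
    have invol : ∀ w : C, orderOf w = 2 → Commute (w : G) z → w = zC := by
      intro w hw2 hwz
      obtain ⟨i, hi, hie⟩ := L.h.mem_cent hwz.eq
      have hcom : com i yc = true :=
        (L.h.com_iff hi ly).1 (by rw [hie]; exact Subgroup.mem_centralizer_singleton_iff.1 w.2)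
      obtain ⟨h3, -⟩ := (hC0 i hi).resolve_left (by rw [hcom]; exact fun e => Bool.noConfusion e)
      have hsq : mL i i = 0 := by
        refine L.h.inj _ (mL_lt _ _) 0 (by norm_num) ?_
        rw [L.h.mul i hi i hi, L.h.e_zero, hie]
        exact congrArg Subtype.val (Cfsg.Agent.Invol.mul_self_of_orderOf_two hw2)
      rcases h3 with (r | r) | r
      · rw [beq_iff.2 hsq] at r; exact absurd r Bool.noConfusion
      · rw [r, L.h.e_zero] at hie
        exact absurd (Subtype.ext hie.symm) (Cfsg.Agent.Invol.ne_one_of_orderOf_two hw2)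
      · rw [r] at hie
        exact Subtype.ext hie.symm
    haveI : Nontrivial (S : Subgroup C) :=
      ⟨⟨⟨zC, hzS⟩, 1, fun e => Cfsg.Agent.Invol.ne_one_of_orderOf_two hzC2 (congrArg Subtype.val e)⟩⟩
    haveI := S.2.center_nontrivial
    obtain ⟨ζ, hζ⟩ := exists_prime_orderOf_dvd_card' (G := Subgroup.center (S : Subgroup C)) 2 (by
      obtain ⟨k, hk⟩ := IsPGroup.iff_card.1 (S.2.to_subgroup (Subgroup.center (S : Subgroup C)))
      rw [hk]
      refine dvd_pow_self 2 fun e => ?_
      rw [e, pow_zero] at hk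
      have := Finite.one_lt_card (α := Subgroup.center (S : Subgroup C))
      omega)
    have hcen : ∀ w : C, w ∈ (S : Subgroup C) → Commute ((ζ : (S : Subgroup C)) : C) w := fun w hw =>
      (congrArg Subtype.val (Subgroup.mem_center_iff.1 ζ.2 ⟨w, hw⟩)).symm
    have hζ2 : orderOf ((ζ : (S : Subgroup C)) : C) = 2 :=
      (orderOf_injective ((S : Subgroup C).subtype.comp (Subgroup.center (S : Subgroup C)).subtype)
        (Subtype.coe_injective.comp Subtype.coe_injective) ζ).trans hζ
    have hζz := invol _ hζ2 ((hcen zC hzS).map C.subtype)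
    have htr : Cfsg.Agent.BS.TwoRankOne C := Cfsg.Agent.BS.twoRankOne_of_sylow S fun a ha b hb a2 b2 => by
      have hc : ∀ w : C, w ∈ (S : Subgroup C) → Commute (w : G) z := fun w hw => by
        have := hcen w hw
        rw [hζz] at this
        exact this.symm.map C.subtype
      rw [invol a a2 (hc a ha), invol b b2 (hc b hb)]
    have hgC : g ∈ C := Subgroup.mem_centralizer_singleton_iff.2 hg
    have hcom := Cfsg.Agent.BS.commutator_mem_oddCore _ C rfl htr zC hzC2 ⟨g, hgC⟩
    have hn : z * g * z * g⁻¹ ∈ O := ⟨_, hcom, by show z * g * z⁻¹ * g⁻¹ = _; rw [zi]⟩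
    have hc := hsm _ hn
    set n := z * g * z * g⁻¹ with hndef
    have hni : z * n * z = n⁻¹ := by
      calc z * (z * g * z * g⁻¹) * z = (z * z) * g * z * g⁻¹ * z := by group
        _ = g * z * g⁻¹ * z := by rw [z2, one_mul]
        _ = g * z⁻¹ * g⁻¹ * z⁻¹ := by rw [zi]
        _ = _ := by rw [hndef]; group
    have hnn : n = n⁻¹ := by
      rw [← hni, ← hc.eq, mul_assoc, z2, mul_one]
    have hn1 : n = 1 := by
      have hd : orderOf n ∣ 2 := orderOf_dvd_of_pow_eq_one (by
        rw [pow_two]; nth_rw 2 [hnn]; rw [mul_inv_cancel])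
      have hodd := coreC_odd hn
      rcases (Nat.dvd_prime Nat.prime_two).1 hd with e | e
      · exact orderOf_eq_one_iff.1 e
      · rw [e] at hodd; exact absurd hodd (by decide)
    show g * z = z * g
    calc g * z = n * g * z := by rw [hn1, one_mul]
      _ = z * g * z * g⁻¹ * g * z := by rw [hndef]
      _ = z * g * (z * z) := by group
      _ = z * g := by rw [z2, mul_one]
  -- the conjugations of the four group
  have hOz : ∀ a ∈ O, z * a * z⁻¹ ∈ O := fun a ha => coreC_conj (Or.inl hzy) ha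
  have hOt : ∀ a ∈ O, t * a * t⁻¹ ∈ O := fun a ha => coreC_conj (Or.inr hty') ha
  have ti : t⁻¹ = t := inv_eq_of_mul_eq_one_right ht2
  have ht1 : t ≠ 1 := fun e => absurd ((L.h.e_eq_one (by norm_num)).1 e) (by norm_num)
  have hto : orderOf t = 2 := Cfsg.Agent.Invol.orderOf_two_iff.2 ⟨ht2, ht1⟩
  have hzo : orderOf z = 2 := Cfsg.Agent.Invol.orderOf_two_iff.2 ⟨z2, hz1⟩
  have hzto : orderOf (z * t) = 2 ^ 1 := by
    rw [pow_one, hz, ht, ← L.h.mul _ (by norm_num) _ (by norm_num), act_ok.2.2.2.2.2.2.2.2.2.2.2.2.2.2.1]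
    exact L.h.ord_two (by norm_num) (by norm_num) act_ok.2.2.2.2.2.2.2.2.2.2.2.1
  set W := Subgroup.closure ({z, t} : Set G) with hW
  have hWp : IsPGroup 2 W := Cfsg.Agent.Invol.isPGroup_closure_pair hzo hto hzto
  have hWn : W ≤ Subgroup.normalizer (O : Set G) := by
    refine (Subgroup.closure_le _).2 ?_
    rintro w (rfl | rfl)
    · refine Subgroup.mem_normalizer_iff.2 fun a => ⟨hOz a, fun h => ?_⟩
      have := hOz _ h
      rwa [zi, show z * (z * a * z) * z = (z * z) * a * (z * z) by group, z2, one_mul, mul_one] at this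
    · refine Subgroup.mem_normalizer_iff.2 fun a => ⟨hOt a, fun h => ?_⟩
      have := hOt _ h
      rwa [ti, show t * (t * a * t) * t = (t * t) * a * (t * t) by group, ht2, one_mul, mul_one] at this
  have hOodd : Odd (Nat.card O) := by
    rw [hO, coreC, Subgroup.card_map_of_injective Subtype.coe_injective]
    exact Nat.coprime_two_right.1 Grp.pPrimeCore_coprime
  -- the odd core is a 3-group
  have h3 : IsPGroup 3 O := by
    by_contra hne
    obtain ⟨q, hq, hqd, hq3⟩ : ∃ q, q.Prime ∧ q ∣ Nat.card O ∧ q ≠ 3 := by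
      by_contra hall
      push Not at hall
      exact hne (IsPGroup.of_card (Nat.eq_prime_pow_of_unique_prime_dvd Nat.card_pos.ne' fun {d} hd hdd => hall d hd hdd))
    haveI : Fact q.Prime := ⟨hq⟩
    have hcop : (Nat.card W).Coprime (Nat.card O) := by
      obtain ⟨k, hk⟩ := IsPGroup.iff_card.1 hWp
      rw [hk]
      exact (Nat.coprime_two_left.2 hOodd).pow_left k
    haveI : Group.IsNilpotent W := hWp.isNilpotent
    obtain ⟨X, hX, hXn⟩ := Grp.exists_invariant_sylow W O hWn hcop (Or.inl inferInstance) q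
    have hX1 : ∀ a ∈ X, a = 1 := by
      intro a ha
      have fpf : ∀ b ∈ X, ∀ w : G, (w = z ∨ w = t ∨ w = L.h.e 300) → Commute b w → b = 1 := by
        intro b hb w hw hc
        have hodd : Odd (orderOf b) := coreC_odd (hX.1 hb)
        have h1 : b * b * b = 1 := by
          rcases hw with rfl | rfl | rfl
          · exact L.cube_z hc hodd
          · exact L.cube_t (Or.inl rfl) hc hodd
          · exact L.cube_t (Or.inr rfl) hc hodd
        have hd : orderOf b ∣ 3 := orderOf_dvd_of_pow_eq_one (by rw [pow_succ, pow_two, h1])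
        obtain ⟨k, hk⟩ := IsPGroup.iff_orderOf.1 hX.2.1 ⟨b, hb⟩
        rw [Subgroup.orderOf_mk] at hk
        rcases (Nat.dvd_prime Nat.prime_three).1 hd with e | e
        · exact orderOf_eq_one_iff.1 e
        · exfalso
          rw [hk] at e
          exact hq3 ((Nat.prime_dvd_prime_iff_eq Nat.prime_three hq).1
            (Nat.prime_three.dvd_of_dvd_pow ⟨1, by omega⟩)).symm
      -- an involution without fixed points inverts
      have inv_of : ∀ w : G, w ∈ W → w * w = 1 → (∀ b ∈ X, Commute b w → b = 1) → ∀ b ∈ X, w * b * w = b⁻¹ := by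
        intro w hwW hw2 hf b hb
        have wi : w⁻¹ = w := inv_eq_of_mul_eq_one_right hw2
        have hwX : ∀ c ∈ X, w * c * w ∈ X := fun c hc => by
          have := (Subgroup.mem_normalizer_iff.1 (hXn hwW) c).1 hc
          rwa [wi] at this
        let f : X → X := fun c => ⟨(c : G)⁻¹ * (w * c * w), X.mul_mem (X.inv_mem c.2) (hwX c c.2)⟩
        have hfi : Function.Injective f := by
          intro c d e
          have e' : (c : G)⁻¹ * (w * c * w) = (d : G)⁻¹ * (w * d * w) := congrArg Subtype.val e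
          have e2 : w * ((d : G) * (c : G)⁻¹) * w = (d : G) * (c : G)⁻¹ := by
            have e3 : w * c * w = (c : G) * ((d : G)⁻¹ * (w * d * w)) := by rw [← e', mul_inv_cancel_left]
            calc w * ((d : G) * (c : G)⁻¹) * w = (w * d * w) * (w * c * w)⁻¹ := by
                  rw [mul_inv_rev, mul_inv_rev, wi, show w * (d : G) * w * (w * ((c : G)⁻¹ * w)) =
                    w * d * (w * w) * (c : G)⁻¹ * w by group, hw2]; group
              _ = (d : G) * (c : G)⁻¹ := by rw [e3]; group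
          have hone := hf _ (X.mul_mem d.2 (X.inv_mem c.2)) (by
            show (d : G) * (c : G)⁻¹ * w = w * ((d : G) * (c : G)⁻¹)
            conv_lhs => rw [← e2, mul_assoc, hw2, mul_one])
          exact Subtype.ext (mul_inv_eq_one.1 hone).symm
        obtain ⟨c, hc⟩ := (Finite.injective_iff_surjective.1 hfi) ⟨b, hb⟩
        have hc' : (c : G)⁻¹ * (w * c * w) = b := congrArg Subtype.val hc
        rw [← hc', mul_inv_rev, inv_inv, mul_inv_rev, mul_inv_rev, wi,
          show w * ((c : G)⁻¹ * (w * c * w)) * w = w * (c : G)⁻¹ * w * c * (w * w) by group, hw2, mul_one]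
        group
      have hzW : z ∈ W := Subgroup.subset_closure (Or.inl rfl)
      have htW : t ∈ W := Subgroup.subset_closure (Or.inr rfl)
      have hzi := inv_of z hzW z2 (fun b hb => fpf b hb z (Or.inl rfl))
      have hti := inv_of t htW ht2 (fun b hb => fpf b hb t (Or.inr (Or.inl rfl)))
      refine fpf a ha _ (Or.inr (Or.inr rfl)) ?_
      rw [show L.h.e 300 = z * t by
        rw [hz, ht, ← L.h.mul _ (by norm_num) _ (by norm_num), act_ok.2.2.2.2.2.2.2.2.2.2.2.2.2.2.1]]
      show a * (z * t) = z * t * a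
      calc a * (z * t) = z * (z * a * z) * t := by
            rw [show z * (z * a * z) * t = (z * z) * a * z * t by group, z2]; group
        _ = z * (t * a * t) * t := by rw [hzi a ha, hti a ha]
        _ = z * t * a * (t * t) := by group
        _ = z * t * a := by rw [ht2, mul_one]
    have hbot : X = ⊥ := (Subgroup.eq_bot_iff_forall X).2 hX1
    have := hX.2.2
    rw [hbot, Subgroup.relIndex_bot_left] at this
    exact this hqd
  -- enlarge by the elementary group of order nine
  let P : Subgroup G :=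
    { carrier := {x | ∃ p ∈ p9List, L.h.e p = x}
      one_mem' := ⟨0, by decide, L.h.e_zero⟩
      mul_mem' := by
        rintro _ _ ⟨p, hp, rfl⟩ ⟨q, hq, rfl⟩
        exact ⟨mL p q, ((hp0 p hp).2 q hq).2, L.h.mul p (p9_lt p hp) q (p9_lt q hq)⟩
      inv_mem' := by
        rintro _ ⟨p, hp, rfl⟩
        refine ⟨mL p p, ((hp0 p hp).2 p hp).2, ?_⟩
        have h := (hp0 p hp).1
        rw [L.h.mul p (p9_lt p hp) p (p9_lt p hp), eq_inv_iff_mul_eq_one, ← pow_two, ← pow_succ,
          ← L.h.e_pow (p9_lt p hp), h, L.h.e_zero] }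
  have hPC : P ≤ C := by
    rintro _ ⟨p, hp, rfl⟩
    exact Subgroup.mem_centralizer_singleton_iff.2 ((L.h.com_iff (p9_lt p hp) ly).2 (hPy p hp))
  have hPn : P ≤ Subgroup.normalizer (O : Set G) := by
    intro p hp
    have hpy : ∀ q ∈ P, q * y * q⁻¹ = y := fun q hq => by
      rw [Subgroup.mem_centralizer_singleton_iff.1 (hPC hq), mul_inv_cancel_right]
    refine Subgroup.mem_normalizer_iff.2 fun a => ⟨fun h => coreC_conj (Or.inl (hpy p hp)) h, fun h => ?_⟩
    have := coreC_conj (Or.inl (hpy _ (inv_mem hp))) h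
    rwa [show p⁻¹ * (p * a * p⁻¹) * p⁻¹⁻¹ = a by group] at this
  have hP3 : IsPGroup 3 P := by
    intro x
    obtain ⟨p, hp, e⟩ := x.2
    refine ⟨1, Subtype.ext ?_⟩
    rw [show (3 : ℕ) ^ 1 = 3 from rfl]
    push_cast
    rw [← e, ← L.h.e_pow (p9_lt p hp), (hp0 p hp).1, L.h.e_zero]
  set O' := O ⊔ P with hO'
  have hO'3 : IsPGroup 3 O' := h3.to_sup_of_normal_left' hP3 hPn
  have hO'C : O' ≤ C := sup_le coreC_le hPC
  have hfix : ∀ a ∈ O', Commute a z → a ∈ P := by
    intro a ha hc
    obtain ⟨i, hi, rfl⟩ := L.h.mem_cent hc.eq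
    have hodd : Odd (orderOf (L.h.e i)) := by
      obtain ⟨k, hk⟩ := IsPGroup.iff_orderOf.1 hO'3 ⟨_, ha⟩
      rw [Subgroup.orderOf_mk] at hk
      rw [hk]
      exact Odd.pow (by decide)
    have h3i : pw i 3 = 0 := by
      refine L.h.inj _ (pw_lt i 3) 0 (by norm_num) ?_
      rw [L.h.e_pow hi, L.h.e_zero, pow_succ, pow_two, L.cube_z hc hodd]
    have hcom : com i yc = true :=
      (L.h.com_iff hi ly).1 (Subgroup.mem_centralizer_singleton_iff.1 (hO'C ha))
    obtain ⟨-, h9⟩ := (hC0 i hi).resolve_left (by rw [hcom]; exact fun e => Bool.noConfusion e)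
    rcases h9 with r | r
    · rw [beq_iff.2 h3i] at r; exact absurd r Bool.noConfusion
    · exact ⟨i, r, rfl⟩
  -- the normaliser of the group of order nine in the enlarged core
  have hzO' : ∀ a ∈ O', z * a * z ∈ O' := by
    have hle : O' ≤ O'.comap (MulAut.conj z).toMonoidHom := by
      refine sup_le (fun a ha => Subgroup.mem_sup_left (hOz a ha)) fun a ha => Subgroup.mem_sup_right ?_
      obtain ⟨p, hp, rfl⟩ := ha
      refine ⟨p, hp, ?_⟩
      show L.h.e p = z * L.h.e p * z⁻¹
      rw [← L.h.e_comm_z (p9_lt p hp), mul_inv_cancel_right]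
    intro a ha
    have : z * a * z⁻¹ ∈ O' := hle ha
    rwa [zi] at this
  have hself : ∀ n ∈ O', (∀ p ∈ P, n * p * n⁻¹ ∈ P) → n ∈ P := by
    intro n hn hnP
    have hzp : ∀ p ∈ P, Commute z p := by
      rintro _ ⟨p, hp, rfl⟩
      exact (L.h.e_comm_z (p9_lt p hp)).symm
    have hc : ∀ p ∈ P, Commute (n⁻¹ * (z * n * z)) p := by
      intro p hp
      show n⁻¹ * (z * n * z) * p = p * (n⁻¹ * (z * n * z))
      have e1 : z * n * z * p = n * p * n⁻¹ * (z * n * z) := by
        calc z * n * z * p = z * n * (p * z) := by rw [mul_assoc, (hzp p hp).eq]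
          _ = z * (n * p * n⁻¹) * n * z := by group
          _ = n * p * n⁻¹ * z * n * z := by rw [(hzp _ (hnP p hp)).eq]
          _ = _ := by group
      rw [mul_assoc, e1]
      group
    have hcm : n⁻¹ * (z * n * z) ∈ O' := mul_mem (inv_mem hn) (hzO' n hn)
    have hcP := hfix _ hcm (hx _ (hc _ ⟨xI, by decide, rfl⟩))
    set c := n⁻¹ * (z * n * z) with hcdef
    have hzc : z * c * z = c := by rw [(hzp c hcP).eq, mul_assoc, z2, mul_one]
    have hc2 : c = c⁻¹ := by
      conv_lhs => rw [← hzc]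
      rw [hcdef, mul_inv_rev, mul_inv_rev, mul_inv_rev, inv_inv, zi]
      calc z * (n⁻¹ * (z * n * z)) * z = z * n⁻¹ * z * n * (z * z) := by group
        _ = z * (n⁻¹ * z) * n := by rw [z2]; group
    have hc1 : c = 1 := by
      have hd : orderOf c ∣ 2 := orderOf_dvd_of_pow_eq_one (by rw [pow_two]; nth_rw 2 [hc2]; rw [mul_inv_cancel])
      obtain ⟨k, hk⟩ := IsPGroup.iff_orderOf.1 hO'3 ⟨c, hcm⟩
      rw [Subgroup.orderOf_mk] at hk
      rcases (Nat.dvd_prime Nat.prime_two).1 hd with e | e
      · exact orderOf_eq_one_iff.1 e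
      · rw [e] at hk
        exact absurd (Nat.Prime.dvd_of_dvd_pow Nat.prime_two ⟨1, by rw [← hk]⟩) (by norm_num)
    refine hfix n hn ?_
    show n * z = z * n
    rw [hcdef, inv_mul_eq_one] at hc1
    calc n * z = z * n * z * z := by rw [← hc1]
      _ = z * n := by rw [mul_assoc, z2, mul_one]
  have hle : O' ≤ P := by
    haveI : Fact (Nat.Prime 3) := ⟨Nat.prime_three⟩
    haveI : Group.IsNilpotent O' := hO'3.isNilpotent
    by_contra hnle
    have hlt : P.subgroupOf O' < ⊤ := lt_top_iff_ne_top.2 fun e => hnle (Subgroup.subgroupOf_eq_top.1 e)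
    obtain ⟨⟨n, hn⟩, hnN, hnP⟩ := SetLike.exists_of_lt (normalizerCondition_of_isNilpotent _ hlt)
    refine hnP (hself n hn fun p hp => ?_)
    exact (Subgroup.mem_normalizer_iff.1 hnN ⟨p, Subgroup.mem_sup_right hp⟩).1 hp
  intro v hv
  obtain ⟨p, hp, rfl⟩ := hle (Subgroup.mem_sup_left hv)
  exact L.h.e_comm_z (p9_lt p hp)

/-- In the small case every element of order three of the centraliser of the involution has a small centraliser. -/
theorem cent_three (hx : ∀ g : G, Commute g (L.h.e xI) → Commute g (L.h.e zI))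
    (hy : ∀ g : G, Commute g (L.h.e yI) → Commute g (L.h.e zI)) {i : ℕ} (hi : i < 576) (h0 : i ≠ 0)
    (h3 : pw i 3 = 0) {g : G} (hg : Commute g (L.h.e i)) : Commute g (L.h.e zI) := by
  obtain ⟨-, -, h, -, e1, e2, e3, e4⟩ := diag_ok
  simp only [List.all_eq_true, List.mem_range, Bool.or_eq_true, Bool.not_eq_true', List.any_eq_true,
    List.contains_iff_mem] at h
  rcases h i hi with (r | r) | ⟨k, hk, r⟩
  · exact absurd (beq_iff.1 r) h0
  · rw [beq_iff.2 h3] at r; exact absurd r Bool.noConfusion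
  have hg' : Commute (L.h.e k * g * (L.h.e k)⁻¹) (L.h.e (cj k i)) := by
    rw [← L.h.conj_e hk hi]; exact hg.map (MulAut.conj (L.h.e k)).toMonoidHom
  have key : Commute (L.h.e k * g * (L.h.e k)⁻¹) (L.h.e zI) := by
    have ninv : ∀ {a : ℕ}, a < 576 → ∀ {w : G}, Commute w (L.h.e (iL a)) → Commute w (L.h.e a) := fun {a} ha {w} hw => by
      have := hw.inv_right
      rwa [L.h.e_inv ha, inv_inv] at this
    generalize cj k i = c at r hg'
    simp only [List.mem_cons, List.not_mem_nil, or_false] at r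
    rcases r with rfl | rfl | rfl | rfl | rfl | rfl | rfl | rfl
    · exact hx _ hg'
    · exact hy _ hg'
    · exact L.diag_small hx (Or.inl rfl) hg'
    · exact L.diag_small hx (Or.inr rfl) hg'
    · exact hx _ (ninv (by norm_num) (by rw [e1]; exact hg'))
    · exact hy _ (ninv (by norm_num) (by rw [e2]; exact hg'))
    · exact L.diag_small hx (Or.inl rfl) (ninv (by norm_num) (by rw [e3]; exact hg'))
    · exact L.diag_small hx (Or.inr rfl) (ninv (by norm_num) (by rw [e4]; exact hg'))
  have hkz : (L.h.e k)⁻¹ * L.h.e zI * L.h.e k = L.h.e zI := by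
    rw [mul_assoc, ← L.h.e_comm_z hk, inv_mul_cancel_left]
  have := key.map (MulAut.conj (L.h.e k)⁻¹).toMonoidHom
  simpa [hkz, mul_assoc] using this

end Loc

end Cfsg.Agent.Invol.G23Two
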