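import Cfsg.Agent.Lib.Invol.G23Two.Signal

/-! The two cases for the centraliser of an element of order three. -/

set_option autoImplicit false
set_option linter.unusedSectionVars false
set_option linter.style.haveILetI false
set_option maxRecDepth 20000

namespace Cfsg.Agent.Invol.G23Two

open Cfsg.Agent.Invol.PSp43 (beq_iff)

namespace Loc

variable {G : Type*} [Group G] [Finite G] (L : Loc G)

/-- The powers of the first element of order three inside its centraliser. -/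
def Xc : Subgroup L.Cx := (Subgroup.zpowers (L.h.e xI)).subgroupOf L.Cx

instance Xc_normal : L.Xc.Normal := by
  refine ⟨fun c hc k => ?_⟩
  show ((k : G) * c * (k : G)⁻¹) ∈ Subgroup.zpowers (L.h.e xI)
  obtain ⟨j, hj⟩ : (c : G) ∈ Subgroup.zpowers (L.h.e xI) := hc
  rw [← hj]
  show (k : G) * L.h.e xI ^ j * (k : G)⁻¹ ∈ _
  rw [((L.mem_Cx.1 k.2).zpow_right j).eq, mul_inv_cancel_right]
  exact zpow_mem (Subgroup.mem_zpowers _) j

/-- The quotient map. -/
def qx : L.Cx →* L.Cx ⧸ L.Xc := QuotientGroup.mk' _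

theorem qx_eq_one {a : L.Cx} : L.qx a = 1 ↔ (a : G) ∈ Subgroup.zpowers (L.h.e xI) :=
  QuotientGroup.eq_one_iff a

theorem x_cube : L.h.e xI * L.h.e xI * L.h.e xI = 1 := by
  have lx : xI < 576 := by norm_num
  rw [mul_assoc, ← L.h.mul _ lx _ lx, ← L.h.mul _ lx _ (mL_lt _ _), act_ok.2.2.2.2.2.2.1, L.h.e_zero]

theorem x_mem_cases {a : G} (ha : a ∈ Subgroup.zpowers (L.h.e xI)) :
    a = 1 ∨ a = L.h.e xI ∨ a = (L.h.e xI)⁻¹ := by
  obtain ⟨k, rfl⟩ := ha
  have h3 : L.h.e xI ^ (3 : ℤ) = 1 := by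
    rw [show (3 : ℤ) = ((3 : ℕ) : ℤ) from rfl, zpow_natCast, pow_succ, pow_two]
    exact L.x_cube
  obtain ⟨q, r, hr, rfl⟩ : ∃ q r : ℤ, (r = 0 ∨ r = 1 ∨ r = -1) ∧ k = 3 * q + r :=
    ⟨(k + 1) / 3, (k + 1) % 3 - 1, by omega, by omega⟩
  dsimp only
  rw [zpow_add, zpow_mul, h3, one_zpow, one_mul]
  rcases hr with rfl | rfl | rfl
  · exact Or.inl (zpow_zero _)
  · exact Or.inr (Or.inl (zpow_one _))
  · exact Or.inr (Or.inr (zpow_neg_one _))

/-- Inverted and fixed powers of the element are trivial. -/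
theorem x_trivial {s : ℕ} (hs : s = tI ∨ s = 300) {a : G} (ha : a ∈ Subgroup.zpowers (L.h.e xI))
    (hc : Commute a (L.h.e s)) : a = 1 := by
  obtain ⟨hx, -, h2, -⟩ := L.inverts hs
  have h1 : a = L.h.e s * a * L.h.e s := by rw [← hc.eq, mul_assoc, h2, mul_one]
  have hinv : L.h.e s * (L.h.e xI)⁻¹ * L.h.e s = L.h.e xI := by
    calc L.h.e s * (L.h.e xI)⁻¹ * L.h.e s = L.h.e s * (L.h.e s * L.h.e xI * L.h.e s) * L.h.e s := by rw [hx]
      _ = (L.h.e s * L.h.e s) * L.h.e xI * (L.h.e s * L.h.e s) := by group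
      _ = L.h.e xI := by rw [h2, one_mul, mul_one]
  have hne : L.h.e xI ≠ (L.h.e xI)⁻¹ := fun e => by
    have h3 := L.x_cube
    rw [show L.h.e xI * L.h.e xI = 1 by nth_rw 2 [e]; exact mul_inv_cancel _, one_mul] at h3
    exact absurd ((L.h.e_eq_one (by norm_num)).1 h3) (by norm_num)
  rcases L.x_mem_cases ha with r | r | r
  · exact r
  · rw [r, hx] at h1
    exact absurd h1 hne
  · rw [r, hinv] at h1
    exact absurd h1.symm hne

/-- A fixed class of the odd core contains an element of order dividing three fixed by `s`. -/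
theorem lift_fix {s : ℕ} (hs : s = tI ∨ s = 300) {p : G} (hp : p ∈ L.Ox)
    (hfix : p⁻¹ * (L.h.e s * p * L.h.e s) ∈ Subgroup.zpowers (L.h.e xI)) :
    ∃ l : G, l ∈ L.Cx ∧ p⁻¹ * l ∈ Subgroup.zpowers (L.h.e xI) ∧ Commute l (L.h.e s) ∧ l * l * l = 1 ∧
      L.h.e zI * l * L.h.e zI = l⁻¹ := by
  obtain ⟨hx, -, h2, hsz⟩ := L.inverts hs
  set x := L.h.e xI with hxdef
  set t := L.h.e s with htdef
  have hti : t⁻¹ = t := inv_eq_of_mul_eq_one_right h2
  obtain ⟨k, hk⟩ := hfix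
  have hk' : t * p * t = p * x ^ k := by rw [show x ^ k = p⁻¹ * (t * p * t) from hk, mul_inv_cancel_left]
  have hpx : Commute p x := L.mem_Cx.1 (L.Ox_le hp)
  have htx : t * x ^ (2 * k) * t = x ^ (-(2 * k)) := by
    have : t * x ^ (2 * k) * t⁻¹ = (t * x * t⁻¹) ^ (2 * k) := (_root_.conj_zpow).symm
    rw [hti, hx, inv_zpow, ← zpow_neg] at this
    exact this
  refine ⟨p * x ^ (2 * k), ?_, ?_, ?_, ?_⟩
  · exact mul_mem (L.Ox_le hp) (zpow_mem L.xI_Cx _)
  · rw [inv_mul_cancel_left]; exact zpow_mem (Subgroup.mem_zpowers _) _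
  · show p * x ^ (2 * k) * t = t * (p * x ^ (2 * k))
    have e : t * (p * x ^ (2 * k)) * t = p * x ^ (2 * k) := by
      calc t * (p * x ^ (2 * k)) * t = (t * p * t) * (t * x ^ (2 * k) * t) := by
            rw [show (t * p * t) * (t * x ^ (2 * k) * t) = t * p * (t * t) * x ^ (2 * k) * t by group, h2]; group
        _ = p * x ^ (k + -(2 * k)) := by rw [hk', htx, mul_assoc, ← zpow_add]
        _ = p * x ^ (2 * k) := by
            congr 1
            rw [show k + -(2 * k) = 2 * k + (-3) * k by ring, zpow_add, zpow_mul x (-3) k,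
              show x ^ (-3 : ℤ) = 1 by
                rw [zpow_neg, show (3 : ℤ) = ((3 : ℕ) : ℤ) from rfl, zpow_natCast, pow_succ, pow_two, L.x_cube,
                  inv_one],
              one_zpow, mul_one]
    calc p * x ^ (2 * k) * t = t * (p * x ^ (2 * k)) * t * t := by rw [e]
      _ = t * (p * x ^ (2 * k)) := by rw [mul_assoc, h2, mul_one]
  · have hc : Commute (p * x ^ (2 * k)) t := by
      show p * x ^ (2 * k) * t = t * (p * x ^ (2 * k))
      have e : t * (p * x ^ (2 * k)) * t = p * x ^ (2 * k) := by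
        calc t * (p * x ^ (2 * k)) * t = (t * p * t) * (t * x ^ (2 * k) * t) := by
              rw [show (t * p * t) * (t * x ^ (2 * k) * t) = t * p * (t * t) * x ^ (2 * k) * t by group, h2]; group
          _ = p * x ^ (k + -(2 * k)) := by rw [hk', htx, mul_assoc, ← zpow_add]
          _ = p * x ^ (2 * k) := by
              congr 1
              rw [show k + -(2 * k) = 2 * k + (-3) * k by ring, zpow_add, zpow_mul x (-3) k,
                show x ^ (-3 : ℤ) = 1 by
                  rw [zpow_neg, show (3 : ℤ) = ((3 : ℕ) : ℤ) from rfl, zpow_natCast, pow_succ, pow_two, L.x_cube,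
                    inv_one],
                one_zpow, mul_one]
      calc p * x ^ (2 * k) * t = t * (p * x ^ (2 * k)) * t * t := by rw [e]
        _ = t * (p * x ^ (2 * k)) := by rw [mul_assoc, h2, mul_one]
    have hodd : Odd (orderOf (p * x ^ (2 * k))) := by
      refine Odd.of_dvd_nat ?_ (Commute.orderOf_mul_dvd_mul_orderOf (hpx.zpow_right _))
      refine (L.Ox_odd hp).mul (Odd.of_dvd_nat (show Odd 3 by decide) (orderOf_dvd_of_pow_eq_one ?_))
      rw [← zpow_natCast, ← zpow_mul, mul_comm, zpow_mul, show x ^ ((3 : ℕ) : ℤ) = 1 by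
        rw [zpow_natCast, pow_succ, pow_two, L.x_cube], one_zpow]
    refine ⟨L.cube_t hs hc hodd, ?_⟩
    have hz2 := L.z2
    set z := L.h.e zI with hzdef
    have hzx : Commute z x := L.mem_Cx.1 L.zI_Cx
    have hm : z * (p * x ^ (2 * k)) * z * (p * x ^ (2 * k)) ∈ Subgroup.zpowers x := by
      have e : z * (p * x ^ (2 * k)) * z * (p * x ^ (2 * k)) = (z * p * z * p) * (x ^ (2 * k) * x ^ (2 * k)) := by
        have a := (hzx.symm.zpow_left (2 * k)).eq
        have b := (hpx.symm.zpow_left (2 * k)).eq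
        calc z * (p * x ^ (2 * k)) * z * (p * x ^ (2 * k))
            = z * p * (x ^ (2 * k) * z) * (p * x ^ (2 * k)) := by group
          _ = z * p * z * (x ^ (2 * k) * p) * x ^ (2 * k) := by rw [a]; group
          _ = _ := by rw [b]; group
      rw [e]
      exact mul_mem (L.Ox_inverted hp) (mul_mem (zpow_mem (Subgroup.mem_zpowers _) _) (zpow_mem (Subgroup.mem_zpowers _) _))
    have hone := L.x_trivial hs hm (((hsz.symm.mul_left hc).mul_left hsz.symm).mul_left hc)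
    exact eq_inv_of_mul_eq_one_left hone

/-- Either the centraliser of the element of order three lies in that of the involution, or there is a big element. -/
theorem dichotomy : (∀ g : G, Commute g (L.h.e xI) → Commute g (L.h.e zI)) ∨ L.Big tI ∨ L.Big 300 := by
  classical
  by_cases hsm : ∀ v ∈ L.Ox, Commute v (L.h.e zI)
  · left
    intro g hg
    obtain ⟨m, hm, hmg⟩ := L.Cx_decomp (L.mem_Cx.2 hg)
    have := (hsm m hm).inv_left.mul_left hmg
    rwa [inv_mul_cancel_left] at this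
  right
  push Not at hsm
  obtain ⟨v, hv, hvz⟩ := hsm
  set x := L.h.e xI with hxdef
  set y := L.h.e yI with hydef
  set z := L.h.e zI with hzdef
  obtain ⟨hx, hy, ht2, htz⟩ := L.inverts (s := tI) (Or.inl rfl)
  set t := L.h.e tI with htdef
  have hti : t⁻¹ = t := inv_eq_of_mul_eq_one_right ht2
  -- the odd core in the quotient
  let O : Subgroup L.Cx := L.Ox.subgroupOf L.Cx
  have hinv : ∀ a ∈ O, L.qx (⟨z, L.zI_Cx⟩ * a * ⟨z, L.zI_Cx⟩) = (L.qx a)⁻¹ := fun a ha => by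
    refine eq_inv_of_mul_eq_one_left ?_
    rw [← map_mul, qx_eq_one]
    exact L.Ox_inverted ha
  have hzq : L.qx ⟨z, L.zI_Cx⟩ * L.qx ⟨z, L.zI_Cx⟩ = 1 := by
    rw [← map_mul, qx_eq_one]
    show z * z ∈ _
    rw [hzdef, L.z2]
    exact one_mem _
  have hab : ∀ a ∈ O, ∀ b ∈ O, Commute (L.qx a) (L.qx b) := fun a ha b hb => by
    have e1 := hinv (a * b) (mul_mem ha hb)
    have e2 := hinv a ha
    have e3 := hinv b hb
    simp only [map_mul] at e1 e2 e3
    have : (L.qx a)⁻¹ * (L.qx b)⁻¹ = (L.qx b)⁻¹ * (L.qx a)⁻¹ := by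
      rw [← mul_inv_rev (L.qx a) (L.qx b), ← e1, ← e2, ← e3]
      calc L.qx ⟨z, L.zI_Cx⟩ * L.qx a * L.qx ⟨z, L.zI_Cx⟩ * (L.qx ⟨z, L.zI_Cx⟩ * L.qx b * L.qx ⟨z, L.zI_Cx⟩)
          = L.qx ⟨z, L.zI_Cx⟩ * L.qx a * (L.qx ⟨z, L.zI_Cx⟩ * L.qx ⟨z, L.zI_Cx⟩) * L.qx b *
              L.qx ⟨z, L.zI_Cx⟩ := by group
        _ = _ := by rw [hzq]; group
    rw [← mul_inv_rev, ← mul_inv_rev, inv_inj] at this
    exact this.symm
  -- the automorphism induced by `t`
  have htC : ∀ a : G, a ∈ L.Cx → t * a * t ∈ L.Cx := by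
    intro a ha
    rw [mem_Cx] at ha ⊢
    show t * a * t * x = x * (t * a * t)
    have hxi : t * x⁻¹ * t = x := by
      calc t * x⁻¹ * t = t * (t * x * t) * t := by rw [hx]
        _ = (t * t) * x * (t * t) := by group
        _ = x := by rw [ht2, one_mul, mul_one]
    calc t * a * t * x = t * a * t * (t * x⁻¹ * t) := by rw [hxi]
      _ = t * (a * x⁻¹) * t := by
          rw [show t * a * t * (t * x⁻¹ * t) = t * a * (t * t) * x⁻¹ * t by group, ht2]; group
      _ = t * (x⁻¹ * a) * t := by rw [ha.inv_right.eq]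
      _ = (t * x⁻¹ * t) * (t * a * t) := by
          rw [show (t * x⁻¹ * t) * (t * a * t) = t * x⁻¹ * (t * t) * a * t by group, ht2]; group
      _ = x * (t * a * t) := by rw [hxi]
  let τ : L.Cx →* L.Cx := MonoidHom.mk' (fun a => ⟨t * a * t, htC a a.2⟩) fun a b => Subtype.ext (by
    show t * ((a : G) * b) * t = (t * a * t) * (t * b * t)
    rw [show (t * (a : G) * t) * (t * b * t) = t * a * (t * t) * b * t by group, ht2]; group)
  have hτO : ∀ a ∈ O, τ a ∈ O := fun a ha => L.Ox_auto ha (Or.inl rfl)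
  have hττ : ∀ a, τ (τ a) = a := fun a => Subtype.ext (by
    show t * (t * (a : G) * t) * t = a
    rw [show t * (t * (a : G) * t) * t = (t * t) * a * (t * t) by group, ht2, one_mul, mul_one])
  have hτX : ∀ a, L.qx a = 1 → L.qx (τ a) = 1 := fun a ha => by
    rw [qx_eq_one] at ha ⊢
    show t * (a : G) * t ∈ _
    obtain ⟨j, hj⟩ := ha
    rw [← hj, show t * x ^ j * t = t * x ^ j * t⁻¹ by rw [hti], ← conj_zpow, hti, hx]
    exact zpow_mem (inv_mem (Subgroup.mem_zpowers _)) _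
  have hτq : ∀ a b, L.qx a = L.qx b → L.qx (τ a) = L.qx (τ b) := fun a b e => by
    have := hτX (a⁻¹ * b) (by rw [map_mul, map_inv, e, inv_mul_cancel])
    rw [map_mul, map_mul, map_inv, map_inv, inv_mul_eq_one] at this
    exact this
  -- a class fixed by `t` or by `z t` is of order three
  have hs300 : L.h.e 300 = z * t := by
    rw [hzdef, htdef, ← L.h.mul _ (by norm_num) _ (by norm_num), act_ok.2.2.2.2.2.2.2.2.2.2.2.2.2.2.1]
  have liftp : ∀ p ∈ O, L.qx (τ p) = L.qx p → ∃ l : L.Cx, L.qx l = L.qx p ∧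
      Commute (l : G) t ∧ (l : G) * l * l = 1 ∧ z * l * z = (l : G)⁻¹ := by
    intro p hp e
    obtain ⟨l, hl, hpl, h1, h2, h3⟩ := L.lift_fix (s := tI) (Or.inl rfl) hp (by
      have := (L.qx_eq_one (a := p⁻¹ * τ p)).1 (by rw [map_mul, map_inv, e, inv_mul_cancel])
      exact this)
    exact ⟨⟨l, hl⟩, (inv_mul_eq_one.1 (by rw [← map_inv, ← map_mul]; exact (L.qx_eq_one).2 hpl)).symm, h1, h2, h3⟩
  have liftq : ∀ p ∈ O, L.qx (τ p) = (L.qx p)⁻¹ → ∃ l : L.Cx, L.qx l = L.qx p ∧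
      Commute (l : G) (L.h.e 300) ∧ (l : G) * l * l = 1 ∧ z * l * z = (l : G)⁻¹ := by
    intro p hp e
    obtain ⟨l, hl, hpl, h1, h2, h3⟩ := L.lift_fix (s := 300) (Or.inr rfl) hp (by
      rw [hs300]
      have hzt : z * t = t * z := htz.symm.eq
      have key : z * t * L.Cx.subtype p * (z * t) = z * (t * L.Cx.subtype p * t) * z := by
        conv_lhs => arg 2; rw [hzt]
        group
      rw [key]
      refine (L.qx_eq_one (a := p⁻¹ * (⟨z, L.zI_Cx⟩ * τ p * ⟨z, L.zI_Cx⟩))).1 ?_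
      rw [map_mul, hinv _ (hτO p hp), map_inv, e, inv_inv, inv_mul_cancel])
    exact ⟨⟨l, hl⟩, (inv_mul_eq_one.1 (by rw [← map_inv, ← map_mul]; exact (L.qx_eq_one).2 hpl)).symm, h1, h2, h3⟩
  have cube_of : ∀ p ∈ O, (L.qx (τ p) = L.qx p ∨ L.qx (τ p) = (L.qx p)⁻¹) →
      L.qx p * L.qx p * L.qx p = 1 := by
    intro p hp e
    obtain ⟨l, hl, hl3⟩ : ∃ l : L.Cx, L.qx l = L.qx p ∧ (l : G) * l * l = 1 := by
      rcases e with e | e
      · obtain ⟨l, a, -, b, -⟩ := liftp p hp e; exact ⟨l, a, b⟩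
      · obtain ⟨l, a, -, b, -⟩ := liftq p hp e; exact ⟨l, a, b⟩
    rw [← hl, ← map_mul, ← map_mul, show l * l * l = 1 from Subtype.ext hl3, map_one]
  have hpfix : ∀ a ∈ O, L.qx (τ (a * τ a)) = L.qx (a * τ a) := fun a ha => by
    rw [map_mul τ, hττ, map_mul, map_mul, (hab _ (hτO a ha) _ ha).eq]
  have hqfix : ∀ a ∈ O, L.qx (τ (a * (τ a)⁻¹)) = (L.qx (a * (τ a)⁻¹))⁻¹ := fun a ha => by
    rw [map_mul τ, map_inv τ, hττ, map_mul, map_mul, map_inv, map_inv, mul_inv_rev, inv_inv]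
  have hexp : ∀ a ∈ O, L.qx a * L.qx a * L.qx a = 1 := by
    intro a ha
    have h1 := cube_of _ (mul_mem ha (hτO a ha)) (Or.inl (hpfix a ha))
    have h2 := cube_of _ (mul_mem ha (inv_mem (hτO a ha))) (Or.inr (hqfix a ha))
    have hc := hab a ha (τ a) (hτO a ha)
    rw [map_mul] at h1
    rw [map_mul, map_inv] at h2
    have h6 : L.qx a ^ 6 = 1 := by
      have e1 : (L.qx a * L.qx (τ a)) ^ 3 = 1 := by rw [pow_succ, pow_two]; exact h1
      have e2 : (L.qx a * (L.qx (τ a))⁻¹) ^ 3 = 1 := by rw [pow_succ, pow_two]; exact h2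
      rw [hc.mul_pow] at e1
      rw [hc.inv_right.mul_pow, inv_pow] at e2
      rw [show (6 : ℕ) = 3 + 3 from rfl, pow_add]
      calc L.qx a ^ 3 * L.qx a ^ 3
          = (L.qx a ^ 3 * ((L.qx (τ a)) ^ 3)⁻¹) * (L.qx a ^ 3 * (L.qx (τ a)) ^ 3) := by
            conv_lhs => arg 2; rw [← mul_one (L.qx a ^ 3)]
            rw [e1, e2, mul_one, mul_one]
            rw [show L.qx a ^ 3 = ((L.qx (τ a)) ^ 3)⁻¹ from eq_inv_of_mul_eq_one_left e1] at e2 ⊢
            exact e2
        _ = 1 := by rw [e1, e2, one_mul]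
    have hodd : Odd (orderOf (L.qx a)) := by
      refine Odd.of_dvd_nat (L.Ox_odd ha) ?_
      rw [orderOf_injective L.Cx.subtype Subtype.coe_injective a]
      exact orderOf_map_dvd L.qx a
    have hd := orderOf_dvd_of_pow_eq_one h6
    have h3 : orderOf (L.qx a) ∣ 3 :=
      (Nat.coprime_two_right.2 hodd).dvd_of_dvd_mul_left (show orderOf (L.qx a) ∣ 2 * 3 from hd)
    have := orderOf_dvd_iff_pow_eq_one.1 h3
    rwa [pow_succ, pow_two] at this
  -- a fixed class of the second element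
  let yC : L.Cx := ⟨y, L.yI_Cx⟩
  have hyO : ∀ a ∈ O, yC * a * yC⁻¹ ∈ O := fun a ha => L.Ox_conj ha L.yI_Cx
  have hy3 : yC * yC * yC = 1 := Subtype.ext (by
    show y * y * y = 1
    rw [hydef, mul_assoc, ← L.h.mul _ (by norm_num) _ (by norm_num), ← L.h.mul _ (by norm_num) _ (mL_lt _ _),
      act_ok.2.2.2.2.2.2.2.1, L.h.e_zero])
  obtain ⟨f, hf, hf1, hfy⟩ : ∃ f ∈ O, L.qx f ≠ 1 ∧ L.qx (yC * f * yC⁻¹) = L.qx f := by
    let a : L.Cx := ⟨v, L.Ox_le hv⟩
    have ha : a ∈ O := hv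
    have ha1 : L.qx a ≠ 1 := fun e => hvz (L.x_sub ((L.qx_eq_one).1 e))
    set Y := L.qx yC with hY
    have hconj : ∀ w, L.qx (yC * w * yC⁻¹) = Y * L.qx w * Y⁻¹ := fun w => by rw [map_mul, map_mul, map_inv]
    have hY3 : Y * Y * Y = 1 := by rw [hY, ← map_mul, ← map_mul, hy3, map_one]
    let a1 := yC * a * yC⁻¹
    let a2 := yC * a1 * yC⁻¹
    have ha1' : a1 ∈ O := hyO a ha
    have ha2' : a2 ∈ O := hyO a1 ha1'
    have hcyc : Y * L.qx a2 * Y⁻¹ = L.qx a := by
      show Y * L.qx (yC * (yC * a * yC⁻¹) * yC⁻¹) * Y⁻¹ = _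
      rw [hconj, hconj]
      calc Y * (Y * (Y * L.qx a * Y⁻¹) * Y⁻¹) * Y⁻¹ = (Y * Y * Y) * L.qx a * (Y * Y * Y)⁻¹ := by group
        _ = L.qx a := by rw [hY3]; group
    by_cases hN : L.qx (a * a1 * a2) = 1
    · by_cases hD : L.qx a1 = L.qx a
      · exact ⟨a, ha, ha1, hD⟩
      · refine ⟨a⁻¹ * a1, mul_mem (inv_mem ha) ha1', fun e => hD ?_, ?_⟩
        · rw [map_mul, map_inv, inv_mul_eq_one] at e
          exact e.symm
        · have e0 : L.qx a2 = (L.qx a * L.qx a1)⁻¹ := by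
            rw [map_mul, map_mul] at hN
            exact eq_inv_of_mul_eq_one_right hN
          have ea : L.qx a * L.qx a = (L.qx a)⁻¹ := eq_inv_of_mul_eq_one_left (hexp a ha)
          have eb : (L.qx a1)⁻¹ * (L.qx a1)⁻¹ = L.qx a1 := by
            rw [← mul_inv_rev]; exact inv_eq_of_mul_eq_one_right (hexp a1 ha1')
          have cc := hab a ha a1 ha1'
          rw [hconj, map_mul, map_inv,
            show Y * ((L.qx a)⁻¹ * L.qx a1) * Y⁻¹ = (Y * L.qx a * Y⁻¹)⁻¹ * (Y * L.qx a1 * Y⁻¹) by group,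
            ← hconj a, ← hconj a1]
          show (L.qx a1)⁻¹ * L.qx a2 = _
          calc (L.qx a1)⁻¹ * L.qx a2 = (L.qx a1)⁻¹ * (L.qx a1)⁻¹ * (L.qx a)⁻¹ := by rw [e0]; group
            _ = L.qx a1 * (L.qx a)⁻¹ := by rw [eb]
            _ = (L.qx a)⁻¹ * L.qx a1 := cc.symm.inv_right.eq
    · refine ⟨a * a1 * a2, mul_mem (mul_mem ha ha1') ha2', hN, ?_⟩
      rw [hconj, map_mul, map_mul]
      calc Y * (L.qx a * L.qx a1 * L.qx a2) * Y⁻¹
          = (Y * L.qx a * Y⁻¹) * (Y * L.qx a1 * Y⁻¹) * (Y * L.qx a2 * Y⁻¹) := by group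
        _ = L.qx a1 * L.qx a2 * L.qx a := by rw [← hconj a, ← hconj a1, hcyc]
        _ = L.qx a * L.qx a1 * L.qx a2 := by
            have c := (hab a ha a1 ha1').mul_right (hab a ha a2 ha2')
            rw [mul_assoc (L.qx a), c.eq]
  -- the final element
  have hτy : τ yC = yC⁻¹ := Subtype.ext hy
  have hτfy : L.qx (yC * τ f * yC⁻¹) = L.qx (τ f) := by
    have hf' : L.qx (yC⁻¹ * f * yC) = L.qx f := by
      rw [map_mul, map_mul, map_inv]
      rw [map_mul, map_mul, map_inv] at hfy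
      conv_lhs => rw [← hfy]
      group
    have := hτq _ _ hf'
    rwa [map_mul τ, map_mul τ, map_inv τ, hτy, inv_inv] at this
  have hmul : ∀ a b : L.Cx, L.qx (yC * a * yC⁻¹) = L.qx a → L.qx (yC * b * yC⁻¹) = L.qx b →
      L.qx (yC * (a * b) * yC⁻¹) = L.qx (a * b) := fun a b ea eb => by
    rw [show yC * (a * b) * yC⁻¹ = (yC * a * yC⁻¹) * (yC * b * yC⁻¹) by group, map_mul, ea, eb, map_mul]
  have final : ∀ {s : ℕ}, s = tI ∨ s = 300 → ∀ p l : L.Cx, L.qx p ≠ 1 → L.qx (yC * p * yC⁻¹) = L.qx p →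
      L.qx l = L.qx p → Commute (l : G) (L.h.e s) → (l : G) * l * l = 1 → z * l * z = (l : G)⁻¹ → L.Big s := by
    intro s hs p l hp hpy hl hls hl3 hlz
    have hzz : z * z = 1 := L.z2
    refine ⟨l, fun e => hp ?_, hl3, L.mem_Cx.1 l.2, ?_, hls, hlz⟩
    · rw [← hl, qx_eq_one, e]; exact one_mem _
    · have hm : y * l * y⁻¹ * (l : G)⁻¹ ∈ Subgroup.zpowers x := by
        refine (L.qx_eq_one (a := yC * l * yC⁻¹ * l⁻¹)).1 ?_
        rw [map_mul, map_inv, show L.qx (yC * l * yC⁻¹) = L.qx l by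
          rw [map_mul, map_mul, hl, ← map_mul, ← map_mul, hpy], mul_inv_cancel]
      set c := y * l * y⁻¹ * (l : G)⁻¹ with hc
      have hzy : z * y = y * z := (L.h.e_comm_z (show yI < 576 by norm_num)).symm
      have hzyi : z * y⁻¹ = y⁻¹ * z := (Commute.inv_right (show Commute z y from hzy)).eq
      have hzc : z * c * z = c := by
        rw [← (L.x_sub hm).eq, mul_assoc, hzz, mul_one]
      have hlc : Commute (l : G) c := by
        obtain ⟨j, hj⟩ := hm
        rw [← hj]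
        exact (L.mem_Cx.1 l.2).zpow_right j
      have hyl : y * l * y⁻¹ = c * l := by rw [hc]; group
      have e1 : c = y * (l : G)⁻¹ * y⁻¹ * l := by
        calc c = z * (y * l * y⁻¹ * (l : G)⁻¹) * z := hzc.symm
          _ = (z * y) * l * y⁻¹ * (l : G)⁻¹ * z := by group
          _ = y * (z * l) * y⁻¹ * (l : G)⁻¹ * z := by rw [hzy]; group
          _ = y * ((l : G)⁻¹ * z) * y⁻¹ * (l : G)⁻¹ * z := by
              rw [show z * (l : G) = (l : G)⁻¹ * z by rw [← hlz, mul_assoc, hzz, mul_one]]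
          _ = y * (l : G)⁻¹ * (z * y⁻¹) * (l : G)⁻¹ * z := by group
          _ = y * (l : G)⁻¹ * y⁻¹ * (z * (l : G)⁻¹ * z) := by rw [hzyi]; group
          _ = y * (l : G)⁻¹ * y⁻¹ * l := by
              rw [show z * (l : G)⁻¹ * z = l by
                conv_rhs => rw [← inv_inv (l : G), ← hlz, mul_inv_rev, mul_inv_rev, inv_eq_of_mul_eq_one_right hzz,
                  ← mul_assoc]]
      have e2 : c = c⁻¹ := by
        conv_lhs => rw [e1]
        rw [show y * (l : G)⁻¹ * y⁻¹ = (y * l * y⁻¹)⁻¹ by group, hyl, mul_inv_rev, hlc.inv_inv.eq,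
          inv_mul_cancel_right]
      have hc1 : c = 1 := by
        rcases L.x_mem_cases hm with r | r | r
        · exact r
        all_goals
          exfalso
          have h3 := L.x_cube
          have h2 : x = x⁻¹ := by
            first
              | (rw [r, inv_inv] at e2; exact e2.symm)
              | (rw [r] at e2; exact e2)
          rw [show L.h.e xI * L.h.e xI = 1 by nth_rw 2 [show L.h.e xI = (L.h.e xI)⁻¹ from h2]; exact mul_inv_cancel _,
            one_mul] at h3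
          exact absurd ((L.h.e_eq_one (by norm_num)).1 h3) (by norm_num)
      rw [hc1, one_mul] at hyl
      exact (mul_inv_eq_iff_eq_mul.1 hyl).symm
  by_cases hp : L.qx (f * τ f) = 1
  · right
    have hq : L.qx (f * (τ f)⁻¹) ≠ 1 := fun e => hf1 (by
      rw [map_mul] at hp
      rw [map_mul, map_inv] at e
      have e2 : L.qx f * L.qx f = 1 := by
        nth_rw 2 [mul_inv_eq_one.1 e]
        exact hp
      have := hexp f hf
      rwa [e2, one_mul] at this)
    obtain ⟨l, hl, hlt, hl3, hlz⟩ := liftq _ (mul_mem hf (inv_mem (hτO f hf))) (hqfix f hf)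
    refine final (Or.inr rfl) _ l hq (hmul f _ hfy ?_) hl hlt hl3 hlz
    rw [map_mul, map_mul, map_inv] at hτfy
    rw [map_mul, map_mul, map_inv, map_inv]
    conv_rhs => rw [← hτfy]
    group
  · left
    obtain ⟨l, hl, hlt, hl3, hlz⟩ := liftp _ (mul_mem hf (hτO f hf)) (hpfix f hf)
    exact final (Or.inl rfl) _ l hp (hmul f _ hfy hτfy) hl hlt hl3 hlz

theorem flip_big (h : L.Big 300) : L.flip.Big tI := by
  obtain ⟨a, a1, a3, ax, ay, as, az⟩ := h
  obtain ⟨-, s2, s3, s4, s5, -⟩ := sw_vals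
  refine ⟨a, a1, a3, ?_, ?_, ?_, ?_⟩
  · show Commute a (L.h.e (psi xI)); rw [s3]; exact ay
  · show Commute a (L.h.e (psi yI)); rw [s4]; exact ax
  · show Commute a (L.h.e (psi tI)); rw [s5]; exact as
  · show L.h.e (psi zI) * a * L.h.e (psi zI) = a⁻¹; rw [s2]; exact az

/-- A big element gives `G₂(3)`. -/
theorem big_recog (h : L.Big tI) : Nonempty (Cfsg.Agent.Fus.GTwoThree.G ≃* L.G0) := by
  obtain ⟨a, a1, a3, ax, ay, as, az⟩ := h
  obtain ⟨m1, m2⟩ := L.mv_t
  have hc : Commute (L.mv * a * L.mv⁻¹) (L.h.e zI) := by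
    rw [← m1]; exact as.map (MulAut.conj L.mv).toMonoidHom
  obtain ⟨c, hc', hce⟩ := L.h.mem_cent hc.eq
  have hcube : L.h.e c * L.h.e c * L.h.e c = 1 := by
    rw [hce, show L.mv * a * L.mv⁻¹ * (L.mv * a * L.mv⁻¹) * (L.mv * a * L.mv⁻¹) = L.mv * (a * a * a) * L.mv⁻¹ by
      group, a3]
    group
  have h300i : (L.h.e 300)⁻¹ = L.h.e 300 := inv_eq_of_mul_eq_one_right (L.inverts (s := 300) (Or.inr rfl)).2.2.1
  have hinv : cj 300 c = iL c := by
    refine L.h.inj _ (cj_lt _ _) _ (iL_lt c) ?_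
    rw [← L.h.conj_e (by norm_num) hc', L.h.e_inv hc', h300i, hce, ← m2,
      show L.mv * L.h.e zI * L.mv⁻¹ * (L.mv * a * L.mv⁻¹) * (L.mv * L.h.e zI * L.mv⁻¹) =
        L.mv * (L.h.e zI * a * L.h.e zI) * L.mv⁻¹ by group, az]
    group
  have hp3 : pw c 3 = 0 := by
    refine L.h.inj _ (pw_lt c 3) 0 (by norm_num) ?_
    rw [L.h.e_pow hc' 3, L.h.e_zero, pow_succ, pow_two]
    exact hcube
  have hc0 : c ≠ 0 := fun e => a1 (by
    rw [e, L.h.e_zero] at hce
    exact conj_eq_one_iff.1 hce.symm)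
  have h := cand_ok.2
  simp only [List.all_eq_true, List.mem_range, Bool.or_eq_true, Bool.not_eq_true', List.any_eq_true] at h
  have hsel := h c hc'
  rcases hsel with ((r | r) | r) | ⟨p, hp, r⟩
  · exact absurd (beq_iff.1 r) hc0
  · rw [beq_iff.2 hp3] at r; exact absurd r Bool.noConfusion
  · rw [beq_iff.2 hinv] at r; exact absurd r Bool.noConfusion
  have hconj : ∀ d, L.h.e d = L.mv * a * L.mv⁻¹ → L.mv⁻¹ * L.h.e d * L.mv = a := fun d e => by rw [e]; group
  rcases r with r | r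
  · obtain ⟨p1, p2⟩ := p
    obtain rfl : p1 = c := beq_iff.1 r
    refine L.cases_c hp ?_ ?_ <;> show Commute (L.mv⁻¹ * L.h.e p1 * L.mv) _ <;> rw [hconj p1 hce]
    · exact ax
    · exact ay
  · obtain ⟨p1, p2⟩ := p
    obtain rfl : p1 = iL c := beq_iff.1 r
    have he : L.mv⁻¹ * L.h.e (iL c) * L.mv = a⁻¹ := by
      rw [L.h.e_inv hc', hce]; group
    refine L.cases_c hp ?_ ?_ <;> show Commute (L.mv⁻¹ * L.h.e (iL c) * L.mv) _ <;> rw [he]
    · exact ax.inv_left
    · exact ay.inv_left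

/-- The first alternative: everything is `G₂(3)` or the centralisers of both elements are small. -/
theorem small_or_recog : (∃ L' : Loc G, Nonempty (Cfsg.Agent.Fus.GTwoThree.G ≃* L'.G0)) ∨
    ((∀ g : G, Commute g (L.h.e xI) → Commute g (L.h.e zI)) ∧
      ∀ g : G, Commute g (L.h.e yI) → Commute g (L.h.e zI)) := by
  have key : ∀ M : Loc G, M.Big tI ∨ M.Big 300 → ∃ L' : Loc G, Nonempty (Cfsg.Agent.Fus.GTwoThree.G ≃* L'.G0) :=
    fun M h => h.elim (fun h => ⟨M, M.big_recog h⟩) fun h => ⟨M.flip, M.flip.big_recog (M.flip_big h)⟩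
  rcases L.dichotomy with hx | hx
  · rcases L.flip.dichotomy with hy | hy
    · refine Or.inr ⟨hx, fun g hg => ?_⟩
      have := hy g (show Commute g (L.h.e (psi xI)) by rw [sw_vals.2.2.1]; exact hg)
      have e : L.flip.h.e zI = L.h.e zI := congrArg L.h.e sw_vals.2.1
      rwa [e] at this
    · exact Or.inl (key _ hy)
  · exact Or.inl (key _ hx)

end Loc

end Cfsg.Agent.Invol.G23Two
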