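import Mathlib
import Cfsg.Agent.S0249
import Cfsg.Agent.Lib.Grp.TwoSymFour.Known
import Cfsg.Agent.Lib.Invol.Basic

/-!
# A group of order 1344 over an elementary group of order eight induces all its automorphisms
-/

set_option autoImplicit false
set_option linter.unusedSectionVars false
set_option linter.style.haveILetI false
set_option maxRecDepth 100000

namespace Cfsg.Agent.Invol.G23Two

open Matrix

theorem zmod2_cube : ∀ r : ZMod 2, r ^ 3 = 1 → r = 1 := by decide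

theorem sl32_simple : IsSimpleGroup (Matrix.SpecialLinearGroup (Fin 3) (ZMod 2)) := by
  haveI : Fact (Nat.Prime 2) := ⟨Nat.prime_two⟩
  haveI := Cfsg.Agent.S0249.result (F := ZMod 2) 3 le_rfl
  let π : Matrix.SpecialLinearGroup (Fin 3) (ZMod 2) →*
      Matrix.ProjectiveSpecialLinearGroup (Fin 3) (ZMod 2) := QuotientGroup.mk' _
  have hinj : Function.Injective π := by
    rw [injective_iff_map_eq_one]
    intro g hg
    have hc : g ∈ Subgroup.center (Matrix.SpecialLinearGroup (Fin 3) (ZMod 2)) :=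
      (QuotientGroup.eq_one_iff g).1 hg
    obtain ⟨r, hr, he⟩ := Matrix.SpecialLinearGroup.mem_center_iff.1 hc
    have h1 : r = 1 := by
      rw [Fintype.card_fin] at hr
      exact zmod2_cube r hr
    refine Subtype.ext ?_
    rw [← he, h1, map_one]
    rfl
  exact (MulEquiv.ofBijective π ⟨hinj, QuotientGroup.mk'_surjective _⟩).isSimpleGroup

/-- A basis of an elementary abelian group of order eight. -/
def Basis8 {G : Type*} [Group G] (a b c : G) : Prop :=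
  a ≠ 1 ∧ b ≠ 1 ∧ b ≠ a ∧ c ≠ 1 ∧ c ≠ a ∧ c ≠ b ∧ c ≠ a * b

theorem triples_count :
    (Finset.univ.filter fun p : Fin 8 × Fin 8 × Fin 8 => p.1 ≠ 0 ∧ p.2.1 ≠ 0 ∧ p.2.1 ≠ p.1 ∧ p.2.2 ≠ 0 ∧
      p.2.2 ≠ p.1 ∧ p.2.2 ≠ p.2.1 ∧ (p.2.2 : ℕ) ≠ Nat.xor p.1 p.2.1).card = 168 := by
  decide +kernel

/-- The hypothesis on the subgroup. -/
structure Eight {G : Type*} [Group G] (M V : Subgroup G) : Prop where
  le : V ≤ M
  card : Nat.card V = 8
  sq : ∀ v ∈ V, v * v = 1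
  comm : ∀ v ∈ V, ∀ w ∈ V, v * w = w * v
  norm : ∀ m ∈ M, ∀ v ∈ V, m * v * m⁻¹ ∈ V
  cardM : Nat.card M = 1344
  cent : ∀ m ∈ M, (∀ v ∈ V, m * v = v * m) → m ∈ V

namespace Eight

variable {G : Type*} [Group G] [Finite G] {M V : Subgroup G} (h : Eight M V) {a b c : G}

/-- The elements in the coordinates of a basis. -/
def tri (a b c : G) (i : Fin 8) : G :=
  (if (i : ℕ) % 2 = 1 then a else 1) * (if (i : ℕ) / 2 % 2 = 1 then b else 1) * (if (i : ℕ) / 4 % 2 = 1 then c else 1)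

include h

theorem tri_mem (ha : a ∈ V) (hb : b ∈ V) (hc : c ∈ V) (i : Fin 8) : tri a b c i ∈ V := by
  refine mul_mem (mul_mem ?_ ?_) ?_ <;> split_ifs <;> first | assumption | exact one_mem _

theorem tri_mul (ha : a ∈ V) (hb : b ∈ V) (hc : c ∈ V) (i j : Fin 8) (k : Fin 8)
    (hk : (k : ℕ) = Nat.xor i j) : tri a b c i * tri a b c j = tri a b c k := by
  have ca := h.comm a ha
  have eab := h.comm a ha b hb
  have eac := h.comm a ha c hc
  have ebc := h.comm b hb c hc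
  have sa := h.sq a ha
  have sb := h.sq b hb
  have sc := h.sq c hc
  have aa : ∀ x : G, a * (a * x) = x := fun x => by rw [← mul_assoc, sa, one_mul]
  have bb : ∀ x : G, b * (b * x) = x := fun x => by rw [← mul_assoc, sb, one_mul]
  have cc : ∀ x : G, c * (c * x) = x := fun x => by rw [← mul_assoc, sc, one_mul]
  have ba : ∀ x : G, b * (a * x) = a * (b * x) := fun x => by rw [← mul_assoc, ← eab, mul_assoc]
  have ca' : ∀ x : G, c * (a * x) = a * (c * x) := fun x => by rw [← mul_assoc, ← eac, mul_assoc]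
  have cb : ∀ x : G, c * (b * x) = b * (c * x) := fun x => by rw [← mul_assoc, ← ebc, mul_assoc]
  fin_cases i <;> fin_cases j <;> fin_cases k <;>
    first
      | (exfalso; revert hk; decide)
      | simp [tri, mul_assoc, sa, sb, sc, aa, bb, cc, ba, ca', cb, ← eab, ← eac, ← ebc]

theorem tri_eq_one (hB : Basis8 a b c) (ha : a ∈ V) (hb : b ∈ V) (hc : c ∈ V) {i : Fin 8}
    (hi : tri a b c i = 1) : i = 0 := by
  obtain ⟨h1, h2, h3, h4, h5, h6, h7⟩ := hB
  have inv : ∀ {x y : G}, x ∈ V → x * y = 1 → y = x := fun {x y} hx e => by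
    rw [eq_inv_of_mul_eq_one_right e]; exact inv_eq_of_mul_eq_one_right (h.sq x hx)
  fin_cases i
  · rfl
  all_goals exfalso
  · exact h1 (by simpa [tri] using hi)
  · exact h2 (by simpa [tri] using hi)
  · exact h3 (inv ha (by simpa [tri] using hi))
  · exact h4 (by simpa [tri] using hi)
  · exact h5 (inv ha (by simpa [tri] using hi))
  · exact h6 (inv hb (by simpa [tri] using hi))
  · exact h7 (inv (mul_mem ha hb) (by simpa [tri] using hi))

theorem tri_injective (hB : Basis8 a b c) (ha : a ∈ V) (hb : b ∈ V) (hc : c ∈ V) :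
    Function.Injective (tri a b c) := by
  intro i j e
  let k : Fin 8 := ⟨Nat.xor i j, Nat.xor_lt_two_pow (n := 3) i.isLt j.isLt⟩
  have e1 := h.tri_mul ha hb hc i j k rfl
  rw [e, h.sq _ (h.tri_mem ha hb hc j)] at e1
  have e2 := congrArg Fin.val (h.tri_eq_one hB ha hb hc e1.symm)
  exact Fin.ext (Nat.xor_eq_zero_iff.mp (by simpa [k] using e2))

theorem exists_tri (hB : Basis8 a b c) (ha : a ∈ V) (hb : b ∈ V) (hc : c ∈ V) {v : G} (hv : v ∈ V) :
    ∃ i, tri a b c i = v := by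
  have hbij : Function.Bijective (fun i => (⟨tri a b c i, h.tri_mem ha hb hc i⟩ : V)) := by
    refine (Nat.bijective_iff_injective_and_card _).2
      ⟨fun i j e => h.tri_injective hB ha hb hc (congrArg Subtype.val e), ?_⟩
    rw [h.card, Nat.card_fin]
  obtain ⟨i, hi⟩ := hbij.2 ⟨v, hv⟩
  exact ⟨i, congrArg Subtype.val hi⟩

theorem eq_on_basis (hB : Basis8 a b c) (ha : a ∈ V) (hb : b ∈ V) (hc : c ∈ V) {m : G}
    (e1 : m * a * m⁻¹ = a) (e2 : m * b * m⁻¹ = b) (e3 : m * c * m⁻¹ = c) {v : G} (hv : v ∈ V) : m * v = v * m := by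
  obtain ⟨i, rfl⟩ := h.exists_tri hB ha hb hc hv
  have key : ∀ {x y : G}, Commute m x → Commute m y → Commute m (x * y) := fun hx hy => hx.mul_right hy
  have step : ∀ (p : Prop) [Decidable p] {x : G}, m * x * m⁻¹ = x → Commute m (if p then x else 1) := by
    intro p _ x hx
    by_cases hp : p
    · rw [if_pos hp]; exact mul_inv_eq_iff_eq_mul.1 hx
    · rw [if_neg hp]; exact Commute.one_right m
  exact (key (key (step _ e1) (step _ e2)) (step _ e3)).eq

/-- Every automorphism of the elementary group is induced. -/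
theorem full {a' b' c' : G} (hB : Basis8 a b c) (ha : a ∈ V) (hb : b ∈ V) (hc : c ∈ V) (hB' : Basis8 a' b' c')
    (ha' : a' ∈ V) (hb' : b' ∈ V) (hc' : c' ∈ V) :
    ∃ m ∈ M, m * a * m⁻¹ = a' ∧ m * b * m⁻¹ = b' ∧ m * c * m⁻¹ = c' := by
  classical
  let W : Subgroup M := V.subgroupOf M
  haveI hWn : W.Normal := ⟨fun v hv m => h.norm m m.2 v hv⟩
  have hW : Nat.card W = 8 := (Nat.card_congr (Subgroup.subgroupOfEquivOfLe h.le).toEquiv).trans h.card
  have hidx : Nat.card (M ⧸ W) = 168 := by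
    have := W.card_eq_card_quotient_mul_card_subgroup
    rw [h.cardM, hW] at this
    omega
  have hex : ∀ {v : G}, v ∈ V → ∃ i, tri a b c i = v := fun hv => h.exists_tri hB ha hb hc hv
  have inj := h.tri_injective hB ha hb hc
  choose φ hφ using fun v : V => hex v.2
  let T := {p : Fin 8 × Fin 8 × Fin 8 // p.1 ≠ 0 ∧ p.2.1 ≠ 0 ∧ p.2.1 ≠ p.1 ∧ p.2.2 ≠ 0 ∧
      p.2.2 ≠ p.1 ∧ p.2.2 ≠ p.2.1 ∧ (p.2.2 : ℕ) ≠ Nat.xor p.1 p.2.1}
  have hT : Nat.card T = 168 := by rw [Nat.card_eq_fintype_card, Fintype.card_subtype]; exact triples_count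
  -- the coordinates of a basis
  have htrip : ∀ {x y w : G} (hx : x ∈ V) (hy : y ∈ V) (hw : w ∈ V), Basis8 x y w →
      φ ⟨x, hx⟩ ≠ 0 ∧ φ ⟨y, hy⟩ ≠ 0 ∧ φ ⟨y, hy⟩ ≠ φ ⟨x, hx⟩ ∧ φ ⟨w, hw⟩ ≠ 0 ∧ φ ⟨w, hw⟩ ≠ φ ⟨x, hx⟩ ∧
        φ ⟨w, hw⟩ ≠ φ ⟨y, hy⟩ ∧ (φ ⟨w, hw⟩ : ℕ) ≠ Nat.xor (φ ⟨x, hx⟩) (φ ⟨y, hy⟩) := by
    rintro x y w hx hy hw ⟨p1, p2, p3, p4, p5, p6, p7⟩
    have h0 : ∀ {x : G} (hx : x ∈ V), x ≠ 1 → φ ⟨x, hx⟩ ≠ 0 := fun {x} hx hne e => hne (by
      have := hφ ⟨x, hx⟩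
      rw [e] at this
      simpa [tri] using this.symm)
    have hne : ∀ {x y : G} (hx : x ∈ V) (hy : y ∈ V), x ≠ y → φ ⟨x, hx⟩ ≠ φ ⟨y, hy⟩ := fun {x y} hx hy hne e => hne (by
      have h1 := hφ ⟨x, hx⟩
      rw [e, hφ ⟨y, hy⟩] at h1
      exact h1.symm)
    refine ⟨h0 hx p1, h0 hy p2, hne hy hx p3, h0 hw p4, hne hw hx p5, hne hw hy p6, fun e => p7 ?_⟩
    have := h.tri_mul ha hb hc (φ ⟨x, hx⟩) (φ ⟨y, hy⟩) (φ ⟨w, hw⟩) e
    rw [hφ, hφ, hφ] at this
    exact this.symm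
  have hconjB : ∀ m : M, Basis8 ((m : G) * a * (m : G)⁻¹) ((m : G) * b * (m : G)⁻¹) ((m : G) * c * (m : G)⁻¹) := by
    intro m
    obtain ⟨p1, p2, p3, p4, p5, p6, p7⟩ := hB
    refine ⟨?_, ?_, ?_, ?_, ?_, ?_, ?_⟩
    · exact fun e => p1 (conj_eq_one_iff.1 e)
    · exact fun e => p2 (conj_eq_one_iff.1 e)
    · exact fun e => p3 (mul_left_cancel (mul_right_cancel e))
    · exact fun e => p4 (conj_eq_one_iff.1 e)
    · exact fun e => p5 (mul_left_cancel (mul_right_cancel e))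
    · exact fun e => p6 (mul_left_cancel (mul_right_cancel e))
    · intro e
      rw [show (m : G) * a * (m : G)⁻¹ * ((m : G) * b * (m : G)⁻¹) = (m : G) * (a * b) * (m : G)⁻¹ by group] at e
      exact p7 (mul_left_cancel (mul_right_cancel e))
  let F : M → T := fun m =>
    ⟨(φ ⟨_, h.norm m m.2 a ha⟩, φ ⟨_, h.norm m m.2 b hb⟩, φ ⟨_, h.norm m m.2 c hc⟩), htrip _ _ _ (hconjB m)⟩
  have hval : ∀ {x y : V}, φ x = φ y → (x : G) = y := fun {x y} e => by rw [← hφ x, ← hφ y, e]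
  have hF : ∀ m m' : M, F m = F m' ↔ m⁻¹ * m' ∈ W := by
    intro m m'
    constructor
    · intro e
      have e' := congrArg Subtype.val e
      simp only [F, Prod.mk.injEq] at e'
      have k : ∀ {x : G}, (m : G) * x * (m : G)⁻¹ = (m' : G) * x * (m' : G)⁻¹ →
          ((m : G)⁻¹ * m') * x * ((m : G)⁻¹ * m')⁻¹ = x := fun {x} e => by
        calc ((m : G)⁻¹ * m') * x * ((m : G)⁻¹ * m')⁻¹ = (m : G)⁻¹ * ((m' : G) * x * (m' : G)⁻¹) * m := by group
          _ = x := by rw [← e]; group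
      exact h.cent _ (m⁻¹ * m').2 fun v hv =>
        h.eq_on_basis hB ha hb hc (k (hval e'.1)) (k (hval e'.2.1)) (k (hval e'.2.2)) hv
    · intro e
      have hk : ∀ x ∈ V, (m' : G) * x * (m' : G)⁻¹ = (m : G) * x * (m : G)⁻¹ := fun x hx => by
        have e' : (m : G)⁻¹ * m' ∈ V := e
        calc (m' : G) * x * (m' : G)⁻¹
            = (m : G) * (((m : G)⁻¹ * m') * x * ((m : G)⁻¹ * m')⁻¹) * (m : G)⁻¹ := by group
          _ = _ := by rw [mul_inv_eq_iff_eq_mul.2 (h.comm _ e' x hx)]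
      refine Subtype.ext ?_
      simp only [F, Prod.mk.injEq]
      exact ⟨congrArg φ (Subtype.ext (hk a ha).symm), congrArg φ (Subtype.ext (hk b hb).symm),
        congrArg φ (Subtype.ext (hk c hc).symm)⟩
  let F' : M ⧸ W → T := Quotient.lift F fun m m' e => (hF m m').2 (QuotientGroup.leftRel_apply.1 e)
  have hbij : Function.Bijective F' := by
    refine (Nat.bijective_iff_injective_and_card _).2 ⟨fun p q e => ?_, by rw [hidx, hT]⟩
    induction p using QuotientGroup.induction_on with | _ m =>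
    induction q using QuotientGroup.induction_on with | _ m' =>
    exact QuotientGroup.eq.2 ((hF m m').1 e)
  obtain ⟨p, hp⟩ := hbij.2 ⟨(φ ⟨a', ha'⟩, φ ⟨b', hb'⟩, φ ⟨c', hc'⟩), htrip _ _ _ hB'⟩
  induction p using QuotientGroup.induction_on with | _ m =>
  have e' := congrArg Subtype.val hp
  simp only [F', F] at e'
  exact ⟨m, m.2, hval (congrArg Prod.fst e'), hval (congrArg (fun t => t.2.1) e'), hval (congrArg (fun t => t.2.2) e')⟩

end Eight

end Cfsg.Agent.Invol.G23Two
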