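import Cfsg.Agent.Lib.Invol.G23Two.Data

/-! Kernel checks of the table. -/

set_option autoImplicit false
set_option maxRecDepth 20000

namespace Cfsg.Agent.Invol.G23Two

open Cfsg.Agent.Invol.PSp43 (mt ivs ngs sa sb se norm)

theorem tw_ok : ((List.range 24).all fun a => decide (tw a < 24)) = true := by decide +kernel

theorem inv_ok : ((List.range 576).all fun i => Nat.beq (mL i (iL i)) 0 && Nat.beq (mL (iL i) i) 0) = true := by
  decide +kernel

theorem assoc_gen_ok : ((List.range 576).all fun i => Nat.beq (mL i 0) i && Nat.beq (mL 0 i) i) = true := by
  decide +kernel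

theorem v_ok : ((List.range 576).all fun i => !(inV i) || (Nat.beq (mL i i) 0 &&
    vList.all fun v => com i v && inV (mL i v))) = true := by decide +kernel

theorem b_count : ((List.range 576).countP inB) = 192 := by decide +kernel

theorem r_ok : ((List.range 576).all fun i => (inR i == Nat.beq (cj i wI) wI) && (!(inR i) || inB i)) = true ∧
    (rList.all fun i => inR (al i) && Nat.beq (al (al i)) i && rList.all fun j =>
      Nat.beq (al (mL i j)) (mL (al i) (al j))) = true := by decide +kernel

theorem center_ok : ((List.range 576).all fun i =>
    Nat.beq i 0 || Nat.beq i zI || [tI, xI, yI, 72].any fun j => !(com i j)) = true := by decide +kernel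

end Cfsg.Agent.Invol.G23Two
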