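import Cfsg.Agent.Lib.Invol.G23Two.Facts
import Cfsg.Agent.Lib.Invol.PSp43.Base
import Cfsg.Agent.Lib.Invol.Basic

/-! A group with an involution centralised as in `G₂(3)`: basic properties. -/

set_option autoImplicit false
set_option linter.unusedSectionVars false
set_option linter.style.haveILetI false

namespace Cfsg.Agent.Invol.G23Two

open Cfsg.Agent.Invol.PSp43 (mt ivs ngs sa sb se norm sa_lt sb_lt se_lt mt_lt ivs_lt norm_spec beq_iff)

theorem tw_lt {a : ℕ} (ha : a < 24) : tw a < 24 := by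
  have := tw_ok
  simp only [List.all_eq_true, List.mem_range, decide_eq_true_eq] at this
  exact this a ha

theorem mL_lt (i j : ℕ) : mL i j < 576 := by
  have ha := sa_lt i; have hb := sb_lt i; have hc := sa_lt j; have hd := sb_lt j; have he := se_lt j
  rw [mL]
  cases Nat.beq (se i) 0
  · exact (norm_spec (mt_lt ha (tw_lt hc)) (mt_lt hb (tw_lt hd)) (show 1 - se j < 2 by omega)).1
  · exact (norm_spec (mt_lt ha hc) (mt_lt hb hd) he).1

theorem iL_lt (i : ℕ) : iL i < 576 := by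
  have ha := sa_lt i; have hb := sb_lt i
  rw [iL]
  cases Nat.beq (se i) 0
  · exact (norm_spec (tw_lt (ivs_lt ha)) (tw_lt (ivs_lt hb)) (by norm_num)).1
  · exact (norm_spec (ivs_lt ha) (ivs_lt hb) (by norm_num)).1

theorem cj_lt (k i : ℕ) : cj k i < 576 := mL_lt _ _

theorem pw_lt (i : ℕ) : ∀ n, pw i n < 576
  | 0 => by norm_num [pw]
  | n + 1 => mL_lt _ _

theorem mL_iL {i : ℕ} (hi : i < 576) : mL i (iL i) = 0 ∧ mL (iL i) i = 0 := by
  have := inv_ok
  simp only [List.all_eq_true, List.mem_range, Bool.and_eq_true] at this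
  exact ⟨beq_iff.1 (this i hi).1, beq_iff.1 (this i hi).2⟩

theorem inV_iff {i : ℕ} : inV i = true ↔ i ∈ vList := by simp [inV, List.any_eq_true, beq_iff]

theorem inR_iff {i : ℕ} : inR i = true ↔ i ∈ rList := by simp [inR, List.any_eq_true, beq_iff]

theorem vList_lt : ∀ v ∈ vList, v < 576 := by decide

theorem rList_lt : ∀ v ∈ rList, v < 576 := by decide

/-- The hypothesis: the centraliser of `e zI` is given by the table. -/
structure Setting (G : Type*) [Group G] where
  /-- the elements of the centraliser -/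
  e : ℕ → G
  inj : ∀ i < 576, ∀ j < 576, e i = e j → i = j
  mul : ∀ i < 576, ∀ j < 576, e (mL i j) = e i * e j
  cen : ∀ x : G, x * e zI = e zI * x ↔ ∃ i < 576, e i = x

namespace Setting

variable {G : Type*} [Group G] (h : Setting G)

theorem e_zero : h.e 0 = 1 := by
  have h0 := h.mul 0 (by norm_num) 0 (by norm_num)
  rw [show mL 0 0 = 0 by decide +kernel] at h0
  simpa using h0

theorem e_inv {i : ℕ} (hi : i < 576) : h.e (iL i) = (h.e i)⁻¹ := by
  have h0 := h.mul i hi (iL i) (iL_lt i)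
  rw [(mL_iL hi).1, h.e_zero] at h0
  exact eq_inv_of_mul_eq_one_right h0.symm

theorem e_eq_iff {i j : ℕ} (hi : i < 576) (hj : j < 576) : h.e i = h.e j ↔ i = j :=
  ⟨h.inj i hi j hj, fun e => e ▸ rfl⟩

theorem e_eq_one {i : ℕ} (hi : i < 576) : h.e i = 1 ↔ i = 0 := by
  rw [← h.e_zero, h.e_eq_iff hi (by norm_num)]

theorem com_iff {i j : ℕ} (hi : i < 576) (hj : j < 576) :
    h.e i * h.e j = h.e j * h.e i ↔ com i j = true := by
  rw [← h.mul i hi j hj, ← h.mul j hj i hi, h.e_eq_iff (mL_lt i j) (mL_lt j i), com, beq_iff]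

theorem conj_e {k i : ℕ} (hk : k < 576) (hi : i < 576) : h.e k * h.e i * (h.e k)⁻¹ = h.e (cj k i) := by
  rw [cj, h.mul _ (mL_lt k i) _ (iL_lt k), h.mul k hk i hi, h.e_inv hk]

theorem e_pow {i : ℕ} (hi : i < 576) (n : ℕ) : h.e (pw i n) = h.e i ^ n := by
  induction n with
  | zero => rw [pow_zero]; exact h.e_zero
  | succ n ih => rw [pw, h.mul _ (pw_lt i n) i hi, ih, pow_succ]

theorem mem_cent {x : G} (hx : x * h.e zI = h.e zI * x) : ∃ i < 576, h.e i = x := (h.cen x).1 hx

theorem e_comm_z {i : ℕ} (hi : i < 576) : h.e i * h.e zI = h.e zI * h.e i := (h.cen _).2 ⟨i, hi, rfl⟩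

theorem ord_two {i : ℕ} (hi : i < 576) (h0 : i ≠ 0) (h2 : mL i i = 0) : orderOf (h.e i) = 2 :=
  Cfsg.Agent.Invol.orderOf_two_iff.2
    ⟨by rw [← h.mul i hi i hi, h2, h.e_zero], fun e => h0 ((h.e_eq_one hi).1 e)⟩

theorem sq_one {i : ℕ} (hi : i < 576) (h2 : mL i i = 0) : h.e i * h.e i = 1 := by
  rw [← h.mul i hi i hi, h2, h.e_zero]

/-- The elementary abelian subgroup of order eight. -/
def V : Subgroup G where
  carrier := {x | ∃ v ∈ vList, h.e v = x}
  one_mem' := ⟨0, by decide, h.e_zero⟩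
  mul_mem' := by
    rintro _ _ ⟨v, hv, rfl⟩ ⟨w, hw, rfl⟩
    have := v_ok
    simp only [List.all_eq_true, List.mem_range, Bool.or_eq_true, Bool.not_eq_true', Bool.and_eq_true] at this
    obtain ⟨-, h2⟩ := (this v (vList_lt v hv)).resolve_left (by rw [inV_iff.2 hv]; exact fun e => Bool.noConfusion e)
    exact ⟨mL v w, inV_iff.1 (h2 w hw).2, h.mul v (vList_lt v hv) w (vList_lt w hw)⟩
  inv_mem' := by
    rintro _ ⟨v, hv, rfl⟩
    have := v_ok
    simp only [List.all_eq_true, List.mem_range, Bool.or_eq_true, Bool.not_eq_true', Bool.and_eq_true] at this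
    obtain ⟨h1, -⟩ := (this v (vList_lt v hv)).resolve_left (by rw [inV_iff.2 hv]; exact fun e => Bool.noConfusion e)
    exact ⟨v, hv, (inv_eq_of_mul_eq_one_right (h.sq_one (vList_lt v hv) (beq_iff.1 h1))).symm⟩

theorem mem_V {x : G} : x ∈ h.V ↔ ∃ v ∈ vList, h.e v = x := Iff.rfl

theorem e_mem_V {v : ℕ} (hv : v ∈ vList) : h.e v ∈ h.V := ⟨v, hv, rfl⟩

end Setting

end Cfsg.Agent.Invol.G23Two
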