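import Cfsg.Agent.Lib.Invol.G23Two.Eight
import Cfsg.Agent.Lib.Invol.G23Two.Setting

/-! The third involution of the elementary group of order eight. -/

set_option autoImplicit false
set_option linter.unusedSectionVars false
set_option linter.style.haveILetI false
set_option maxRecDepth 20000

namespace Cfsg.Agent.Invol.G23Two

open Cfsg.Agent.Invol.PSp43 (sa sb se beq_iff)

/-- exponents of the elements of the centraliser of the plane in the five generators -/
def rExp : List ℕ :=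
  [0, 8, 1, 9, 11, 2, 10, 3, 4, 13, 5, 12, 14, 6, 15, 7, 16, 24, 17, 25, 27, 18, 26, 19, 20, 29, 21, 28, 30, 22, 31, 23]

/-- the image of an element under the map given on the generators -/
def rWord (a b c p q r : ℕ) : ℕ :=
  let x := rExp.getD (rList.idxOf r) 0
  mL (mL (mL (mL (bif Nat.beq (x % 2) 1 then a else 0) (bif Nat.beq (x / 2 % 2) 1 then b else 0))
    (bif Nat.beq (x / 4 % 2) 1 then c else 0)) (bif Nat.beq (x / 8 % 2) 1 then p else 0))
    (bif Nat.beq (x / 16 % 2) 1 then q else 0)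

/-- exchange of the factors -/
def sw (i : ℕ) : ℕ := PSp43.norm (sb i) (sa i) (se i)

/-- the symmetry exchanging the two elements of order three -/
def psi (i : ℕ) : ℕ :=
  bif Nat.beq (se (sw i)) 1 then mL (sw i) zI else sw i

/-- an automorphism of the centraliser of the plane of the required kind -/
def autR (p q : ℕ) : Bool :=
  inR p && inR q && Nat.beq (mL p p) wI && Nat.beq (mL q q) 0 &&
    (rList.all fun r => Nat.beq (rWord wI zI vI p q (rWord wI zI vI p q r)) r) &&
    (rList.all fun r => rList.all fun s =>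
      Nat.beq (rWord wI zI vI p q (mL r s)) (mL (rWord wI zI vI p q r) (rWord wI zI vI p q s)))

theorem rword_ok : (rList.all fun r => Nat.beq (rWord zI wI vI 1 tI r) r) = true := by decide +kernel

theorem autR_ok : (rList.all fun p => rList.all fun q => !(autR p q) ||
    ((Nat.beq p 338 && Nat.beq q 63) || (Nat.beq p 350 && Nat.beq q 74) ||
      (Nat.beq p 363 && Nat.beq q 51) || (Nat.beq p 375 && Nat.beq q 86))) = true := by decide +kernel

theorem rcl_ok : (rList.all fun r => rList.all fun s => inR (mL r s)) = true := by decide +kernel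

theorem rcl (r : ℕ) (hr : r ∈ rList) (s : ℕ) (hs : s ∈ rList) : mL r s ∈ rList := by
  have := rcl_ok
  simp only [List.all_eq_true, inR_iff] at this
  exact this r hr s hs

theorem reduce_ok : (rList.all fun r => inR (cj vI r) && inR (sw r) && inR (psi r) &&
    Nat.beq (rWord wI zI vI 338 63 r) (al r) &&
    Nat.beq (rWord wI zI vI 363 51 (cj vI r)) (al r) &&
    Nat.beq (rWord wI zI vI 350 74 (cj vI r)) (rWord wI zI vI 375 86 r) &&
    Nat.beq (sw (rWord wI zI vI 375 86 (sw r))) (al r) &&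
    Nat.beq (psi (al (cj vI (psi r)))) (al r) && inR (rWord wI zI vI 375 86 r)) = true := by decide +kernel

theorem sw_gen : ((List.range 576).all fun i => decide (sw i < 576) && Nat.beq (sw (sw i)) i &&
    decide (psi i < 576) && Nat.beq (psi (psi i)) i && (inB (sw i) == inB i) && (inB (psi i) == inB i)) = true := by
  decide +kernel

theorem sw_vals : sw zI = zI ∧ psi zI = zI ∧ psi xI = yI ∧ psi yI = xI ∧ psi tI = 300 ∧
    (vList.all fun v => inV (sw v) && inV (psi v)) = true ∧ inB tI = true ∧ inB vI = true := by decide +kernel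

theorem t_act : cj tI wI = wI ∧ cj tI vI = 75 ∧ mL vI wI = 75 ∧ mL wI 37 = zI ∧ mL tI tI = 0 ∧ mL vI vI = 0 ∧
    mL 1 1 = zI := by decide +kernel

/-- An automorphism of the table. -/
structure TAut (π : ℕ → ℕ) : Prop where
  lt : ∀ i < 576, π i < 576
  inv : ∀ i < 576, π (π i) = i
  hom : ∀ i < 576, ∀ j < 576, π (mL i j) = mL (π i) (π j)
  z : π zI = zI
  v : ∀ v ∈ vList, π v ∈ vList
  b : ∀ i < 576, inB (π i) = inB i

theorem norm_facts : (∀ x < 24, ∀ y < 24, (PSp43.norm (PSp43.ngs x) (PSp43.ngs y) 0 = PSp43.norm x y 0 ∧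
      PSp43.norm (PSp43.ngs x) (PSp43.ngs y) 1 = PSp43.norm x y 1) ∧
      (sw (PSp43.norm x y 0) = PSp43.norm y x 0 ∧ sw (PSp43.norm x y 1) = PSp43.norm y x 1) ∧
      (psi (PSp43.norm x y 0) = PSp43.norm y x 0 ∧ psi (PSp43.norm x y 1) = PSp43.norm y (PSp43.ngs x) 1)) ∧
    (∀ x < 24, ∀ y < 24, PSp43.mt (PSp43.ngs x) y = PSp43.ngs (PSp43.mt x y) ∧
      PSp43.mt x (PSp43.ngs y) = PSp43.ngs (PSp43.mt x y)) ∧
    (∀ x < 24, tw (PSp43.ngs x) = PSp43.ngs (tw x)) := by decide +kernel

theorem norm_parts {a b e : ℕ} (ha : a < 24) (hb : b < 24) (he : e < 2) :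
    se (PSp43.norm a b e) = e ∧ ((sa (PSp43.norm a b e) = a ∧ sb (PSp43.norm a b e) = b) ∨
      (sa (PSp43.norm a b e) = PSp43.ngs a ∧ sb (PSp43.norm a b e) = PSp43.ngs b)) := by
  refine ⟨(PSp43.norm_spec ha hb he).2, ?_⟩
  cases r : Nat.ble a 11
  · right
    have h : ¬a ≤ 11 := fun h => by rw [Nat.ble_eq.mpr h] at r; exact Bool.noConfusion r
    simp only [PSp43.norm, r, cond_false, sa, sb, PSp43.ngs]
    omega
  · left
    have := Nat.ble_eq.mp r
    simp only [PSp43.norm, r, cond_true, sa, sb]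
    omega

/-- The multiplication on pairs. -/
theorem mL_norm {a b c d e f : ℕ} (ha : a < 24) (hb : b < 24) (hc : c < 24) (hd : d < 24) (he : e < 2) (hf : f < 2) :
    mL (PSp43.norm a b e) (PSp43.norm c d f) = PSp43.norm (PSp43.mt a (bif Nat.beq e 0 then c else tw c))
      (PSp43.mt b (bif Nat.beq e 0 then d else tw d)) (bif Nat.beq e 0 then f else 1 - f) := by
  obtain ⟨se1, p1⟩ := norm_parts ha hb he
  obtain ⟨se2, p2⟩ := norm_parts hc hd hf
  obtain ⟨nf, mn, tn⟩ := norm_facts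
  have ng : ∀ {x y s : ℕ}, x < 24 → y < 24 → s < 2 →
      PSp43.norm (PSp43.ngs x) (PSp43.ngs y) s = PSp43.norm x y s := fun {x y s} hx hy hs => by
    obtain rfl | rfl : s = 0 ∨ s = 1 := by omega
    · exact (nf x hx y hy).1.1
    · exact (nf x hx y hy).1.2
  have l := @PSp43.mt_lt
  rw [mL, se1, se2]
  rcases (by omega : e = 0 ∨ e = 1) with rfl | rfl
  · simp only [show Nat.beq 0 0 = true from rfl, cond_true]
    rcases p1 with ⟨q1, q2⟩ | ⟨q1, q2⟩ <;> rcases p2 with ⟨r1, r2⟩ | ⟨r1, r2⟩ <;> rw [q1, q2, r1, r2]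
    · rw [(mn a ha c hc).2, (mn b hb d hd).2, ng (l ha hc) (l hb hd) hf]
    · rw [(mn a ha c hc).1, (mn b hb d hd).1, ng (l ha hc) (l hb hd) hf]
    · rw [(mn a ha _ (PSp43.ngs_lt c)).1, (mn b hb _ (PSp43.ngs_lt d)).1,
        ng (l ha (PSp43.ngs_lt c)) (l hb (PSp43.ngs_lt d)) hf, (mn a ha c hc).2, (mn b hb d hd).2,
        ng (l ha hc) (l hb hd) hf]
  · simp only [show Nat.beq 1 0 = false from rfl, cond_false]
    have hf' : 1 - f < 2 := by omega
    rcases p1 with ⟨q1, q2⟩ | ⟨q1, q2⟩ <;> rcases p2 with ⟨r1, r2⟩ | ⟨r1, r2⟩ <;> rw [q1, q2, r1, r2]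
    · rw [tn c hc, tn d hd, (mn a ha _ (tw_lt hc)).2, (mn b hb _ (tw_lt hd)).2,
        ng (l ha (tw_lt hc)) (l hb (tw_lt hd)) hf']
    · rw [(mn a ha _ (tw_lt hc)).1, (mn b hb _ (tw_lt hd)).1, ng (l ha (tw_lt hc)) (l hb (tw_lt hd)) hf']
    · rw [tn c hc, tn d hd, (mn a ha _ (PSp43.ngs_lt _)).1, (mn b hb _ (PSp43.ngs_lt _)).1,
        ng (l ha (PSp43.ngs_lt _)) (l hb (PSp43.ngs_lt _)) hf', (mn a ha _ (tw_lt hc)).2, (mn b hb _ (tw_lt hd)).2,
        ng (l ha (tw_lt hc)) (l hb (tw_lt hd)) hf']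

theorem norm_self {i : ℕ} (hi : i < 576) : PSp43.norm (sa i) (sb i) (se i) = i := by
  rw [PSp43.norm, show Nat.ble (sa i) 11 = true from Nat.ble_eq.mpr (by simp only [sa]; omega), cond_true]
  simp only [sa, sb, se]
  omega

theorem sw_hom : ∀ i < 576, ∀ j < 576, sw (mL i j) = mL (sw i) (sw j) ∧ psi (mL i j) = mL (psi i) (psi j) := by
  intro i hi j hj
  have ha := PSp43.sa_lt i; have hb := PSp43.sb_lt i; have hc := PSp43.sa_lt j; have hd := PSp43.sb_lt j
  have he := PSp43.se_lt i; have hf := PSp43.se_lt j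
  have hpi := norm_self hi
  have hpj := norm_self hj
  revert ha hb hc hd he hf hpi hpj
  generalize sa i = a, sb i = b, se i = e, sa j = c, sb j = d, se j = f
  intro ha hb hc hd he hf hpi hpj
  subst hpi hpj
  have l := @PSp43.mt_lt
  have nl := @PSp43.ngs_lt
  obtain ⟨nf, mn, tn⟩ := norm_facts
  have S0 := fun x hx y hy => (nf x hx y hy).2.1.1
  have S1 := fun x hx y hy => (nf x hx y hy).2.1.2
  have P0 := fun x hx y hy => (nf x hx y hy).2.2.1
  have P1 := fun x hx y hy => (nf x hx y hy).2.2.2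
  rw [mL_norm ha hb hc hd he hf]
  rcases (by omega : e = 0 ∨ e = 1) with rfl | rfl <;> rcases (by omega : f = 0 ∨ f = 1) with rfl | rfl <;>
    simp only [show Nat.beq 0 0 = true from rfl, show Nat.beq 1 0 = false from rfl, cond_true, cond_false,
      show (1 : ℕ) - 0 = 1 from rfl, show (1 : ℕ) - 1 = 0 from rfl]
  · rw [S0 _ (l ha hc) _ (l hb hd), P0 _ (l ha hc) _ (l hb hd), S0 a ha b hb, S0 c hc d hd, P0 a ha b hb,
      P0 c hc d hd, mL_norm hb ha hd hc (by norm_num) (by norm_num)]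
    exact ⟨by trivial, by trivial⟩
  · rw [S1 _ (l ha hc) _ (l hb hd), P1 _ (l ha hc) _ (l hb hd), S0 a ha b hb, S1 c hc d hd, P0 a ha b hb,
      P1 c hc d hd, mL_norm hb ha hd hc (by norm_num) (by norm_num),
      mL_norm hb ha hd (nl c) (by norm_num) (by norm_num)]
    simp only [show Nat.beq 0 0 = true from rfl, cond_true]
    rw [(mn a ha c hc).2]
    exact ⟨by trivial, by trivial⟩
  · rw [S1 _ (l ha (tw_lt hc)) _ (l hb (tw_lt hd)), P1 _ (l ha (tw_lt hc)) _ (l hb (tw_lt hd)), S1 a ha b hb,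
      S0 c hc d hd, P1 a ha b hb, P0 c hc d hd, mL_norm hb ha hd hc (by norm_num) (by norm_num),
      mL_norm hb (nl a) hd hc (by norm_num) (by norm_num)]
    simp only [show Nat.beq 1 0 = false from rfl, cond_false]
    rw [(mn a ha _ (tw_lt hc)).1]
    exact ⟨by trivial, by trivial⟩
  · rw [S0 _ (l ha (tw_lt hc)) _ (l hb (tw_lt hd)), P0 _ (l ha (tw_lt hc)) _ (l hb (tw_lt hd)), S1 a ha b hb,
      S1 c hc d hd, P1 a ha b hb, P1 c hc d hd, mL_norm hb ha hd hc (by norm_num) (by norm_num),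
      mL_norm hb (nl a) hd (nl c) (by norm_num) (by norm_num)]
    simp only [show Nat.beq 1 0 = false from rfl, cond_false, show (1 : ℕ) - 1 = 0 from rfl]
    rw [tn c hc, (mn a ha _ (PSp43.ngs_lt _)).1, (mn a ha _ (tw_lt hc)).2]
    refine ⟨by trivial, ?_⟩
    rw [show ∀ x < 24, PSp43.ngs (PSp43.ngs x) = x by decide +kernel]
    exact l ha (tw_lt hc)

theorem sw_taut : TAut sw := by
  have h1 := sw_gen
  simp only [List.all_eq_true, List.mem_range, Bool.and_eq_true, decide_eq_true_eq, beq_iff, beq_iff_eq] at h1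
  refine ⟨fun i hi => (h1 i hi).1.1.1.1.1, fun i hi => (h1 i hi).1.1.1.1.2, fun i hi j hj => (sw_hom i hi j hj).1,
    sw_vals.1, fun v hv => ?_, fun i hi => (h1 i hi).1.2⟩
  have := sw_vals.2.2.2.2.2.1
  simp only [List.all_eq_true, Bool.and_eq_true, inV_iff] at this
  exact (this v hv).1

theorem psi_taut : TAut psi := by
  have h1 := sw_gen
  simp only [List.all_eq_true, List.mem_range, Bool.and_eq_true, decide_eq_true_eq, beq_iff, beq_iff_eq] at h1
  refine ⟨fun i hi => (h1 i hi).1.1.1.2, fun i hi => (h1 i hi).1.1.2, fun i hi j hj => (sw_hom i hi j hj).2,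
    sw_vals.2.1, fun v hv => ?_, fun i hi => (h1 i hi).2⟩
  have := sw_vals.2.2.2.2.2.1
  simp only [List.all_eq_true, Bool.and_eq_true, inV_iff] at this
  exact (this v hv).2

/-- The table with a second subgroup. -/
structure Loc (G : Type*) [Group G] where
  /-- the table -/
  h : Setting G
  /-- the second subgroup -/
  M : Subgroup G
  eight : Eight M h.V
  bM : ∀ k < 576, inB k = true → h.e k ∈ M
  /-- the involution moving the centre -/
  u : G
  uM : u ∈ M
  u2 : u * u = 1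
  ru : ∀ r ∈ rList, u * h.e r * u = h.e (al r)

namespace Setting

variable {G : Type*} [Group G] (h : Setting G)

/-- The table in new coordinates. -/
def map {π : ℕ → ℕ} (hπ : TAut π) : Setting G where
  e i := h.e (π i)
  inj i hi j hj e := by
    have := h.inj _ (hπ.lt i hi) _ (hπ.lt j hj) e
    rw [← hπ.inv i hi, this, hπ.inv j hj]
  mul i hi j hj := by rw [hπ.hom i hi j hj, h.mul _ (hπ.lt i hi) _ (hπ.lt j hj)]
  cen x := by
    rw [hπ.z, h.cen]
    exact ⟨fun ⟨i, hi, e⟩ => ⟨π i, hπ.lt i hi, by rw [hπ.inv i hi, e]⟩, fun ⟨i, hi, e⟩ => ⟨π i, hπ.lt i hi, e⟩⟩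

theorem map_e {π : ℕ → ℕ} (hπ : TAut π) (i : ℕ) : (h.map hπ).e i = h.e (π i) := rfl

theorem map_V {π : ℕ → ℕ} (hπ : TAut π) : (h.map hπ).V = h.V := by
  ext x
  refine ⟨fun ⟨v, hv, e⟩ => ⟨π v, hπ.v v hv, e⟩, fun ⟨v, hv, e⟩ => ⟨π v, hπ.v v hv, ?_⟩⟩
  rw [h.map_e, hπ.inv v (vList_lt v hv), e]

theorem e_ne {i j : ℕ} (hi : i < 576) (hj : j < 576) (hne : i ≠ j) : h.e i ≠ h.e j :=
  fun e => hne (h.inj i hi j hj e)

end Setting

variable {G : Type*} [Group G] [Finite G]

theorem exists_u (h : Setting G) {M : Subgroup G} (E : Eight M h.V) (bM : ∀ k < 576, inB k = true → h.e k ∈ M) :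
    ∃ u ∈ M, u * u = 1 ∧ u * h.e zI * u = h.e wI ∧ u * h.e vI * u = h.e vI := by
  have lz : zI < 576 := by norm_num
  have lw : wI < 576 := by norm_num
  have lv : vI < 576 := by norm_num
  have l37 : (37 : ℕ) < 576 := by norm_num
  have ne : ∀ {i : ℕ}, i < 576 → i ≠ 0 → h.e i ≠ 1 := fun hi h0 e => h0 ((h.e_eq_one hi).1 e)
  have l75 : (75 : ℕ) < 576 := by norm_num
  have hB : Basis8 (h.e wI) (h.e zI) (h.e vI) := by
    refine ⟨ne lw (by norm_num), ne lz (by norm_num), h.e_ne lz lw (by norm_num), ne lv (by norm_num),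
      h.e_ne lv lw (by norm_num), h.e_ne lv lz (by norm_num), ?_⟩
    rw [← h.mul _ lw _ lz, show mL wI zI = 37 by decide +kernel]
    exact h.e_ne lv l37 (by norm_num)
  have hB' : Basis8 (h.e 37) (h.e vI) (h.e wI) := by
    refine ⟨ne l37 (by norm_num), ne lv (by norm_num), h.e_ne lv l37 (by norm_num), ne lw (by norm_num),
      h.e_ne lw l37 (by norm_num), h.e_ne lw lv (by norm_num), ?_⟩
    rw [← h.mul _ l37 _ lv, show mL 37 vI = 87 by decide +kernel]
    exact h.e_ne lw (by norm_num) (by norm_num)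
  have mem : ∀ {v : ℕ}, v ∈ vList → h.e v ∈ h.V := fun hv => h.e_mem_V hv
  obtain ⟨m, hm, e1, e2, e3⟩ := E.full hB (mem (by decide)) (mem (by decide)) (mem (by decide)) hB'
    (mem (by decide)) (mem (by decide)) (mem (by decide))
  have hn : h.e tI ∈ M := bM _ (by norm_num) sw_vals.2.2.2.2.2.2.1
  have hn2 := h.sq_one (show tI < 576 by norm_num) t_act.2.2.2.2.1
  have hn1 : (h.e tI)⁻¹ = h.e tI := inv_eq_of_mul_eq_one_right hn2
  have back : ∀ {x y : G}, m * x * m⁻¹ = y → m⁻¹ * y * m = x := fun {x y} e => by rw [← e]; group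
  have conj : ∀ x, m * h.e tI * m⁻¹ * x * (m * h.e tI * m⁻¹) =
      m * (h.e tI * (m⁻¹ * x * m) * (h.e tI)⁻¹) * m⁻¹ := fun x => by rw [hn1]; group
  refine ⟨m * h.e tI * m⁻¹, mul_mem (mul_mem hm hn) (inv_mem hm), ?_, ?_, ?_⟩
  · calc m * h.e tI * m⁻¹ * (m * h.e tI * m⁻¹) = m * (h.e tI * h.e tI) * m⁻¹ := by group
      _ = 1 := by rw [hn2]; group
  · have ez : m⁻¹ * h.e zI * m = h.e 75 := by
      refine back ?_
      rw [show (75 : ℕ) = mL vI wI from t_act.2.2.1.symm, h.mul _ lv _ lw,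
        show m * (h.e vI * h.e wI) * m⁻¹ = (m * h.e vI * m⁻¹) * (m * h.e wI * m⁻¹) by group, e3, e1,
        ← h.mul _ lw _ l37, t_act.2.2.2.1]
    rw [conj, ez, h.conj_e (by norm_num) l75, show cj tI 75 = vI by decide +kernel, e3]
  · rw [conj, back e2, h.conj_e (by norm_num) lz, show cj tI zI = zI by decide +kernel, e2]

/-- The conjugation by the involution on the centraliser of the plane is the standard one, after a change of
the involution and of the coordinates. -/
theorem exists_loc (h : Setting G) {M : Subgroup G} (E : Eight M h.V)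
    (bM : ∀ k < 576, inB k = true → h.e k ∈ M) : Nonempty (Loc G) := by
  obtain ⟨u, uM, u2, uz, uv⟩ := exists_u h E bM
  have lw : wI < 576 := by norm_num
  have lv : vI < 576 := by norm_num
  have uw : u * h.e wI * u = h.e zI := by
    rw [← uz, show u * (u * h.e zI * u) * u = (u * u) * h.e zI * (u * u) by group, u2, one_mul, mul_one]
  have hR := r_ok.1
  simp only [List.all_eq_true, List.mem_range, Bool.and_eq_true, beq_iff_eq, Bool.or_eq_true,
    Bool.not_eq_true'] at hR
  have img : ∀ r ∈ rList, ∃ s ∈ rList, u * h.e r * u = h.e s := by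
    intro r hr
    have lr := rList_lt r hr
    have hrw : h.e r * h.e wI * (h.e r)⁻¹ = h.e wI := by
      rw [h.conj_e lr lw, (beq_iff.1 (by rw [← (hR r lr).1]; exact inR_iff.2 hr) : cj r wI = wI)]
    have hrz := h.e_comm_z lr
    have hc : u * h.e r * u * h.e zI = h.e zI * (u * h.e r * u) := by
      calc u * h.e r * u * h.e zI = u * (h.e r * (u * h.e zI * u)) * u := by
            simp only [mul_assoc, u2, mul_one]
        _ = u * (h.e wI * h.e r) * u := by rw [uz, mul_inv_eq_iff_eq_mul.1 hrw]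
        _ = (u * h.e wI * u) * (u * h.e r * u) := by
            simp only [mul_assoc]; rw [← mul_assoc u u, u2, one_mul]
        _ = h.e zI * (u * h.e r * u) := by rw [uw]
    obtain ⟨s, hs, es⟩ := h.mem_cent hc
    suffices hq : h.e (cj s wI) = h.e wI from
      ⟨s, inR_iff.1 (by rw [(hR s hs).1]; exact beq_iff.2 (h.inj _ (cj_lt _ _) _ lw hq)), es.symm⟩
    rw [← h.conj_e hs lw, mul_inv_eq_iff_eq_mul, es]
    calc u * h.e r * u * h.e wI = u * (h.e r * (u * h.e wI * u)) * u := by simp only [mul_assoc, u2, mul_one]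
      _ = u * (h.e zI * h.e r) * u := by rw [uw, hrz]
      _ = (u * h.e zI * u) * (u * h.e r * u) := by
          simp only [mul_assoc]; rw [← mul_assoc u u, u2, one_mul]
      _ = h.e wI * (u * h.e r * u) := by rw [uz]
  choose! f hf hfe using img
  have fhom : ∀ r ∈ rList, ∀ s ∈ rList, mL r s ∈ rList → f (mL r s) = mL (f r) (f s) := by
    intro r hr s hs hrs
    refine h.inj _ (rList_lt _ (hf _ hrs)) _ (mL_lt _ _) ?_
    rw [← hfe _ hrs, h.mul _ (rList_lt r hr) _ (rList_lt s hs), h.mul _ (rList_lt _ (hf r hr)) _ (rList_lt _ (hf s hs)),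
      ← hfe r hr, ← hfe s hs]
    simp only [mul_assoc]; rw [← mul_assoc u u, u2, one_mul]
  have fgen : f 1 ∈ rList ∧ f tI ∈ rList := ⟨hf _ (by decide), hf _ (by decide)⟩
  have fword : ∀ r ∈ rList, f r = rWord wI zI vI (f 1) (f tI) r := by
    intro r hr
    have hid := rword_ok
    simp only [List.all_eq_true, beq_iff] at hid
    have f0 : f 0 = 0 := by
      refine h.inj _ (rList_lt _ (hf _ (by decide))) _ (by norm_num) ?_
      rw [← hfe 0 (by decide), h.e_zero, mul_one, u2]
    have fw : f wI = zI := h.inj _ (rList_lt _ (hf _ (by decide))) _ (by norm_num) (by rw [← hfe _ (by decide), uw])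
    have fz : f zI = wI := h.inj _ (rList_lt _ (hf _ (by decide))) _ lw (by rw [← hfe _ (by decide), uz])
    have fv : f vI = vI := h.inj _ (rList_lt _ (hf _ (by decide))) _ lv (by rw [← hfe _ (by decide), uv])
    have hcl : ∀ r ∈ rList, ∀ s ∈ rList, mL r s ∈ rList := rcl
    have step : ∀ (b : Bool) (g : ℕ), g ∈ rList → (bif b then g else 0) ∈ rList ∧
        f (bif b then g else 0) = bif b then f g else 0 := by
      intro b g hg
      cases b
      · exact ⟨show (0 : ℕ) ∈ rList by decide, f0⟩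
      · exact ⟨hg, rfl⟩
    conv_lhs => rw [← hid r hr]
    simp only [rWord]
    set x := rExp.getD (rList.idxOf r) 0
    obtain ⟨m1, g1⟩ := step (Nat.beq (x % 2) 1) zI (by decide)
    obtain ⟨m2, g2⟩ := step (Nat.beq (x / 2 % 2) 1) wI (by decide)
    obtain ⟨m3, g3⟩ := step (Nat.beq (x / 4 % 2) 1) vI (by decide)
    obtain ⟨m4, g4⟩ := step (Nat.beq (x / 8 % 2) 1) 1 (by decide)
    obtain ⟨m5, g5⟩ := step (Nat.beq (x / 16 % 2) 1) tI (by decide)
    have k2 := hcl _ m1 _ m2
    have k3 := hcl _ k2 _ m3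
    have k4 := hcl _ k3 _ m4
    rw [fhom _ k4 _ m5 (hcl _ k4 _ m5), fhom _ k3 _ m4 k4, fhom _ k2 _ m3 k3, fhom _ m1 _ m2 k2,
      g1, g2, g3, g4, g5, fz, fw, fv]
  have hauto : autR (f 1) (f tI) = true := by
    simp only [autR, Bool.and_eq_true, List.all_eq_true, beq_iff, inR_iff]
    refine ⟨⟨⟨⟨⟨fgen.1, fgen.2⟩, ?_⟩, ?_⟩, fun r hr => ?_⟩, fun r hr s hs => ?_⟩
    · rw [← fhom 1 (by decide) 1 (by decide) (rcl 1 (by decide) 1 (by decide)), t_act.2.2.2.2.2.2]
      exact h.inj _ (rList_lt _ (hf _ (by decide))) _ lw (by rw [← hfe _ (by decide), uz])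
    · rw [← fhom tI (by decide) tI (by decide) (rcl tI (by decide) tI (by decide)), t_act.2.2.2.2.1]
      exact h.inj _ (rList_lt _ (hf _ (by decide))) _ (by norm_num)
        (by rw [← hfe 0 (by decide), h.e_zero, mul_one, u2])
    · rw [← fword r hr, ← fword _ (hf r hr)]
      refine h.inj _ (rList_lt _ (hf _ (hf r hr))) _ (rList_lt r hr) ?_
      rw [← hfe _ (hf r hr), ← hfe r hr, show u * (u * h.e r * u) * u = (u * u) * h.e r * (u * u) by group, u2,
        one_mul, mul_one]
    · rw [← fword _ (rcl r hr s hs), ← fword r hr, ← fword s hs]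
      exact fhom r hr s hs (rcl r hr s hs)
  have hall := autR_ok
  simp only [List.all_eq_true, Bool.or_eq_true, Bool.and_eq_true, Bool.not_eq_true', beq_iff] at hall
  have hred := reduce_ok
  simp only [List.all_eq_true, Bool.and_eq_true, beq_iff, inR_iff] at hred
  -- the involution times the fixed element
  set u' := u * h.e vI with hu'
  have v2 := h.sq_one lv t_act.2.2.2.2.2.1
  have huv : u * h.e vI = h.e vI * u := by
    calc u * h.e vI = (u * h.e vI * u) * u := by simp only [mul_assoc, u2, mul_one]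
      _ = h.e vI * u := by rw [uv]
  have u'2 : u' * u' = 1 := by
    rw [hu', show u * h.e vI * (u * h.e vI) = u * (h.e vI * u) * h.e vI by group, ← huv]
    simp only [← mul_assoc]; rw [u2, one_mul, v2]
  have u'M : u' ∈ M := mul_mem uM (E.le (h.e_mem_V (by decide)))
  have u'r : ∀ r ∈ rList, u' * h.e r * u' = h.e (rWord wI zI vI (f 1) (f tI) (cj vI r)) := by
    intro r hr
    have hm : cj vI r ∈ rList := (hred r hr).1.1.1.1.1.1.1.1
    have e : u' * h.e r * u' = u * (h.e vI * h.e r * (h.e vI)⁻¹) * u := by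
      rw [hu', inv_eq_of_mul_eq_one_right v2]
      calc u * h.e vI * h.e r * (u * h.e vI) = u * h.e vI * h.e r * (h.e vI * u) := by rw [huv]
        _ = u * (h.e vI * h.e r * h.e vI) * u := by group
    rw [e, h.conj_e lv (rList_lt r hr), hfe _ hm, fword _ hm]
  have ur : ∀ r ∈ rList, u * h.e r * u = h.e (rWord wI zI vI (f 1) (f tI) r) := fun r hr => by
    rw [hfe r hr, fword r hr]
  have hswp : TAut sw := sw_taut
  have swapped : ∀ (v : G), v ∈ M → v * v = 1 → (∀ r ∈ rList, v * h.e r * v = h.e (rWord wI zI vI 375 86 r)) →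
      Nonempty (Loc G) := by
    intro v vM vv hv
    refine ⟨⟨h.map hswp, M, (h.map_V hswp).symm ▸ E,
      fun k hk hb => bM _ (hswp.lt k hk) (by rw [hswp.b k hk]; exact hb), v, vM, vv, fun r hr => ?_⟩⟩
    have hm : sw r ∈ rList := (hred r hr).1.1.1.1.1.1.1.2
    have hlast : sw (rWord wI zI vI 375 86 (sw r)) = al r := (hred r hr).1.1.2
    rw [h.map_e, h.map_e, hv _ hm, ← hlast,
      hswp.inv _ (rList_lt _ (hred _ hm).2)]
  rcases (hall (f 1) fgen.1 (f tI) fgen.2).resolve_left (by rw [hauto]; exact fun e => Bool.noConfusion e) with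
    ((⟨e1, e2⟩ | ⟨e1, e2⟩) | ⟨e1, e2⟩) | ⟨e1, e2⟩
  · exact ⟨⟨h, M, E, bM, u, uM, u2, fun r hr => by
      rw [ur r hr, e1, e2, (hred r hr).1.1.1.1.1.2]⟩⟩
  · exact swapped u' u'M u'2 fun r hr => by rw [u'r r hr, e1, e2, (hred r hr).1.1.1.2]
  · exact ⟨⟨h, M, E, bM, u', u'M, u'2, fun r hr => by
      rw [u'r r hr, e1, e2, (hred r hr).1.1.1.1.2]⟩⟩
  · exact swapped u uM u2 fun r hr => by rw [ur r hr, e1, e2]

namespace Loc

variable (L : Loc G)

theorem uv : L.u * L.h.e vI * L.u = L.h.e vI := by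
  rw [L.ru vI (by decide), show al vI = vI by decide +kernel]

theorem uz : L.u * L.h.e zI * L.u = L.h.e wI := by
  rw [L.ru zI (by decide), show al zI = wI by decide +kernel]

/-- The configuration with the two elements of order three exchanged. -/
def flip : Loc G where
  h := L.h.map psi_taut
  M := L.M
  eight := (L.h.map_V psi_taut).symm ▸ L.eight
  bM k hk hb := L.bM _ (psi_taut.lt k hk) (by rw [psi_taut.b k hk]; exact hb)
  u := L.u * L.h.e vI
  uM := mul_mem L.uM (L.eight.le (L.h.e_mem_V (by decide)))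
  u2 := by
    have v2 := L.h.sq_one (show vI < 576 by norm_num) t_act.2.2.2.2.2.1
    calc L.u * L.h.e vI * (L.u * L.h.e vI) = (L.u * L.h.e vI * L.u) * L.h.e vI := by group
      _ = 1 := by rw [L.uv, v2]
  ru r hr := by
    have hred := reduce_ok
    simp only [List.all_eq_true, Bool.and_eq_true, beq_iff, inR_iff] at hred
    have lv : vI < 576 := by norm_num
    have v2 := L.h.sq_one lv t_act.2.2.2.2.2.1
    have hp : psi r ∈ rList := (hred r hr).1.1.1.1.1.1.2
    have lp := rList_lt _ hp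
    have hm : cj vI (psi r) ∈ rList := (hred _ hp).1.1.1.1.1.1.1.1
    have huv : L.u * L.h.e vI = L.h.e vI * L.u := by
      calc L.u * L.h.e vI = (L.u * L.h.e vI * L.u) * L.u := by simp only [mul_assoc, L.u2, mul_one]
        _ = L.h.e vI * L.u := by rw [L.uv]
    have ha : psi (al (cj vI (psi r))) = al r := (hred r hr).1.2
    have hal : al (cj vI (psi r)) < 576 := by
      have h2 := r_ok.2
      simp only [List.all_eq_true, Bool.and_eq_true, inR_iff] at h2
      exact rList_lt _ (h2 _ hm).1.1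
    rw [L.h.map_e, L.h.map_e, ← ha, psi_taut.inv _ hal, ← L.ru _ hm, ← L.h.conj_e lv lp,
      inv_eq_of_mul_eq_one_right v2]
    calc L.u * L.h.e vI * L.h.e (psi r) * (L.u * L.h.e vI)
        = L.u * L.h.e vI * L.h.e (psi r) * (L.h.e vI * L.u) := by rw [huv]
      _ = L.u * (L.h.e vI * L.h.e (psi r) * L.h.e vI) * L.u := by group

end Loc

end Cfsg.Agent.Invol.G23Two
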