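import Cfsg.Agent.Lib.Invol.G23Two.SL

/-! Two commuting copies of `SL(2, 3)` with a common centre, and an outer involution. -/

set_option autoImplicit false
set_option linter.unusedSectionVars false
set_option linter.style.haveILetI false
set_option maxRecDepth 20000

namespace Cfsg.Agent.Invol.G23Two

open Cfsg.Agent.Invol.PSp43 (mt ivs ngs sa sb se norm sa_lt sb_lt se_lt mt_lt ivs_lt ngs_lt norm_spec beq_iff)

/-- an involution of the product other than the central one -/
def invK (j : ℕ) : Bool := Nat.beq (mL j j) 0 && !(Nat.beq j 0) && !(Nat.beq j zI)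

/-- two commuting involutions of the product generating with the centre a group of order eight -/
def baseK (j k : ℕ) : Bool :=
  invK j && (invK k && (com j k && (!(Nat.beq k j) && !(Nat.beq k (mL zI j)))))

/-- the eight elements spanned -/
def span8 (j k : ℕ) : List ℕ := [0, zI, j, mL zI j, k, mL zI k, mL j k, mL zI (mL j k)]

/-- the table automorphism twisting the second factor -/
def tm (i : ℕ) : ℕ := norm (sa i) (tw (sb i)) (se i)

theorem base_facts : ((List.range 288).all fun j => !(invK j) || (List.range 288).all fun k => !(baseK j k) ||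
    (((List.range 288).all fun c => !(Nat.beq (cj c j) j && Nat.beq (cj c k) (mL j k))) &&
    ((List.range 24).all fun m => !(Nat.beq (au m 0 (au m 0 4)) 4 && Nat.beq (au m 0 (au m 0 10)) 10) ||
      (!(Nat.beq (au m 0 (sa j) % 12) (sa j % 12) && Nat.beq (au m 0 (sa k) % 12) (sa (mL j k) % 12)) &&
       !(Nat.beq (au m 0 (sb j) % 12) (sb j % 12) && Nat.beq (au m 0 (sb k) % 12) (sb (mL j k) % 12)))) &&
    (!(Nat.beq (cj tI j) j && Nat.beq (cj tI k) (mL j k)) || (span8 j k).all inV ||
      (span8 j k).all fun v => inV (tm v)))) = true := by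
  decide +kernel

theorem base_facts' {j k : ℕ} (hj : j < 288) (hk : k < 288) (hb : baseK j k = true) :
    (∀ c < 288, ¬(cj c j = j ∧ cj c k = mL j k)) ∧
    (∀ m < 24, au m 0 (au m 0 4) = 4 → au m 0 (au m 0 10) = 10 →
      ¬(au m 0 (sa j) % 12 = sa j % 12 ∧ au m 0 (sa k) % 12 = sa (mL j k) % 12) ∧
      ¬(au m 0 (sb j) % 12 = sb j % 12 ∧ au m 0 (sb k) % 12 = sb (mL j k) % 12)) ∧
    (cj tI j = j → cj tI k = mL j k →
      (∀ v ∈ span8 j k, v ∈ vList) ∨ ∀ v ∈ span8 j k, tm v ∈ vList) := by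
  have hj' : invK j = true := by
    have := hb; simp only [baseK, Bool.and_eq_true] at this; exact this.1
  have h := base_facts
  simp only [List.all_eq_true, List.mem_range, Bool.or_eq_true, Bool.not_eq_true'] at h
  have h1 := (h j hj).resolve_left (by rw [hj']; exact fun e => Bool.noConfusion e)
  have h2 := (h1 k hk).resolve_left (by rw [hb]; exact fun e => Bool.noConfusion e)
  simp only [Bool.and_eq_true, List.all_eq_true, List.mem_range, Bool.or_eq_true, Bool.not_eq_true',
    Bool.and_eq_false_iff, inV_iff] at h2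
  obtain ⟨⟨hc, hm⟩, hv⟩ := h2
  have nb : ∀ {a b : ℕ}, Nat.beq a b = false → a ≠ b := fun {a b} e e' => by
    rw [beq_iff.2 e'] at e; exact Bool.noConfusion e
  refine ⟨fun c hc' e => ?_, fun m hm' e4 e10 => ?_, fun e1 e2 => ?_⟩
  · exact (hc c hc').elim (fun r => nb r e.1) fun r => nb r e.2
  · rcases hm m hm' with (r | r) | ⟨r1, r2⟩
    · exact absurd e4 (nb r)
    · exact absurd e10 (nb r)
    · exact ⟨fun e => r1.elim (fun r => nb r e.1) fun r => nb r e.2,
        fun e => r2.elim (fun r => nb r e.1) fun r => nb r e.2⟩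
  · rcases hv with (r | r) | r
    · exact (r.elim (fun r => nb r e1) fun r => nb r e2).elim
    · exact Or.inl r
    · exact Or.inr r

/-- Two commuting factors with a common centre. -/
structure Pair {G : Type*} [Group G] (H₁ H₂ : Subgroup G) where
  /-- the first factor -/
  F1 : Fac H₁
  /-- the second factor -/
  F2 : Fac H₂
  z_eq : F1.f 12 = F2.f 12
  comm : ∀ a < 24, ∀ b < 24, F1.f a * F2.f b = F2.f b * F1.f a
  inter : ∀ a < 24, ∀ b < 24, F1.f a = F2.f b → a = 0 ∨ a = 12

namespace Pair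

variable {G : Type*} [Group G] {H₁ H₂ : Subgroup G} (P : Pair H₁ H₂)

/-- The elements of the product. -/
def g (j : ℕ) : G := P.F1.f (sa j) * P.F2.f (sb j)

theorem g_norm {a b e : ℕ} (ha : a < 24) (hb : b < 24) : P.g (norm a b e) = P.F1.f a * P.F2.f b := by
  have hble : Nat.ble a 11 = decide (a ≤ 11) := by
    rw [Bool.eq_iff_iff, decide_eq_true_eq]; exact Nat.ble_eq.to_iff
  by_cases h : a ≤ 11
  · have e1 : norm a b e = e * 288 + a * 24 + b := by rw [PSp43.norm, hble]; simp [h]
    rw [g, show sa (norm a b e) = a by rw [e1, sa]; omega, show sb (norm a b e) = b by rw [e1, sb]; omega]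
  · have e1 : norm a b e = e * 288 + ngs a * 24 + ngs b := by rw [PSp43.norm, hble]; simp [h]
    rw [g, show sa (norm a b e) = ngs a by rw [e1, sa]; simp only [ngs]; omega,
      show sb (norm a b e) = ngs b by rw [e1, sb]; simp only [ngs]; omega,
      (sl_basic.1 a ha).2.2.2.2.1, (sl_basic.1 b hb).2.2.2.2.1, P.F1.mul 12 (by norm_num) a ha,
      P.F2.mul 12 (by norm_num) b hb, ← P.z_eq]
    have h12 : P.F1.f 12 * P.F1.f 12 = 1 := by
      rw [← P.F1.mul 12 (by norm_num) 12 (by norm_num), show mt 12 12 = 0 by decide +kernel, P.F1.f_zero]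
    have hc : P.F1.f a * P.F1.f 12 = P.F1.f 12 * P.F1.f a := by
      rw [← P.F1.mul a ha 12 (by norm_num), ← P.F1.mul 12 (by norm_num) a ha, (sl_basic.1 a ha).2.2.2.2.2.1]
    rw [← mul_assoc, mul_assoc (P.F1.f 12), hc, ← mul_assoc, h12, one_mul]

theorem g_mul {i j : ℕ} (hi : i < 288) : P.g (mL i j) = P.g i * P.g j := by
  have hse : se i = 0 := by rw [se]; omega
  rw [mL, hse]
  change P.g (norm (mt (sa i) (sa j)) (mt (sb i) (sb j)) (se j)) = _
  rw [P.g_norm (mt_lt (sa_lt i) (sa_lt j)) (mt_lt (sb_lt i) (sb_lt j)), P.F1.mul _ (sa_lt i) _ (sa_lt j),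
    P.F2.mul _ (sb_lt i) _ (sb_lt j), g, g]
  simp only [mul_assoc]
  rw [← mul_assoc (P.F1.f (sa j)), P.comm _ (sa_lt j) _ (sb_lt i), mul_assoc]

theorem g_inj {i j : ℕ} (hi : i < 288) (hj : j < 288) (e : P.g i = P.g j) : i = j := by
  rw [g, g] at e
  have ha := sa_lt i; have hb := sb_lt i; have hc := sa_lt j; have hd := sb_lt j
  have e1 : P.F1.f (mt (ivs (sa j)) (sa i)) = P.F2.f (mt (sb j) (ivs (sb i))) := by
    rw [P.F1.mul _ (ivs_lt hc) _ ha, P.F2.mul _ hd _ (ivs_lt hb), P.F1.f_inv hc, P.F2.f_inv hb,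
      inv_mul_eq_iff_eq_mul, ← mul_assoc, ← e, mul_inv_cancel_right]
  have key : ∀ a < 12, ∀ c < 12, (mt (ivs c) a = 0 ∨ mt (ivs c) a = 12) → a = c := by decide +kernel
  have h1 := key (sa i) (Nat.mod_lt _ (by norm_num)) (sa j) (Nat.mod_lt _ (by norm_num))
    (P.inter _ (mt_lt (ivs_lt hc) ha) _ (mt_lt hd (ivs_lt hb)) e1)
  rw [h1] at e
  have h2 := P.F2.inj _ hb _ hd (mul_left_cancel e)
  simp only [sa, sb] at h1 h2
  omega

theorem g_zero : P.g 0 = 1 := by rw [g]; simp [sa, sb, P.F1.f_zero, P.F2.f_zero]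

theorem g_z : P.g zI = P.F1.f 12 := by
  rw [g, show sa zI = 0 by decide, show sb zI = 12 by decide, P.F1.f_zero, P.z_eq, one_mul]

theorem g_cj {c j : ℕ} (hc : c < 288) (hj : j < 288) : P.g (cj c j) = P.g c * P.g j * (P.g c)⁻¹ := by
  have hse : se c = 0 := by rw [se]; omega
  have hm : mL c j < 288 := by
    rw [mL, hse]
    change PSp43.norm (mt (sa c) (sa j)) (mt (sb c) (sb j)) (se j) < 288
    have hj' : se j = 0 := by rw [se]; omega
    have := norm_spec (mt_lt (sa_lt c) (sa_lt j)) (mt_lt (sb_lt c) (sb_lt j)) (se_lt j)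
    rw [hj', se] at this
    rw [hj']
    omega
  have hi : P.g c * P.g (iL c) = 1 := by rw [← P.g_mul hc, (mL_iL (hc.trans (by norm_num))).1, P.g_zero]
  rw [cj, P.g_mul hm, P.g_mul hc, eq_inv_of_mul_eq_one_right hi]

theorem g_com {i j : ℕ} (hi : i < 288) (hj : j < 288) (e : P.g i * P.g j = P.g j * P.g i) : com i j = true := by
  rw [← P.g_mul hi, ← P.g_mul hj] at e
  have hl : ∀ a < 288, ∀ b < 288, mL a b < 288 := by
    intro a ha b hb
    rw [mL, show se a = 0 by rw [se]; omega]
    change PSp43.norm (mt (sa a) (sa b)) (mt (sb a) (sb b)) (se b) < 288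
    have := norm_spec (mt_lt (sa_lt a) (sa_lt b)) (mt_lt (sb_lt a) (sb_lt b)) (se_lt b)
    simp only [se] at this ⊢
    omega
  exact beq_iff.2 (P.g_inj (hl i hi j hj) (hl j hj i hi) e)

/-- The second factor twisted. -/
def twist : Pair H₁ H₂ where
  F1 := P.F1
  F2 := P.F2.twist
  z_eq := by
    show P.F1.f 12 = P.F2.f (tw 12)
    rw [P.z_eq, show tw 12 = 12 by decide +kernel]
  comm a ha b hb := P.comm a ha _ (tw_lt hb)
  inter a ha b hb := P.inter a ha _ (tw_lt hb)

theorem twist_g {j : ℕ} (hj : j < 288) : P.twist.g (tm j) = P.g j := by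
  rw [tm, P.twist.g_norm (sa_lt j) (tw_lt (sb_lt j))]
  show P.F1.f (sa j) * P.F2.f (tw (tw (sb j))) = _
  rw [(sl_basic.1 _ (sb_lt j)).2.2.2.2.2.2]
  rfl

end Pair

/-- Two factors and an outer involution. -/
structure Outer {G : Type*} [Group G] {H₁ H₂ : Subgroup G} (P : Pair H₁ H₂) (n : G) : Prop where
  sq : n * n = 1
  c1 : ∀ a < 24, n * P.F1.f a * n⁻¹ = P.F1.f (tw a)
  c2 : ∀ a < 24, n * P.F2.f a * n⁻¹ = P.F2.f (tw a)
  out : ∀ j < 288, P.g j ≠ n

namespace Outer

variable {G : Type*} [Group G] {H₁ H₂ : Subgroup G} {P : Pair H₁ H₂} {n : G} (O : Outer P n)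

include O

theorem twist : Outer P.twist n where
  sq := O.sq
  c1 := O.c1
  c2 a ha := O.c2 _ (tw_lt ha)
  out j hj e := by
    have h1 : tm j < 288 := by
      have := norm_spec (sa_lt j) (tw_lt (sb_lt j)) (se_lt j)
      simp only [tm, se] at this ⊢
      omega
    refine O.out (tm j) h1 ?_
    rw [tm, P.g_norm (sa_lt j) (tw_lt (sb_lt j)), ← e]
    rfl

/-- The elements of the centraliser. -/
def el (P : Pair H₁ H₂) (n : G) (j : ℕ) : G := P.g j * n ^ se j

theorem el_norm {a b e : ℕ} (ha : a < 24) (hb : b < 24) (he : e < 2) :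
    el P n (norm a b e) = P.F1.f a * P.F2.f b * n ^ e := by
  rw [el, P.g_norm ha hb, (norm_spec ha hb he).2]

theorem el_mul (i j : ℕ) : el P n (mL i j) = el P n i * el P n j := by
  have ha := sa_lt i; have hb := sb_lt i; have hc := sa_lt j; have hd := sb_lt j; have he := se_lt j
  have k1 : ∀ a < 24, n * P.F1.f a = P.F1.f (tw a) * n := fun a h => mul_inv_eq_iff_eq_mul.1 (O.c1 a h)
  have k2 : ∀ a < 24, n * P.F2.f a = P.F2.f (tw a) * n := fun a h => mul_inv_eq_iff_eq_mul.1 (O.c2 a h)
  rw [mL]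
  rcases (by have := se_lt i; omega : se i = 0 ∨ se i = 1) with e | e
  · rw [show Nat.beq (se i) 0 = true by rw [e]; rfl, cond_true, O.el_norm (mt_lt ha hc) (mt_lt hb hd) he,
      P.F1.mul _ ha _ hc, P.F2.mul _ hb _ hd, el, el, e, pow_zero, mul_one, Pair.g, Pair.g]
    simp only [mul_assoc]
    rw [← mul_assoc (P.F1.f (sa j)), P.comm _ hc _ hb, mul_assoc]
  · rw [show Nat.beq (se i) 0 = false by rw [e]; rfl, cond_false,
      O.el_norm (mt_lt ha (tw_lt hc)) (mt_lt hb (tw_lt hd)) (show 1 - se j < 2 by omega),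
      P.F1.mul _ ha _ (tw_lt hc), P.F2.mul _ hb _ (tw_lt hd), el, el, e, pow_one, Pair.g, Pair.g]
    have hp : n ^ (1 - se j) = n * n ^ se j := by
      rcases (by omega : se j = 0 ∨ se j = 1) with r | r
      · rw [r]; simp
      · rw [r]; simp [O.sq]
    rw [hp]
    simp only [mul_assoc]
    rw [← mul_assoc n (P.F1.f (sa j)), k1 _ hc, mul_assoc, ← mul_assoc n (P.F2.f (sb j)), k2 _ hd, mul_assoc,
      ← mul_assoc (P.F1.f (tw (sa j))), P.comm _ (tw_lt hc) _ hb, mul_assoc]

theorem el_inj {i j : ℕ} (hi : i < 576) (hj : j < 576) (e : el P n i = el P n j) : i = j := by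
  have key : ∀ k l : ℕ, k < 288 → l < 288 → P.g k ≠ P.g l * n := by
    intro k l hk hl e'
    obtain ⟨hil, -⟩ : iL l < 288 ∧ True := by
      have hse : se l = 0 := by rw [se]; omega
      refine ⟨?_, trivial⟩
      rw [iL, hse]
      change PSp43.norm (ivs (sa l)) (ivs (sb l)) 0 < 288
      have := norm_spec (ivs_lt (sa_lt l)) (ivs_lt (sb_lt l)) (show 0 < 2 by norm_num)
      simp only [se] at this
      omega
    have hm : mL (iL l) k < 288 := by
      have := mL_lt (iL l) k
      rw [mL, show se (iL l) = 0 by rw [se]; omega] at this ⊢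
      change PSp43.norm (mt (sa (iL l)) (sa k)) (mt (sb (iL l)) (sb k)) (se k) < 288
      have := norm_spec (mt_lt (sa_lt (iL l)) (sa_lt k)) (mt_lt (sb_lt (iL l)) (sb_lt k)) (se_lt k)
      simp only [se] at this ⊢
      omega
    refine O.out _ hm ?_
    rw [P.g_mul hil, e', ← mul_assoc, ← P.g_mul hil, (mL_iL (hl.trans (by norm_num))).2, P.g_zero, one_mul]
  have hmod : ∀ k : ℕ, k < 576 → P.g k = P.g (k % 288) := fun k hk => by
    rw [Pair.g, Pair.g, show sa (k % 288) = sa k by simp only [sa]; omega,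
      show sb (k % 288) = sb k by simp only [sb]; omega]
  rw [el, el, hmod i hi, hmod j hj] at e
  have hi' : i % 288 < 288 := Nat.mod_lt _ (by norm_num)
  have hj' : j % 288 < 288 := Nat.mod_lt _ (by norm_num)
  rcases (by have := se_lt i; omega : se i = 0 ∨ se i = 1) with r | r <;>
    rcases (by have := se_lt j; omega : se j = 0 ∨ se j = 1) with r' | r' <;> rw [r, r'] at e
  · have := P.g_inj hi' hj' (by simpa using e)
    simp only [se] at r r'; omega
  · exact absurd (by simpa using e) (key _ _ hi' hj')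
  · exact absurd (by simpa using e.symm) (key _ _ hj' hi')
  · have := P.g_inj hi' hj' (mul_right_cancel e)
    simp only [se] at r r'; omega

theorem el_lt {i : ℕ} (hi : i < 288) : el P n i = P.g i := by
  rw [el, show se i = 0 by rw [se]; omega, pow_zero, mul_one]

theorem el_tI : el P n tI = n := by
  rw [el, Pair.g, show sa tI = 0 by decide, show sb tI = 0 by decide, show se tI = 1 by decide, pow_one,
    P.F1.f_zero, P.F2.f_zero, one_mul, one_mul]

end Outer

end Cfsg.Agent.Invol.G23Two
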