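import Cfsg.Agent.Lib.Invol.G23Two.Data

/-! Words for all the elements of the table. -/

set_option autoImplicit false

namespace Cfsg.Agent.Invol.G23Two

/-- words, written in base five -/
def wTbl : List ℕ :=
  [0, 13982, 4788, 234, 7, 10336, 13986, 8416, 11, 8417, 413, 559, 11067, 8316, 10836, 546, 5338, 547, 8317, 433, 11066, 10832, 13661, 7421, 43316, 598, 372832, 1116, 13473, 1117, 14957, 22991, 27692, 14913, 27911, 1741, 26492, 55567, 12296, 41792, 42116, 43416, 26191, 12297, 14613, 27791, 13973, 55566, 60332, 2108, 52832, 61067, 60336, 52683, 2433, 52836, 2413, 2113, 61066, 52711, 54336, 36832, 6116, 98, 2173, 2457, 36836, 973, 54332, 24332, 2461, 1473, 73336, 46, 4, 1482, 2933, 1486, 47, 107, 73332, 111, 59, 1161, 51732, 2734, 29296, 54236, 51736, 2169, 72836, 30191, 2069, 73566, 69921, 2913, 2111, 1069, 13613, 2172, 84, 6108, 13548, 42361, 2107, 1694, 2171, 26736, 61442, 972, 2411, 1471, 60546, 1472, 24286, 96, 61441, 97, 36786, 971, 14911, 1673, 14611, 1733, 596,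 1048, 13972, 584, 597, 14607, 5847, 5959, 1113, 14672, 51473, 13472, 43461, 336786, 43308, 42113, 1738, 373941, 13471, 14671, 54242, 1491, 1192, 2911, 68366, 116, 1492, 29786, 54241, 1191, 117, 37286, 2791, 2692, 1213, 8369, 1166, 70961, 67286, 10598, 1167, 30336, 2838, 2691, 13692, 411, 291, 192, 8308, 4786, 16, 292, 13691, 7286, 191, 17, 13713, 8457, 11058, 213, 11038, 484, 8461, 5866, 10859, 5867, 5336, 338, 2707, 2836, 1488, 1207, 2711, 1211, 113, 72791, 108, 37211, 48, 2832, 72838, 2941, 12209, 2683, 67316, 29816, 2942, 1163, 67317, 12084, 67086, 10596, 1047, 1107, 1736, 919, 1671, 51471, 1111, 69, 1046, 1732, 22986, 44, 43538, 1684, 2221, 14917, 55296, 1059, 24096, 2222, 55297, 55536, 14916, 42111, 12117, 183, 207, 336, 13663, 13, 4582, 211, 12116, 8, 332, 4586, 13988, 13707, 10338, 441, 10291, 442, 13711, 4816, 10292, 4817, 11036, 548, 2441, 2417, 13547, 2117, 2442, 13611, 13559, 14171, 61036, 13546, 544, 2416, 14236, 13419, 61433, 14184, 569, 5819, 363971, 6059, 244,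 54317, 60292, 335486, 55191, 3, 957, 1461, 68566, 58, 82, 961, 54296, 38, 1457, 86, 41541, 1692, 2421, 1173, 68461, 55291, 42286, 1066, 2738, 1067, 29336, 1691, 8692, 69861, 1169, 2921, 5566, 2922, 2794, 8666, 8691, 8667, 73036, 8367, 119, 73357, 67357, 37309, 2982, 29044, 73361, 67361, 2986, 2694, 74788, 2934, 13673, 13457, 14192, 7413, 271211, 6066, 13461, 5808, 10848, 14191, 6067, 538, 233, 7461, 23, 5957, 558, 5961, 298, 582, 5836, 586, 238, 7457, 12109, 7309, 10857, 8472, 307211, 4809, 5346, 10861, 12288, 434, 8471, 5347, 421, 4857, 7361, 19, 422, 482, 4861, 294, 10536, 7357, 486, 194, 10347, 236, 297, 536, 258661, 21, 9, 7411, 10346, 296, 22, 232, 14666, 14567, 10846, 6038, 14667, 5859, 13671, 10847, 366661, 13984, 14713, 14566, 8423, 8707, 5586, 4598, 132461, 114957, 2991, 223, 5298, 5582, 74566, 348, 5538, 5238, 8683, 61486, 8663, 2459, 277836, 208961, 52834, 8358, 5558, 11113, 12067, 7367, 12286, 4866, 301661, 1223, 184161, 491, 12066, 492, 30582, 7366, 10866, 12166,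 67738, 10567, 10867, 264161, 2723, 305336, 68058, 12213, 10566, 10542, 26691, 2797, 2067, 1683, 55336, 23941, 69911, 1171, 2213, 2066, 42086, 2796, 36, 41586, 2736, 2166, 1, 2167, 1663, 109, 2, 2732, 54161, 1484, 2846, 12082, 2722, 2834, 2847, 10538, 12086, 10586, 1221, 423, 2709, 483, 12211, 72794, 12058, 10863, 488, 30297, 67096, 70921, 12207, 70922, 271586, 67097, 11059, 222, 10294, 346, 217691, 347, 5536, 4596, 276486, 4597, 8661, 221, 334, 4819, 5296, 11111, 5236, 444, 8421, 5297, 209, 2983, 11107, 8422, 68316, 2742, 2211, 963, 60586, 51691, 68536, 88, 2423, 2207, 24086, 2741, 2058, 22911, 66, 42, 69941, 1036, 916, 67, 51461, 1661, 41, 917, 13463, 566, 242, 14558, 364191, 7441, 567, 6036, 336586, 241, 7442, 14161, 542, 14711, 5963, 5816, 13536, 5817, 588, 13416, 541, 13417, 7463, 2119]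

end Cfsg.Agent.Invol.G23Two
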