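import Cfsg.Agent.Lib.Invol.G23Two.Rels
import Cfsg.Agent.Lib.Invol.G23Two.Chev
import Cfsg.Agent.Lib.Invol.G23Two.WordTable
import Cfsg.Agent.Lib.Spor.Cos.Bound
import Cfsg.Agent.Lib.Spor.Cos.G23Two.H0Cert
import Cfsg.Agent.Lib.Spor.Cos.G23Two.C4Cert
import Cfsg.Agent.Lib.Spor.Cos.G23Two.C10Cert
import Cfsg.Agent.Lib.Spor.Cos.G23Two.C96Cert
import Cfsg.Agent.Lib.Spor.Cos.G23Two.C100Cert
import Cfsg.Agent.Lib.Spor.Cos.G23Two.C104Cert
import Cfsg.Agent.Lib.Spor.Cos.G23Two.C106Cert
import Cfsg.Agent.Lib.Spor.Cos.G23Two.C115Cert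
import Cfsg.Agent.Lib.Spor.Cos.G23Two.C175Cert
import Cfsg.Agent.Lib.Spor.Cos.G23Two.C180Cert
import Cfsg.Agent.Lib.Spor.Cos.G23Two.C184Cert
import Cfsg.Agent.Lib.Spor.Cos.G23Two.C188Cert
import Cfsg.Agent.Lib.Spor.Cos.G23Two.C190Cert

/-! The enumerations: one candidate gives `G₂(3)`, the others are impossible. -/

set_option autoImplicit false
set_option linter.unusedSectionVars false
set_option linter.style.haveILetI false
set_option maxRecDepth 100000

namespace Cfsg.Agent.Invol.G23Two

open Cfsg.Agent.Spor.Cos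
open Cfsg.Agent.Spor.Cos.G23Two

/-- the letters of the table -/
abbrev hL : List ℕ := [0, 1, 2, 3]

/-- all letters -/
abbrev gL : List ℕ := [0, 1, 2, 3, 4]

/-- decoding of a word -/
def dec : ℕ → ℕ → List ℕ
  | 0, _ => []
  | k + 1, n => bif Nat.beq n 0 then [] else (n % 5 - 1) :: dec k (n / 5)

theorem wTbl_ok : ((List.range 576).all fun i =>
    hWordOk (dec 9 (wTbl.getD i 0)) && Nat.beq (hv (dec 9 (wTbl.getD i 0))) i) = true := by decide +kernel

section Bounds

variable {X : Type*} [Group X] {g : ℕ → X}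

theorem map_small {L : List ℕ} {d n : ℕ} (hL : ∀ i < n, L.getD i d = i) {w : List ℕ}
    (hw : (w.all fun s => Nat.blt s n) = true) : (w.map fun i => L.getD i d) = w := by
  simp only [List.all_eq_true, Nat.blt_eq] at hw
  conv_rhs => rw [← List.map_id w]
  exact List.map_congr_left fun i hi => hL i (hw i hi)

theorem bound_table (hinv : ∀ s, g s * g s = 1) (hrel : ∀ w ∈ hW, ev g w = 1) : Bound g hL 576 := by
  have := Bound.step (d := 4) hinv (L := hL) Bound.nil h0 h0_checks rfl (by decide +kernel) (base := hW) (fun w hw => ?_)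
    (by decide +kernel)
  · simpa [h0] using this
  · have h := hW_ok
    simp only [List.all_eq_true, Bool.and_eq_true] at h
    rw [map_small (n := 4) (by decide) (h w hw).1]
    exact hrel w hw

theorem bound_case (hinv : ∀ s, g s * g s = 1) (C : Log) (hc : C.Checks) (hn : C.n = 5)
    (hsub : C.sub.all (fun w => w.all fun i => hL.contains (gL.getD i 5)) = true) {Bs : List (List ℕ)}
    (hsmall : (Bs.all fun w => w.all fun s => Nat.blt s 5) = true) (hder : C.rels.all (derivedOk C.n Bs) = true)
    (hrel : ∀ w ∈ Bs, ev g w = 1) (hb : ∀ w ∈ hW, ev g w = 1) : Bound g gL (C.N * 576) := by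
  refine Bound.step (d := 5) hinv (L := gL) (bound_table hinv hb) C hc hn hsub (base := Bs) (fun w hw => ?_) hder
  rw [map_small (n := 5) (by decide) (List.all_eq_true.1 hsmall w hw)]
  exact hrel w hw

end Bounds

theorem hW_sub_base (c : List ℕ) : ∀ w ∈ hW, w ∈ caseBase c := fun w hw => by
  simp only [caseBase, base, List.mem_append]
  exact Or.inl (Or.inl (Or.inl (Or.inl hw)))

theorem val_mono {X : Type*} [Group X] (g : ℕ → X) : val g (singles hL) ≤ val g (singles gL) :=
  (Subgroup.closure_le _).2 fun _ ⟨w, hw, e⟩ => by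
    refine Subgroup.subset_closure ⟨w, ?_, e⟩
    simp only [singles, List.mem_map] at hw ⊢
    obtain ⟨s, hs, rfl⟩ := hw
    refine ⟨s, ?_, rfl⟩
    revert hs
    simp [hL, gL]
    omega

namespace Loc

variable {G : Type*} [Group G] [Finite G] (L : Loc G)

/-- The subgroup generated by the table and the involution. -/
def G0 : Subgroup G := val L.gfun (singles gL)

theorem e_mem_val {i : ℕ} (hi : i < 576) : L.h.e i ∈ val L.gfun (singles hL) := by
  have h := wTbl_ok
  simp only [List.all_eq_true, List.mem_range, Bool.and_eq_true, Nat.beq_eq] at h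
  obtain ⟨h1, h2⟩ := h i hi
  rw [← h2, ← L.ev_hv _ h1]
  simp only [hWordOk, List.all_eq_true, Nat.blt_eq] at h1
  exact ev_mem _ fun s hs => mem_single (List.mem_range.2 (h1 s hs) : s ∈ List.range 4)

theorem e_mem_G0 {i : ℕ} (hi : i < 576) : L.h.e i ∈ L.G0 := val_mono _ (L.e_mem_val hi)

theorem u_mem_G0 : L.u ∈ L.G0 := by
  have := mem_single (g := L.gfun) (show 4 ∈ gL by decide)
  simpa [gfun, G0] using this

theorem val_cent : ∀ x ∈ val L.gfun (singles hL), x * L.h.e zI = L.h.e zI * x := by
  intro x hx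
  refine Subgroup.mem_centralizer_singleton_iff.1 ((Subgroup.closure_le
    (Subgroup.centralizer ({L.h.e zI} : Set G))).2 ?_ hx)
  rintro _ ⟨w, hw, rfl⟩
  simp only [singles, List.mem_map] at hw
  obtain ⟨s, hs, rfl⟩ := hw
  have h4 : s < 4 := by revert hs; simp [hL]; omega
  have hg := gens_ok
  simp only [List.all_eq_true, Bool.and_eq_true, Nat.blt_eq] at hg
  have hlt : gens.getD s 0 < 576 := (hg _ (by
    rw [List.getD_eq_getElem _ _ (by simpa [gens] using h4)]
    exact List.getElem_mem _)).1
  refine Subgroup.mem_centralizer_singleton_iff.2 ?_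
  simp only [ev, mul_one, gfun, if_pos h4]
  exact L.h.e_comm_z hlt

theorem u_not_cent : L.u * L.h.e zI ≠ L.h.e zI * L.u := fun e => by
  have h1 := L.uz
  rw [e, mul_assoc, L.u2, mul_one] at h1
  exact L.h.e_ne (show zI < 576 by norm_num) (show wI < 576 by norm_num) (by norm_num) h1

/-- A candidate whose enumeration has one coset is impossible. -/
theorem excluded (C : Log) (hc : C.Checks) (hn : C.n = 5) (hN : C.N = 1)
    (hsub : C.sub.all (fun w => w.all fun i => hL.contains (gL.getD i 5)) = true) (w : List ℕ)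
    (hsmall : ((caseBase w).all fun v => v.all fun s => Nat.blt s 5) = true)
    (hder : C.rels.all (derivedOk C.n (caseBase w)) = true) (hrel : ∀ v ∈ caseBase w, ev L.gfun v = 1) : False := by
  obtain ⟨hf, hcard⟩ := bound_case L.gfun_sq C hc hn hsub hsmall hder hrel fun v hv => hrel v (hW_sub_base w v hv)
  rw [hN, one_mul] at hcard
  have hle : 576 ≤ Nat.card (val L.gfun (singles hL)) := by
    let F : Fin 576 → val L.gfun (singles hL) := fun i => ⟨L.h.e i, L.e_mem_val i.2⟩
    have := Nat.card_le_card_of_injective F fun i j e => Fin.ext (L.h.inj i i.2 j j.2 (congrArg Subtype.val e))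
    rwa [Nat.card_fin] at this
  have := Subgroup.eq_of_le_of_card_ge (val_mono L.gfun) (hcard.trans hle)
  refine L.u_not_cent (L.val_cent _ ?_)
  rw [this]
  exact L.u_mem_G0

set_option maxHeartbeats 3000000 in
/-- The remaining candidate gives `G₂(3)`. -/
theorem recog (hrel : ∀ v ∈ caseBase ((cList.getD 0 (0, [])).2), ev L.gfun v = 1) :
    Nonempty (Cfsg.Agent.Fus.GTwoThree.G ≃* L.G0) := by
  haveI hsimp : IsSimpleGroup Cfsg.Agent.Fus.GTwoThree.G :=
    (Cfsg.Agent.S1055.result (F := ZMod 3) ⟨2, by decide, by decide⟩).1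
  let gP : ℕ → G × Cfsg.Agent.Fus.GTwoThree.G := fun s => (L.gfun s, if s < 5 then gM s else 1)
  have hM5 : ∀ v : List ℕ, (v.all fun s => Nat.blt s 5) = true →
      ev (fun s => if s < 5 then gM s else 1) v = ev gM v := by
    intro v hv
    induction v with
    | nil => rfl
    | cons s v ih =>
      simp only [List.all_cons, Bool.and_eq_true, Nat.blt_eq] at hv
      rw [ev, ev, ih hv.2, if_pos hv.1]
  have hsmall : ((caseBase ((cList.getD 0 (0, [])).2)).all fun v => v.all fun s => Nat.blt s 5) = true := by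
    decide +kernel
  have hP : ∀ v ∈ caseBase ((cList.getD 0 (0, [])).2), ev gP v = 1 := by
    intro v hv
    refine Prod.ext ?_ ?_
    · have := ev_map (MonoidHom.fst G Cfsg.Agent.Fus.GTwoThree.G) gP v
      exact this.trans (hrel v hv)
    · have := ev_map (MonoidHom.snd G Cfsg.Agent.Fus.GTwoThree.G) gP v
      exact this.trans ((hM5 v (List.all_eq_true.1 hsmall v hv)).trans (gM_rel v hv))
  have hinv : ∀ s, gP s * gP s = 1 := by
    intro s
    refine Prod.ext (L.gfun_sq s) ?_
    show (if s < 5 then gM s else 1) * (if s < 5 then gM s else 1) = 1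
    split_ifs with hs
    · have : ∀ t < 5, Cfsg.Agent.Invol.G23Two.mulN (letC t) (letC t) = oneN := by decide +kernel
      refine Cfsg.Agent.Fus.GTwoThree.ρ_injective ?_
      rw [map_mul, ρ_gM, ← toM_mulN, this s hs, toM_one, map_one]
    · exact one_mul 1
  obtain ⟨hfin, hcard⟩ := bound_case hinv c4 c4_checks rfl (by decide +kernel) hsmall (by decide +kernel) hP
    fun v hv => hP v (hW_sub_base _ v hv)
  set D := val gP (singles gL) with hD
  let π : D →* Cfsg.Agent.Fus.GTwoThree.G := (MonoidHom.snd _ _).comp D.subtype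
  have hπ : Function.Surjective π := by
    rw [← MonoidHom.range_eq_top, eq_top_iff, ← gM_top]
    refine (Subgroup.closure_le _).2 ?_
    rintro _ ⟨s, hs, rfl⟩
    refine ⟨⟨gP s, mem_single (show s ∈ gL by revert hs; simp [gL]; omega)⟩, ?_⟩
    show (if s < 5 then gM s else 1) = gM s
    rw [if_pos hs]
  haveI := hfin
  have hbij : Function.Bijective π := by
    refine (Nat.bijective_iff_surjective_and_card π).2 ⟨hπ, le_antisymm ?_ (Nat.card_le_card_of_surjective π hπ)⟩
    refine hcard.trans (le_of_eq ?_)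
    rw [Cfsg.Agent.Fus.GTwoThree.card_G, show c4.N = 7371 from rfl]
    norm_num
  let ψ : Cfsg.Agent.Fus.GTwoThree.G →* G :=
    ((MonoidHom.fst _ _).comp D.subtype).comp (MulEquiv.ofBijective π hbij).symm.toMonoidHom
  have hψ : ∀ x : D, ψ (π x) = (x : G × Cfsg.Agent.Fus.GTwoThree.G).1 := fun x => by
    show (((MulEquiv.ofBijective π hbij).symm (π x) : D) : G × Cfsg.Agent.Fus.GTwoThree.G).1 = _
    rw [show π x = MulEquiv.ofBijective π hbij x from rfl, MulEquiv.symm_apply_apply]
  have hrange : ψ.range = L.G0 := by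
    refine le_antisymm ?_ ((Subgroup.closure_le _).2 ?_)
    · rintro _ ⟨y, rfl⟩
      obtain ⟨x, rfl⟩ := hπ y
      rw [hψ]
      have hle : D ≤ L.G0.comap (MonoidHom.fst G Cfsg.Agent.Fus.GTwoThree.G) := by
        refine (Subgroup.closure_le _).2 ?_
        rintro _ ⟨w, hw, rfl⟩
        refine Subgroup.mem_comap.2 (Subgroup.subset_closure ⟨w, hw, ?_⟩)
        exact (ev_map (MonoidHom.fst G Cfsg.Agent.Fus.GTwoThree.G) gP w).symm
      exact hle x.2
    · rintro _ ⟨w, hw, rfl⟩
      refine ⟨π ⟨ev gP w, mem_val hw⟩, ?_⟩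
      rw [hψ]
      exact ev_map (MonoidHom.fst G Cfsg.Agent.Fus.GTwoThree.G) gP w
  have hinj : Function.Injective ψ := by
    rw [← MonoidHom.ker_eq_bot_iff]
    refine (ψ.normal_ker.eq_bot_or_eq_top).resolve_right fun ht => ?_
    have hu : L.u ∈ ψ.range := hrange ▸ L.u_mem_G0
    obtain ⟨y, hy⟩ := hu
    have : ψ y = 1 := MonoidHom.mem_ker.1 (ht ▸ Subgroup.mem_top y)
    rw [hy] at this
    exact L.u_not_cent (by rw [this, one_mul, mul_one])
  exact ⟨(MonoidHom.ofInjective hinj).trans (MulEquiv.subgroupCongr hrange)⟩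

set_option maxHeartbeats 3000000 in
/-- The conjugate of the candidate. -/
theorem cases_c {c : ℕ} {w : List ℕ} (hc : (c, w) ∈ cList)
    (hx : Commute ((L.u * L.h.e 198 * L.u)⁻¹ * L.h.e c * (L.u * L.h.e 198 * L.u)) (L.h.e xI))
    (hy : Commute ((L.u * L.h.e 198 * L.u)⁻¹ * L.h.e c * (L.u * L.h.e 198 * L.u)) (L.h.e yI)) :
    Nonempty (Cfsg.Agent.Fus.GTwoThree.G ≃* L.G0) := by
  have hr := L.case_rel hc hx hy
  have hc' := hc
  simp only [cList, List.mem_cons, List.not_mem_nil, or_false, Prod.mk.injEq] at hc'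
  rcases hc' with e | e | e | e | e | e | e | e | e | e | e | e <;> obtain ⟨rfl, rfl⟩ := e
  · exact L.recog (fun v hv => hr v (by simpa only [cList, List.getD_cons_zero] using hv))
  · exact (L.excluded c10 c10_checks rfl rfl (by decide +kernel) _ (by decide +kernel) (by decide +kernel) hr).elim
  · exact (L.excluded c96 c96_checks rfl rfl (by decide +kernel) _ (by decide +kernel) (by decide +kernel) hr).elim
  · exact (L.excluded c100 c100_checks rfl rfl (by decide +kernel) _ (by decide +kernel) (by decide +kernel) hr).elim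
  · exact (L.excluded c104 c104_checks rfl rfl (by decide +kernel) _ (by decide +kernel) (by decide +kernel) hr).elim
  · exact (L.excluded c106 c106_checks rfl rfl (by decide +kernel) _ (by decide +kernel) (by decide +kernel) hr).elim
  · exact (L.excluded c115 c115_checks rfl rfl (by decide +kernel) _ (by decide +kernel) (by decide +kernel) hr).elim
  · exact (L.excluded c175 c175_checks rfl rfl (by decide +kernel) _ (by decide +kernel) (by decide +kernel) hr).elim
  · exact (L.excluded c180 c180_checks rfl rfl (by decide +kernel) _ (by decide +kernel) (by decide +kernel) hr).elim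
  · exact (L.excluded c184 c184_checks rfl rfl (by decide +kernel) _ (by decide +kernel) (by decide +kernel) hr).elim
  · exact (L.excluded c188 c188_checks rfl rfl (by decide +kernel) _ (by decide +kernel) (by decide +kernel) hr).elim
  · exact (L.excluded c190 c190_checks rfl rfl (by decide +kernel) _ (by decide +kernel) (by decide +kernel) hr).elim

end Loc

end Cfsg.Agent.Invol.G23Two
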