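import Cfsg.Agent.Lib.Invol.G23Two.Data

/-! Words for the relations of the table, the involution and the second subgroup. -/

set_option autoImplicit false

namespace Cfsg.Agent.Invol.G23Two

/-- the four involutions generating the table -/
def gens : List ℕ := [472, 476, 289, 74]

/-- trivial words of the table -/
def hW : List (List ℕ) :=
  [[0, 1, 0, 3, 1, 3, 0, 1],
    [2, 1, 2, 3, 2, 3, 1, 2, 3],
    [0, 2, 3, 0, 3, 1, 0, 2, 1, 2],
    [3, 1, 3, 1],
    [0, 1, 0, 1, 0, 1],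
    [0, 2, 0, 2, 0, 2],
    [3, 2, 3, 2, 3, 2, 3, 2],
    [0, 2, 3, 0, 2, 3, 0, 2, 3],
    [1, 0, 2, 0, 3, 0, 3, 1, 0, 2],
    [1, 2, 0, 3, 1, 0, 3, 0, 2, 0],
    [1, 2, 3, 0, 1, 3, 2, 3, 0, 3],
    [3, 0, 2, 1, 2, 0, 2, 3, 0, 1],
    [3, 0, 3, 2, 1, 3, 0, 3, 2, 1],
    [3, 2, 3, 0, 1, 3, 2, 3, 0, 1]]

/-- elements of the centraliser of the plane and their images -/
def ruW : List (List ℕ × List ℕ) :=
  [([2, 3, 2, 3], [1, 2, 1, 2, 1, 2]),
    ([1, 2, 1, 2, 1, 2], [2, 3, 2, 3]),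
    ([1, 0, 3, 0, 1, 3], [1, 2, 1, 2, 1, 3]),
    ([1, 0, 2, 1, 3, 0, 2], [1, 0, 2, 1, 3, 0, 2]),
    ([0, 2, 1, 0, 2, 1, 2], [2, 3, 2])]

/-- elements with their cubes -/
def scW : List (List ℕ × List ℕ) :=
  [([3, 0, 3, 0], []),
    ([2, 0, 3, 0], []),
    ([0, 2, 3, 2, 0], []),
    ([0, 3, 0], [1, 0, 2, 1, 3, 0, 2]),
    ([1, 0, 2, 1, 0], [1, 0, 3, 0, 1])]

/-- elements with their orders on the elementary group and of the products -/
def svW : List (List ℕ × ℕ × ℕ) :=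
  [([0, 3], 7, 7),
    ([3, 0], 7, 7),
    ([3, 0, 2], 7, 7),
    ([3], 4, 8),
    ([0], 4, 8),
    ([0, 2], 3, 6),
    ([2, 0], 3, 6)]

/-- a word for the element 198 -/
def hWd : List ℕ := [2, 1, 3]

/-- a word for its inverse -/
def hWi : List ℕ := [1, 3, 2]

/-- a word for the first element of order three -/
def xWd : List ℕ := [0, 1, 3, 0, 2]

/-- a word for the second element of order three -/
def yWd : List ℕ := [1, 0]

/-- the candidates with their words -/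
def cList : List (ℕ × List ℕ) :=
  [(4, [1, 0]),
    (10, [2, 1, 0, 2]),
    (96, [0, 1, 3, 0, 2]),
    (100, [3, 0, 2]),
    (104, [1, 0, 3, 0, 2]),
    (106, [0, 3, 0, 1, 2]),
    (115, [0, 3, 2]),
    (175, [1, 2, 0, 1]),
    (180, [2, 1, 2, 3, 0, 3]),
    (184, [2, 1, 0, 2, 1, 2]),
    (188, [3, 0, 3, 0, 1, 2]),
    (190, [0, 1, 2, 1, 2, 0])]

/-- the relations -/
def base : List (List ℕ) :=
  hW ++ ruW.map (fun p => [4] ++ p.1 ++ [4] ++ p.2.reverse) ++
    scW.map (fun p => (List.replicate 3 (p.1 ++ [4])).flatten ++ p.2.reverse) ++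
    svW.map fun p => (List.replicate p.2.2 (p.1 ++ [4])).flatten

/-- the candidate element -/
def aWord (c : List ℕ) : List ℕ := [4] ++ hWi ++ [4] ++ c ++ [4] ++ hWd ++ [4]

/-- the relations of a candidate -/
def caseBase (c : List ℕ) : List (List ℕ) :=
  base ++ [aWord c ++ xWd ++ (aWord c).reverse ++ xWd.reverse, aWord c ++ yWd ++ (aWord c).reverse ++ yWd.reverse]

end Cfsg.Agent.Invol.G23Two
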