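import Cfsg.Agent.Lib.Invol.G23Two.Local
import Cfsg.Agent.Lib.Invol.G23Two.Words
import Cfsg.Agent.Lib.Spor.Cos.Words

/-! Relations between the table and the involution moving the centre. -/

set_option autoImplicit false
set_option linter.unusedSectionVars false
set_option linter.style.haveILetI false
set_option maxRecDepth 20000

namespace Cfsg.Agent.Invol.G23Two

open Cfsg.Agent.Invol.PSp43 (beq_iff)
open Cfsg.Agent.Spor.Cos (ev ev_append ev_reverse ev_power)

/-- the value of a word in the table -/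
def hv : List ℕ → ℕ
  | [] => 0
  | s :: w => mL (gens.getD s 0) (hv w)

/-- the map induced by an element and the involution -/
def fb (b r : ℕ) : ℕ := cj b (al r)

/-- its powers -/
def fbn (b : ℕ) : ℕ → ℕ → ℕ
  | 0, r => r
  | k + 1, r => fb b (fbn b k r)

/-- short words in the table -/
def hWordOk (w : List ℕ) : Bool := w.all fun s => Nat.blt s 4

/-- the test of a cube -/
def cubeOk (p : List ℕ × List ℕ) : Bool :=
  hWordOk p.1 && hWordOk p.2 && inB (hv p.1) && (rList.all fun r => inR (fb (hv p.1) r)) &&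
    (vList.all fun v => Nat.beq (fbn (hv p.1) 3 v) v) &&
    (vList.all fun v => !((rList.all fun r => Nat.beq (cj v r) (fbn (hv p.1) 3 r)) &&
      Nat.beq (fb (hv p.1) v) v) || Nat.beq v (hv p.2))

/-- the test of a power -/
def powOk (p : List ℕ × ℕ × ℕ) : Bool :=
  hWordOk p.1 && inB (hv p.1) && (vList.all fun v => inV (fb (hv p.1) v)) &&
    (vList.all fun v => Nat.beq (fbn (hv p.1) p.2.1 v) v) &&
    (Nat.beq p.2.2 (2 * p.2.1) ||
      (Nat.beq p.2.2 p.2.1 && vList.all fun v => !(Nat.beq (fb (hv p.1) v) v) || Nat.beq v 0))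

theorem gens_ok : (gens.all fun g => Nat.blt g 576 && Nat.beq (mL g g) 0) = true := by decide +kernel

theorem hW_ok : (hW.all fun w => hWordOk w && Nat.beq (hv w) 0) = true := by decide +kernel

theorem ruW_ok : (ruW.all fun p => hWordOk p.1 && hWordOk p.2 && inR (hv p.1) &&
    Nat.beq (al (hv p.1)) (hv p.2)) = true := by decide +kernel

theorem scW_ok : (scW.all cubeOk) = true := by decide +kernel

theorem svW_ok : (svW.all powOk) = true := by decide +kernel

theorem sym_ok : hWordOk hWd = true ∧ hv hWd = 198 ∧ hWordOk hWi = true ∧ hv hWi = iL 198 ∧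
    hWordOk xWd = true ∧ hv xWd = xI ∧ hWordOk yWd = true ∧ hv yWd = yI ∧
    (cList.all fun p => hWordOk p.2 && Nat.beq (hv p.2) p.1) = true := by decide +kernel

theorem hv_lt : ∀ w, hv w < 576
  | [] => by norm_num [hv]
  | _ :: _ => mL_lt _ _

namespace Loc

variable {G : Type*} [Group G] [Finite G] (L : Loc G)

/-- the letters -/
def gfun (s : ℕ) : G := if s < 4 then L.h.e (gens.getD s 0) else if s = 4 then L.u else 1

theorem gfun_sq (s : ℕ) : L.gfun s * L.gfun s = 1 := by
  unfold gfun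
  split_ifs with h1 h2
  · have h := gens_ok
    simp only [List.all_eq_true, Bool.and_eq_true, Nat.blt_eq, beq_iff] at h
    have hm : gens.getD s 0 ∈ gens := by
      rw [List.getD_eq_getElem _ _ (by simpa [gens] using h1)]
      exact List.getElem_mem _
    exact L.h.sq_one (h _ hm).1 (h _ hm).2
  · exact L.u2
  · exact one_mul 1

theorem ev_hv : ∀ w : List ℕ, hWordOk w = true → ev L.gfun w = L.h.e (hv w)
  | [], _ => by simp [ev, hv, L.h.e_zero]
  | s :: w, hw => by
    simp only [hWordOk, List.all_cons, Bool.and_eq_true, Nat.blt_eq] at hw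
    have hlt : gens.getD s 0 < 576 := by
      have h := gens_ok
      simp only [List.all_eq_true, Bool.and_eq_true, Nat.blt_eq, beq_iff] at h
      refine (h _ ?_).1
      rw [List.getD_eq_getElem _ _ (by simpa [gens] using hw.1)]
      exact List.getElem_mem _
    rw [ev, ev_hv w hw.2, hv, L.h.mul _ hlt _ (hv_lt w), gfun, if_pos hw.1]

theorem ev_rev {w : List ℕ} (hw : ∀ s ∈ w, s < 5) : ev L.gfun w.reverse = (ev L.gfun w)⁻¹ :=
  ev_reverse (n := 5) (fun s _ => L.gfun_sq s) w hw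

theorem hword_lt {w : List ℕ} (hw : hWordOk w = true) : ∀ s ∈ w, s < 5 := by
  simp only [hWordOk, List.all_eq_true, Nat.blt_eq] at hw
  exact fun s hs => (hw s hs).trans (by norm_num)

theorem ev_four : ev L.gfun [4] = L.u := by simp [ev, gfun]

theorem al_mem {r : ℕ} (hr : r ∈ rList) : al r ∈ rList := by
  have h2 := r_ok.2
  simp only [List.all_eq_true, Bool.and_eq_true, inR_iff] at h2
  exact (h2 r hr).1.1

theorem v_sub_r : ∀ v ∈ vList, v ∈ rList := by decide

/-- Conjugation by the powers of an element times the involution. -/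
theorem conj_pow {b : ℕ} (hb : b < 576) {S : List ℕ} (hS : ∀ r ∈ S, r ∈ rList) (hcl : ∀ r ∈ S, fb b r ∈ S) :
    ∀ k, ∀ r ∈ S, fbn b k r ∈ S ∧
      (L.h.e b * L.u) ^ k * L.h.e r * ((L.h.e b * L.u) ^ k)⁻¹ = L.h.e (fbn b k r) := by
  intro k
  induction k with
  | zero => intro r hr; exact ⟨hr, by simp [fbn]⟩
  | succ k ih =>
    intro r hr
    obtain ⟨h1, h2⟩ := ih r hr
    refine ⟨hcl _ h1, ?_⟩
    have ha := rList_lt _ (al_mem (hS _ h1))
    have hu : (L.u)⁻¹ = L.u := inv_eq_of_mul_eq_one_right L.u2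
    rw [pow_succ', fbn, fb, ← L.h.conj_e hb ha, ← L.ru _ (hS _ h1), ← h2, mul_inv_rev, mul_inv_rev, hu]
    group

/-- A power which acts trivially on the elementary group lies in it and is fixed. -/
theorem pow_in_V {b : ℕ} (hb : b < 576) (hbB : inB b = true) {n : ℕ} (hcl : ∀ v ∈ vList, fb b v ∈ vList)
    (hfix : ∀ v ∈ vList, fbn b n v = v) :
    ∃ v ∈ vList, L.h.e v = (L.h.e b * L.u) ^ n ∧ fb b v = v := by
  have hgM : L.h.e b * L.u ∈ L.M := mul_mem (L.bM b hb hbB) L.uM
  have hmem : (L.h.e b * L.u) ^ n ∈ L.h.V := by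
    refine L.eight.cent _ (pow_mem hgM n) ?_
    rintro _ ⟨v, hv, rfl⟩
    have := (L.conj_pow hb v_sub_r hcl n v hv).2
    rw [hfix v hv] at this
    exact mul_inv_eq_iff_eq_mul.1 this
  obtain ⟨v, hv, e⟩ := hmem
  refine ⟨v, hv, e, ?_⟩
  have h1 := (L.conj_pow hb v_sub_r hcl 1 v hv).2
  rw [pow_one, fbn, fbn, e, (Commute.self_pow (L.h.e b * L.u) n).eq, mul_inv_cancel_right, ← e] at h1
  exact (L.h.inj _ (vList_lt v hv) _ (cj_lt _ _) h1).symm

theorem cube_rel {p : List ℕ × List ℕ} (hp : p ∈ scW) :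
    ev L.gfun ((List.replicate 3 (p.1 ++ [4])).flatten ++ p.2.reverse) = 1 := by
  have h := scW_ok
  simp only [List.all_eq_true, cubeOk, Bool.and_eq_true, beq_iff, Bool.or_eq_true, inR_iff] at h
  obtain ⟨⟨⟨⟨⟨w1, w2⟩, hB⟩, hR⟩, h3⟩, hu⟩ := h p hp
  have hb := hv_lt p.1
  have hcl : ∀ v ∈ vList, fb (hv p.1) v ∈ vList := by
    intro v hv'
    have hB' := hB
    simp only [inB, List.all_eq_true, inV_iff] at hB'
    refine hB' _ ?_
    have : ∀ w ∈ vList, al w ∈ vList := by decide +kernel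
    exact this v hv'
  obtain ⟨v, hv', ev', hf⟩ := L.pow_in_V hb hB (n := 3) hcl h3
  have hvc : v = hv p.2 := by
    refine (hu v hv').resolve_left ?_
    simp only [Bool.not_eq_true', Bool.not_eq_false, Bool.and_eq_true, List.all_eq_true, beq_iff]
    refine ⟨fun r hr => ?_, hf⟩
    have := (L.conj_pow hb (fun r hr => hr) hR 3 r hr)
    rw [← ev', L.h.conj_e (vList_lt v hv') (rList_lt r hr)] at this
    exact L.h.inj _ (cj_lt _ _) _ (rList_lt _ this.1) this.2
  rw [ev_append, ev_power, ev_append, L.ev_four, L.ev_rev (hword_lt w2), L.ev_hv _ w1, L.ev_hv _ w2, ← ev', hvc,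
    mul_inv_cancel]

theorem pow_rel {p : List ℕ × ℕ × ℕ} (hp : p ∈ svW) :
    ev L.gfun (List.replicate p.2.2 (p.1 ++ [4])).flatten = 1 := by
  have h := svW_ok
  simp only [List.all_eq_true, powOk, Bool.and_eq_true, beq_iff, Bool.or_eq_true, inV_iff] at h
  obtain ⟨⟨⟨⟨w1, hB⟩, hcl⟩, hn⟩, he⟩ := h p hp
  obtain ⟨v, hv', ev', hf⟩ := L.pow_in_V (hv_lt p.1) hB hcl hn
  rw [ev_power, ev_append, L.ev_four, L.ev_hv _ w1]
  rcases he with e | ⟨e, hu⟩
  · rw [e, mul_comm 2, pow_mul, ← ev', pow_two]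
    exact L.eight.sq _ (L.h.e_mem_V hv')
  · rw [e, ← ev']
    rcases hu v hv' with r | r
    · rw [Bool.not_eq_true', ← Bool.not_eq_true] at r
      exact absurd (beq_iff.2 hf) r
    · rw [r, L.h.e_zero]

/-- All the relations. -/
theorem base_rel : ∀ w ∈ base, ev L.gfun w = 1 := by
  intro w hw
  simp only [base, List.mem_append, List.mem_map] at hw
  rcases hw with ((hw | ⟨p, hp, rfl⟩) | ⟨p, hp, rfl⟩) | ⟨p, hp, rfl⟩
  · have h := hW_ok
    simp only [List.all_eq_true, Bool.and_eq_true, beq_iff] at h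
    rw [L.ev_hv w (h w hw).1, (h w hw).2, L.h.e_zero]
  · have h := ruW_ok
    simp only [List.all_eq_true, Bool.and_eq_true, beq_iff, inR_iff] at h
    obtain ⟨⟨⟨w1, w2⟩, hR⟩, hal⟩ := h p hp
    rw [ev_append, ev_append, ev_append, L.ev_four, L.ev_hv _ w1, L.ev_rev (hword_lt w2), L.ev_hv _ w2, ← hal,
      L.ru _ hR, mul_inv_cancel]
  · exact L.cube_rel hp
  · exact L.pow_rel hp

/-- The relations of a candidate. -/
theorem case_rel {c : ℕ} {w : List ℕ} (hc : (c, w) ∈ cList)
    (hx : Commute ((L.u * L.h.e 198 * L.u)⁻¹ * L.h.e c * (L.u * L.h.e 198 * L.u)) (L.h.e xI))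
    (hy : Commute ((L.u * L.h.e 198 * L.u)⁻¹ * L.h.e c * (L.u * L.h.e 198 * L.u)) (L.h.e yI)) :
    ∀ r ∈ caseBase w, ev L.gfun r = 1 := by
  obtain ⟨s1, s2, s3, s4, s5, s6, s7, s8, s9⟩ := sym_ok
  simp only [List.all_eq_true, Bool.and_eq_true, beq_iff] at s9
  obtain ⟨w1, w2⟩ := s9 _ hc
  simp only at w1 w2
  have hu : (L.u)⁻¹ = L.u := inv_eq_of_mul_eq_one_right L.u2
  have hlt : ∀ s ∈ aWord w, s < 5 := by
    intro s hs
    simp only [aWord, List.mem_append, List.mem_cons, List.not_mem_nil, or_false] at hs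
    rcases hs with (((((e | e) | e) | e) | e) | e) | e
    all_goals first | omega | exact hword_lt s3 s e | exact hword_lt w1 s e | exact hword_lt s1 s e
  have ha : ev L.gfun (aWord w) = (L.u * L.h.e 198 * L.u)⁻¹ * L.h.e c * (L.u * L.h.e 198 * L.u) := by
    rw [aWord, ev_append, ev_append, ev_append, ev_append, ev_append, ev_append, L.ev_four, L.ev_hv _ s3,
      L.ev_hv _ w1, L.ev_hv _ s1, s4, w2, s2, L.h.e_inv (by norm_num), mul_inv_rev, mul_inv_rev, hu]
    group
  intro r hr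
  simp only [caseBase, List.mem_append, List.mem_cons, List.not_mem_nil, or_false] at hr
  rcases hr with hr | rfl | rfl
  · exact L.base_rel r hr
  · rw [ev_append, ev_append, ev_append, L.ev_rev hlt, L.ev_rev (hword_lt s5), ha, L.ev_hv _ s5, s6,
      hx.eq, mul_inv_cancel_right, mul_inv_cancel]
  · rw [ev_append, ev_append, ev_append, L.ev_rev hlt, L.ev_rev (hword_lt s7), ha, L.ev_hv _ s7, s8,
      hy.eq, mul_inv_cancel_right, mul_inv_cancel]

end Loc

end Cfsg.Agent.Invol.G23Two
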