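import Cfsg.Agent.Lib.Invol.G23Two.Setting
import Cfsg.Agent.Lib.Invol.PSp43.Model

/-! A subgroup isomorphic to `SL(2, 3)` in the coordinates of the table, and its automorphisms. -/

set_option autoImplicit false
set_option linter.unusedSectionVars false
set_option linter.style.haveILetI false
set_option maxRecDepth 20000

namespace Cfsg.Agent.Invol.G23Two

open Cfsg.Agent.Invol.PSp43 (mt ivs ngs sa sb se norm slM sl_facts mt_lt ivs_lt ngs_lt beq_iff)

/-- conjugation in `SL(2, 3)` -/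
def ck (k a : ℕ) : ℕ := mt (mt k a) (ivs k)

/-- an automorphism of `SL(2, 3)` in normal form -/
def au (k ε a : ℕ) : ℕ := ck k (bif Nat.beq ε 0 then a else tw a)

theorem ck_lt {k a : ℕ} (hk : k < 24) (ha : a < 24) : ck k a < 24 := mt_lt (mt_lt hk ha) (ivs_lt hk)

theorem au_lt {k ε a : ℕ} (hk : k < 24) (ha : a < 24) : au k ε a < 24 := by
  rw [au]; cases Nat.beq ε 0
  · exact ck_lt hk (tw_lt ha)
  · exact ck_lt hk ha

theorem sl_basic : (∀ a < 24, mt a 0 = a ∧ mt 0 a = a ∧ mt a (ivs a) = 0 ∧ mt (ivs a) a = 0 ∧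
      ngs a = mt 12 a ∧ mt a 12 = mt 12 a ∧ tw (tw a) = a) ∧
    (∀ a < 24, ∀ b < 24, tw (mt a b) = mt (tw a) (tw b)) ∧
    (∀ a < 24, ∃ b < 24, ∃ c < 24, a = mt (mt b b) (mt c c)) ∧
    (∀ a < 24, (∀ b < 24, mt a b = mt b a) → a = 0 ∨ a = 12) := by decide +kernel

theorem ck_mul : ∀ k < 24, ∀ a < 24, ∀ b < 24, ck k (mt a b) = mt (ck k a) (ck k b) := by decide +kernel

theorem au_mul {k ε a b : ℕ} (hk : k < 24) (ha : a < 24) (hb : b < 24) :
    au k ε (mt a b) = mt (au k ε a) (au k ε b) := by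
  rw [au, au, au]; cases Nat.beq ε 0
  · simp only [cond_false]
    rw [sl_basic.2.1 a ha b hb, ck_mul k hk _ (tw_lt ha) _ (tw_lt hb)]
  · simp only [cond_true]
    exact ck_mul k hk a ha b hb

theorem au_spec_fin : ∀ p q : Fin 24, mt p (mt p p) = 0 → mt q (mt q q) = 0 → (p : ℕ) ≠ 0 → (q : ℕ) ≠ 0 →
    mt (mt p q) (mt p q) = 12 → ∃ k : Fin 24, ∃ ε : Fin 2, (p : ℕ) = au k ε 4 ∧ (q : ℕ) = au k ε 10 := by
  decide +kernel

theorem au_spec {p q : ℕ} (hp : p < 24) (hq : q < 24) (h1 : mt p (mt p p) = 0) (h2 : mt q (mt q q) = 0)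
    (h3 : p ≠ 0) (h4 : q ≠ 0) (h5 : mt (mt p q) (mt p q) = 12) :
    ∃ k < 24, ∃ ε < 2, p = au k ε 4 ∧ q = au k ε 10 := by
  obtain ⟨k, ε, h⟩ := au_spec_fin ⟨p, hp⟩ ⟨q, hq⟩ h1 h2 h3 h4 h5
  exact ⟨k, k.2, ε, ε.2, h⟩

theorem au_invol : ∀ k < 24, au k 1 (au k 1 4) = 4 → au k 1 (au k 1 10) = 10 →
    ∃ m < 24, au k 1 (ck m 4) = ck m (tw 4) ∧ au k 1 (ck m 10) = ck m (tw 10) := by decide +kernel

/-- Induction over the two generators. -/
theorem gen_all (P : ℕ → Prop) (h0 : P 0) (s4 : ∀ a < 24, P a → P (mt a 4))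
    (s10 : ∀ a < 24, P a → P (mt a 10)) : ∀ a < 24, P a := by
  have h4 : P 4 := by simpa only [show mt 0 4 = 4 by decide +kernel] using s4 0 (by norm_num) h0
  have h10 : P 10 := by simpa only [show mt 0 10 = 10 by decide +kernel] using s10 0 (by norm_num) h0
  have h8 : P 8 := by simpa only [show mt 4 4 = 8 by decide +kernel] using s4 4 (by norm_num) h4
  have h3 : P 3 := by simpa only [show mt 4 10 = 3 by decide +kernel] using s10 4 (by norm_num) h4
  have h2 : P 2 := by simpa only [show mt 10 4 = 2 by decide +kernel] using s4 10 (by norm_num) h10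
  have h19 : P 19 := by simpa only [show mt 10 10 = 19 by decide +kernel] using s10 10 (by norm_num) h10
  have h5 : P 5 := by simpa only [show mt 8 10 = 5 by decide +kernel] using s10 8 (by norm_num) h8
  have h7 : P 7 := by simpa only [show mt 3 4 = 7 by decide +kernel] using s4 3 (by norm_num) h3
  have h21 : P 21 := by simpa only [show mt 3 10 = 21 by decide +kernel] using s10 3 (by norm_num) h3
  have h6 : P 6 := by simpa only [show mt 2 4 = 6 by decide +kernel] using s4 2 (by norm_num) h2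
  have h20 : P 20 := by simpa only [show mt 2 10 = 20 by decide +kernel] using s10 2 (by norm_num) h2
  have h23 : P 23 := by simpa only [show mt 19 4 = 23 by decide +kernel] using s4 19 (by norm_num) h19
  have h9 : P 9 := by simpa only [show mt 5 4 = 9 by decide +kernel] using s4 5 (by norm_num) h5
  have h14 : P 14 := by simpa only [show mt 5 10 = 14 by decide +kernel] using s10 5 (by norm_num) h5
  have h11 : P 11 := by simpa only [show mt 7 4 = 11 by decide +kernel] using s4 7 (by norm_num) h7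
  have h12 : P 12 := by simpa only [show mt 7 10 = 12 by decide +kernel] using s10 7 (by norm_num) h7
  have h13 : P 13 := by simpa only [show mt 21 4 = 13 by decide +kernel] using s4 21 (by norm_num) h21
  have h1 : P 1 := by simpa only [show mt 6 10 = 1 by decide +kernel] using s10 6 (by norm_num) h6
  have h17 : P 17 := by simpa only [show mt 20 10 = 17 by decide +kernel] using s10 20 (by norm_num) h20
  have h15 : P 15 := by simpa only [show mt 23 4 = 15 by decide +kernel] using s4 23 (by norm_num) h23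
  have h18 : P 18 := by simpa only [show mt 23 10 = 18 by decide +kernel] using s10 23 (by norm_num) h23
  have h16 : P 16 := by simpa only [show mt 9 10 = 16 by decide +kernel] using s10 9 (by norm_num) h9
  have h22 : P 22 := by simpa only [show mt 12 10 = 22 by decide +kernel] using s10 12 (by norm_num) h12
  intro a ha
  interval_cases a <;> assumption

/-- Two maps of the table which multiply agree if they agree on the generators. -/
theorem agree {M : Type*} [Group M] (u v : ℕ → M) (hu : ∀ a < 24, ∀ b < 24, u (mt a b) = u a * u b)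
    (hv : ∀ a < 24, ∀ b < 24, v (mt a b) = v a * v b) (e4 : u 4 = v 4) (e10 : u 10 = v 10) :
    ∀ a < 24, u a = v a := by
  have one : ∀ w : ℕ → M, (∀ a < 24, ∀ b < 24, w (mt a b) = w a * w b) → w 0 = 1 := fun w hw => by
    have := hw 0 (by norm_num) 0 (by norm_num)
    rw [(sl_basic.1 0 (by norm_num)).1] at this
    simpa using this
  refine gen_all _ (by rw [one u hu, one v hv]) (fun a ha e => ?_) fun a ha e => ?_
  · rw [hu a ha 4 (by norm_num), hv a ha 4 (by norm_num), e, e4]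
  · rw [hu a ha 10 (by norm_num), hv a ha 10 (by norm_num), e, e10]

theorem slM_inj : ∀ a b : Fin 24, slM a = slM b → a = b := by decide +kernel

/-- A subgroup with the coordinates of `SL(2, 3)`. -/
structure Fac {G : Type*} [Group G] (K : Subgroup G) where
  /-- the elements -/
  f : ℕ → G
  mul : ∀ a < 24, ∀ b < 24, f (mt a b) = f a * f b
  inj : ∀ a < 24, ∀ b < 24, f a = f b → a = b
  mem : ∀ x, x ∈ K ↔ ∃ a < 24, f a = x

theorem exists_fac {G : Type*} [Group G] (K : Subgroup G)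
    (h : Nonempty (K ≃* Matrix.SpecialLinearGroup (Fin 2) (ZMod 3))) : Nonempty (Fac K) := by
  obtain ⟨ψ⟩ := h
  have hdet : ∀ a : Fin 24, (slM a).det = 1 := fun a => by
    rw [Matrix.det_fin_two]; exact (sl_facts.2.1 a).2
  let s : ℕ → Matrix.SpecialLinearGroup (Fin 2) (ZMod 3) := fun a =>
    if ha : a < 24 then ⟨slM a, hdet ⟨a, ha⟩⟩ else 1
  have hs : ∀ a < 24, (s a : Matrix (Fin 2) (Fin 2) (ZMod 3)) = slM a := fun a ha => by simp [s, ha]
  refine ⟨⟨fun a => (ψ.symm (s a) : G), fun a ha b hb => ?_, fun a ha b hb e => ?_, fun x => ⟨fun hx => ?_, ?_⟩⟩⟩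
  · rw [← Subgroup.coe_mul, ← map_mul]
    congr 2
    refine Subtype.ext ?_
    rw [Matrix.SpecialLinearGroup.coe_mul, hs a ha, hs b hb, hs _ (mt_lt ha hb)]
    exact (sl_facts.1 ⟨a, ha⟩ ⟨b, hb⟩).symm
  · have := congrArg Subtype.val (ψ.symm.injective (Subtype.ext e))
    rw [hs a ha, hs b hb] at this
    exact congrArg Fin.val (slM_inj ⟨a, ha⟩ ⟨b, hb⟩ this)
  · set g := ψ ⟨x, hx⟩ with hg
    have hd : (g : Matrix (Fin 2) (Fin 2) (ZMod 3)) 0 0 * g 1 1 - g 0 1 * g 1 0 = 1 := by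
      rw [← Matrix.det_fin_two]; exact g.2
    obtain ⟨a, ha⟩ := sl_facts.2.2 _ _ _ _ hd
    refine ⟨a, a.2, ?_⟩
    have : s a = g := Subtype.ext (by rw [hs a a.2, ha]; exact (Matrix.eta_fin_two _).symm)
    rw [this, hg, MulEquiv.symm_apply_apply]
  · rintro ⟨a, ha, rfl⟩
    exact (ψ.symm (s a)).2

namespace Fac

variable {G : Type*} [Group G] {K : Subgroup G} (F : Fac K)

theorem f_zero : F.f 0 = 1 := by
  have := F.mul 0 (by norm_num) 0 (by norm_num)
  rw [(sl_basic.1 0 (by norm_num)).1] at this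
  simpa using this

theorem f_inv {a : ℕ} (ha : a < 24) : F.f (ivs a) = (F.f a)⁻¹ := by
  refine eq_inv_of_mul_eq_one_right ?_
  rw [← F.mul a ha _ (ivs_lt ha), (sl_basic.1 a ha).2.2.1, F.f_zero]

theorem f_mem {a : ℕ} (ha : a < 24) : F.f a ∈ K := (F.mem _).2 ⟨a, ha, rfl⟩

theorem f_ck {k a : ℕ} (hk : k < 24) (ha : a < 24) : F.f (ck k a) = F.f k * F.f a * (F.f k)⁻¹ := by
  rw [ck, F.mul _ (mt_lt hk ha) _ (ivs_lt hk), F.mul k hk a ha, F.f_inv hk]

/-- Changing the coordinates by an automorphism. -/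
def twist : Fac K where
  f a := F.f (tw a)
  mul a ha b hb := by rw [sl_basic.2.1 a ha b hb, F.mul _ (tw_lt ha) _ (tw_lt hb)]
  inj a ha b hb e := by
    have := F.inj _ (tw_lt ha) _ (tw_lt hb) e
    rw [← (sl_basic.1 a ha).2.2.2.2.2.2, this, (sl_basic.1 b hb).2.2.2.2.2.2]
  mem x := by
    refine (F.mem x).trans ⟨?_, ?_⟩
    · rintro ⟨a, ha, rfl⟩
      exact ⟨tw a, tw_lt ha, by rw [(sl_basic.1 a ha).2.2.2.2.2.2]⟩
    · rintro ⟨a, ha, rfl⟩
      exact ⟨tw a, tw_lt ha, rfl⟩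

/-- An automorphism, written in the coordinates. -/
theorem exists_au {n : G} (hn : ∀ x ∈ K, n * x * n⁻¹ ∈ K) :
    ∃ k < 24, ∃ ε < 2, ∀ a < 24, n * F.f a * n⁻¹ = F.f (au k ε a) := by
  choose s hs hse using fun a : Fin 24 => (F.mem _).1 (hn _ (F.f_mem a.2))
  have h4 : (4 : ℕ) < 24 := by norm_num
  have h10 : (10 : ℕ) < 24 := by norm_num
  set p := s ⟨4, h4⟩ with hp'
  set q := s ⟨10, h10⟩ with hq'
  have ep : F.f p = n * F.f 4 * n⁻¹ := hse _
  have eq' : F.f q = n * F.f 10 * n⁻¹ := hse _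
  have hp : p < 24 := hs _
  have hq : q < 24 := hs _
  have hpq := mt_lt hp hq
  have r1 : mt 4 (mt 4 4) = 0 ∧ mt 10 (mt 10 10) = 0 ∧ mt (mt 4 10) (mt 4 10) = 12 := by decide +kernel
  have l12 : (12 : ℕ) < 24 := by norm_num
  have hcube : ∀ (a c : ℕ), a < 24 → c < 24 → F.f c = n * F.f a * n⁻¹ → mt a (mt a a) = 0 → a ≠ 0 →
      mt c (mt c c) = 0 ∧ c ≠ 0 := by
    intro a c ha hc e h3 h0
    refine ⟨F.inj _ (mt_lt hc (mt_lt hc hc)) 0 (by norm_num) ?_, fun ec => h0 (F.inj a ha 0 (by norm_num) ?_)⟩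
    · rw [F.mul c hc _ (mt_lt hc hc), F.mul c hc c hc, e,
        show n * F.f a * n⁻¹ * (n * F.f a * n⁻¹ * (n * F.f a * n⁻¹)) = n * (F.f a * (F.f a * F.f a)) * n⁻¹ by group,
        ← F.mul a ha a ha, ← F.mul a ha _ (mt_lt ha ha), h3, F.f_zero, mul_one, mul_inv_cancel]
    · rw [ec, F.f_zero] at e
      rw [F.f_zero]
      exact conj_eq_one_iff.1 e.symm
  -- the image of the central element
  obtain ⟨c, hc, hce⟩ := (F.mem _).1 (hn _ (F.f_mem l12))
  have hc12 : c = 12 := by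
    have hcc : ∀ b < 24, mt c b = mt b c := by
      intro b hb
      refine F.inj _ (mt_lt hc hb) _ (mt_lt hb hc) ?_
      rw [F.mul c hc b hb, F.mul b hb c hc, hce]
      obtain ⟨d, hd, hde⟩ : ∃ d < 24, n * F.f d * n⁻¹ = F.f b := by
        have hsurj : Function.Bijective (fun a : Fin 24 => (⟨s a, hs a⟩ : Fin 24)) := by
          refine (Finite.injective_iff_bijective).1 fun i j e => ?_
          have e' : s i = s j := congrArg Fin.val e
          have := (hse i).symm.trans ((congrArg F.f e').trans (hse j))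
          exact Fin.ext (F.inj _ i.2 _ j.2 (mul_left_cancel (mul_right_cancel this)))
        obtain ⟨d, hd⟩ := hsurj.2 ⟨b, hb⟩
        exact ⟨d, d.2, by rw [← hse d]; exact congrArg (fun i : Fin 24 => F.f i) hd⟩
      rw [← hde, show n * F.f 12 * n⁻¹ * (n * F.f d * n⁻¹) = n * (F.f 12 * F.f d) * n⁻¹ by group,
        show n * F.f d * n⁻¹ * (n * F.f 12 * n⁻¹) = n * (F.f d * F.f 12) * n⁻¹ by group,
        ← F.mul 12 l12 d hd, ← F.mul d hd 12 l12, (sl_basic.1 d hd).2.2.2.2.2.1]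
    refine (sl_basic.2.2.2 c hc hcc).resolve_left fun e => ?_
    rw [e, F.f_zero] at hce
    exact absurd (F.inj 12 l12 0 (by norm_num) ((conj_eq_one_iff.1 hce.symm).trans F.f_zero.symm)) (by norm_num)
  rw [hc12] at hce
  obtain ⟨hp3, hp0⟩ := hcube 4 p h4 hp ep r1.1 (by norm_num)
  obtain ⟨hq3, hq0⟩ := hcube 10 q h10 hq eq' r1.2.1 (by norm_num)
  have hpq2 : mt (mt p q) (mt p q) = 12 := by
    refine F.inj _ (mt_lt hpq hpq) _ l12 ?_
    rw [F.mul _ hpq _ hpq, F.mul p hp q hq, ep, eq', hce,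
      show n * F.f 4 * n⁻¹ * (n * F.f 10 * n⁻¹) * (n * F.f 4 * n⁻¹ * (n * F.f 10 * n⁻¹)) =
        n * (F.f 4 * F.f 10 * (F.f 4 * F.f 10)) * n⁻¹ by group,
      ← F.mul 4 h4 10 h10, ← F.mul _ (mt_lt h4 h10) _ (mt_lt h4 h10), r1.2.2]
  obtain ⟨k, hk, ε, hε, e4, e10⟩ := au_spec hp hq hp3 hq3 hp0 hq0 hpq2
  refine ⟨k, hk, ε, hε, agree (fun a => n * F.f a * n⁻¹) (fun a => F.f (au k ε a)) (fun a ha b hb => ?_)
    (fun a ha b hb => ?_) ?_ ?_⟩
  · rw [F.mul a ha b hb]; group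
  · rw [au_mul hk ha hb, F.mul _ (au_lt hk ha) _ (au_lt hk hb)]
  · rw [← e4, ep]
  · rw [← e10, eq']

/-- An involution acting as an odd automorphism acts as the standard one in suitable coordinates. -/
theorem exists_std {n : G} {k : ℕ} (hk : k < 24) (hn2 : n * n = 1)
    (hn : ∀ a < 24, n * F.f a * n⁻¹ = F.f (au k 1 a)) :
    ∃ F' : Fac K, ∀ a < 24, n * F'.f a * n⁻¹ = F'.f (tw a) := by
  have hsq : ∀ a < 24, au k 1 (au k 1 a) = a := fun a ha => by
    refine F.inj _ (au_lt hk (au_lt hk ha)) a ha ?_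
    rw [← hn _ (au_lt hk ha), ← hn a ha,
      show n * (n * F.f a * n⁻¹) * n⁻¹ = (n * n) * F.f a * (n * n)⁻¹ by group, hn2]
    group
  obtain ⟨m, hm, e4, e10⟩ := au_invol k hk (hsq 4 (by norm_num)) (hsq 10 (by norm_num))
  refine ⟨⟨fun a => F.f (ck m a), fun a ha b hb => ?_, fun a ha b hb e => ?_, fun x => (F.mem x).trans ⟨?_, ?_⟩⟩,
    agree (fun a => n * F.f (ck m a) * n⁻¹) (fun a => F.f (ck m (tw a))) (fun a ha b hb => ?_)
      (fun a ha b hb => ?_) ?_ ?_⟩
  · rw [ck_mul m hm a ha b hb, F.mul _ (ck_lt hm ha) _ (ck_lt hm hb)]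
  · rw [F.f_ck hm ha, F.f_ck hm hb] at e
    exact F.inj a ha b hb (mul_left_cancel (mul_right_cancel e))
  · rintro ⟨a, ha, rfl⟩
    refine ⟨ck (ivs m) a, ck_lt (ivs_lt hm) ha, ?_⟩
    rw [F.f_ck hm (ck_lt (ivs_lt hm) ha), F.f_ck (ivs_lt hm) ha, F.f_inv hm]
    group
  · rintro ⟨a, ha, rfl⟩
    exact ⟨ck m a, ck_lt hm ha, rfl⟩
  · rw [ck_mul m hm a ha b hb, F.mul _ (ck_lt hm ha) _ (ck_lt hm hb)]; group
  · rw [sl_basic.2.1 a ha b hb, ck_mul m hm _ (tw_lt ha) _ (tw_lt hb),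
      F.mul _ (ck_lt hm (tw_lt ha)) _ (ck_lt hm (tw_lt hb))]
  · rw [hn _ (ck_lt hm (by norm_num)), e4]
  · rw [hn _ (ck_lt hm (by norm_num)), e10]

end Fac

end Cfsg.Agent.Invol.G23Two
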