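import Cfsg.Agent.Lib.Invol.G23Two.Pair
import Cfsg.Agent.Lib.Invol.G23Two.Eight
import Cfsg.Prelude.Def_Solvable
import Cfsg.Prelude.Def_Transfer

/-! From the hypotheses to the table. -/

set_option autoImplicit false
set_option linter.unusedSectionVars false
set_option linter.style.haveILetI false
set_option maxRecDepth 20000

namespace Cfsg.Agent.Invol.G23Two

open Cfsg.Agent.Invol.PSp43 (mt ivs ngs sa sb se sa_lt sb_lt mt_lt ivs_lt beq_iff)

variable {G : Type*} [Group G] {H H₁ H₂ M V : Subgroup G}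

theorem meet_eq (F : Fac H₁) (hint : H₁ ⊓ H₂ = H₁ ⊓ Subgroup.centralizer (H₁ : Set G)) {x : G} :
    x ∈ H₁ ⊓ H₂ ↔ x = 1 ∨ x = F.f 12 := by
  rw [hint]
  constructor
  · rintro ⟨hx, hc⟩
    obtain ⟨a, ha, rfl⟩ := (F.mem x).1 hx
    rcases sl_basic.2.2.2 a ha fun b hb => F.inj _ (mt_lt ha hb) _ (mt_lt hb ha) (by
      rw [F.mul a ha b hb, F.mul b hb a ha]
      exact (Subgroup.mem_centralizer_iff.1 hc _ (F.f_mem hb)).symm) with rfl | rfl
    · exact Or.inl F.f_zero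
    · exact Or.inr rfl
  · rintro (rfl | rfl)
    · exact one_mem _
    · refine ⟨F.f_mem (by norm_num), Subgroup.mem_centralizer_iff.2 fun y hy => ?_⟩
      obtain ⟨b, hb, rfl⟩ := (F.mem y).1 hy
      rw [← F.mul b hb 12 (by norm_num), ← F.mul 12 (by norm_num) b hb, (sl_basic.1 b hb).2.2.2.2.2.1]

theorem factor_normal (h1 : H₁ ≤ H) (hn : (H₁.subgroupOf H).Normal) {h x : G} (hh : h ∈ H) (hx : x ∈ H₁) :
    h * x * h⁻¹ ∈ H₁ :=
  hn.conj_mem ⟨x, h1 hx⟩ hx ⟨h, hh⟩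

theorem exists_pair (h1 : H₁ ≤ H) (h2 : H₂ ≤ H) (hn1 : (H₁.subgroupOf H).Normal) (hn2 : (H₂.subgroupOf H).Normal)
    (hiso1 : Nonempty (↥H₁ ≃* Matrix.SpecialLinearGroup (Fin 2) (ZMod 3)))
    (hiso2 : Nonempty (↥H₂ ≃* Matrix.SpecialLinearGroup (Fin 2) (ZMod 3)))
    (hint1 : H₁ ⊓ H₂ = H₁ ⊓ Subgroup.centralizer (H₁ : Set G))
    (hint2 : H₁ ⊓ H₂ = H₂ ⊓ Subgroup.centralizer (H₂ : Set G))
    (hHC : H = Subgroup.centralizer ((H₁ ⊓ H₂ : Subgroup G) : Set G)) :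
    ∃ P : Pair H₁ H₂, ∀ x, x ∈ H ↔ x * P.F1.f 12 = P.F1.f 12 * x := by
  obtain ⟨F1⟩ := exists_fac H₁ hiso1
  obtain ⟨F2⟩ := exists_fac H₂ hiso2
  have m1 := @meet_eq G _ H₁ H₂ F1 hint1
  have m2 := @meet_eq G _ H₂ H₁ F2 (by rw [inf_comm]; exact hint2)
  have hne : ∀ {K : Subgroup G} (F : Fac K), F.f 12 ≠ 1 := fun {K} F e => by
    rw [← F.f_zero] at e
    exact absurd (F.inj 12 (by norm_num) 0 (by norm_num) e) (by norm_num)
  have hz : F1.f 12 = F2.f 12 := by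
    have := (m2 (x := F1.f 12)).1 (by rw [inf_comm]; exact m1.2 (Or.inr rfl))
    exact this.resolve_left (hne F1)
  have hH : ∀ x, x ∈ H ↔ x * F1.f 12 = F1.f 12 * x := fun x => by
    rw [hHC, Subgroup.mem_centralizer_iff]
    refine ⟨fun h => (h _ (m1.2 (Or.inr rfl))).symm, fun h y hy => ?_⟩
    rcases m1.1 hy with rfl | rfl
    · simp
    · exact h.symm
  have h12 : F1.f 12 * F1.f 12 = 1 := by
    rw [← F1.mul 12 (by norm_num) 12 (by norm_num), show mt 12 12 = 0 by decide +kernel, F1.f_zero]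
  refine ⟨⟨F1, F2, hz, fun a ha b hb => ?_, fun a ha b hb e => ?_⟩, hH⟩
  · obtain ⟨c, hc, d, hd, rfl⟩ := sl_basic.2.2.1 a ha
    set k := F2.f b with hk'
    have hk : k ∈ H₂ := F2.f_mem hb
    have sq : ∀ c < 24, k * F1.f (mt c c) * k⁻¹ = F1.f (mt c c) := by
      intro c hc
      set s := F1.f c with hs'
      have hs : s ∈ H₁ := F1.f_mem hc
      have hmem : s⁻¹ * (k * s * k⁻¹) ∈ H₁ ⊓ H₂ := by
        refine ⟨H₁.mul_mem (H₁.inv_mem hs) (factor_normal h1 hn1 (h2 hk) hs), ?_⟩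
        rw [show s⁻¹ * (k * s * k⁻¹) = s⁻¹ * k * s⁻¹⁻¹ * k⁻¹ by group]
        exact H₂.mul_mem (factor_normal h2 hn2 (inv_mem (h1 hs)) hk) (H₂.inv_mem hk)
      have hc2 : (s⁻¹ * (k * s * k⁻¹)) * (s⁻¹ * (k * s * k⁻¹)) = 1 ∧
          (s⁻¹ * (k * s * k⁻¹)) * s = s * (s⁻¹ * (k * s * k⁻¹)) := by
        rcases m1.1 hmem with e | e
        · rw [e]; simp
        · rw [e]; exact ⟨h12, ((hH s).1 (h1 hs)).symm⟩
      set t := s⁻¹ * (k * s * k⁻¹) with ht
      rw [F1.mul c hc c hc]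
      have e1 : k * s * k⁻¹ = s * t := by rw [ht]; group
      calc k * (s * s) * k⁻¹ = (k * s * k⁻¹) * (k * s * k⁻¹) := by group
        _ = s * (t * s) * t := by rw [e1]; group
        _ = s * s * (t * t) := by rw [hc2.2]; group
        _ = s * s := by rw [hc2.1, mul_one]
    rw [F1.mul _ (mt_lt hc hc) _ (mt_lt hd hd)]
    have e1 : k * (F1.f (mt c c) * F1.f (mt d d)) * k⁻¹ = F1.f (mt c c) * F1.f (mt d d) := by
      rw [show k * (F1.f (mt c c) * F1.f (mt d d)) * k⁻¹ =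
        (k * F1.f (mt c c) * k⁻¹) * (k * F1.f (mt d d) * k⁻¹) by group, sq c hc, sq d hd]
    exact (mul_inv_eq_iff_eq_mul.1 e1).symm
  · have hm : F1.f a ∈ H₁ ⊓ H₂ := ⟨F1.f_mem ha, e ▸ F2.f_mem hb⟩
    rcases m1.1 hm with r | r
    · exact Or.inl (F1.inj a ha 0 (by norm_num) (r.trans F1.f_zero.symm))
    · exact Or.inr (F1.inj a ha 12 (by norm_num) r)

namespace Pair

variable (P : Pair H₁ H₂)

theorem mem_sup {x : G} : x ∈ H₁ ⊔ H₂ ↔ ∃ j < 288, P.g j = x := by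
  have hg : ∀ a < 24, ∀ b < 24, ∃ j < 288, P.g j = P.F1.f a * P.F2.f b := by
    intro a ha b hb
    refine ⟨PSp43.norm a b 0, ?_, P.g_norm ha hb⟩
    have := PSp43.norm_spec ha hb (show 0 < 2 by norm_num)
    simp only [PSp43.se] at this
    omega
  let K : Subgroup G :=
    { carrier := {x | ∃ a < 24, ∃ b < 24, P.F1.f a * P.F2.f b = x}
      one_mem' := ⟨0, by norm_num, 0, by norm_num, by rw [P.F1.f_zero, P.F2.f_zero, one_mul]⟩
      mul_mem' := by
        rintro _ _ ⟨a, ha, b, hb, rfl⟩ ⟨c, hc, d, hd, rfl⟩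
        refine ⟨mt a c, mt_lt ha hc, mt b d, mt_lt hb hd, ?_⟩
        rw [P.F1.mul a ha c hc, P.F2.mul b hb d hd]
        simp only [mul_assoc]
        rw [← mul_assoc (P.F1.f c), P.comm c hc b hb, mul_assoc]
      inv_mem' := by
        rintro _ ⟨a, ha, b, hb, rfl⟩
        refine ⟨ivs a, ivs_lt ha, ivs b, ivs_lt hb, ?_⟩
        rw [P.F1.f_inv ha, P.F2.f_inv hb, ← mul_inv_rev, P.comm a ha b hb] }
  constructor
  · intro hx
    have hle : H₁ ⊔ H₂ ≤ K := by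
      refine sup_le (fun y hy => ?_) fun y hy => ?_
      · obtain ⟨a, ha, rfl⟩ := (P.F1.mem y).1 hy
        exact ⟨a, ha, 0, by norm_num, by rw [P.F2.f_zero, mul_one]⟩
      · obtain ⟨a, ha, rfl⟩ := (P.F2.mem y).1 hy
        exact ⟨0, by norm_num, a, ha, by rw [P.F1.f_zero, one_mul]⟩
    obtain ⟨a, ha, b, hb, rfl⟩ := hle hx
    exact hg a ha b hb
  · rintro ⟨j, hj, rfl⟩
    exact mul_mem (Subgroup.mem_sup_left (P.F1.f_mem (sa_lt j))) (Subgroup.mem_sup_right (P.F2.f_mem (sb_lt j)))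

theorem exists_outer (h1 : H₁ ≤ H) (h2 : H₂ ≤ H) (hn1 : (H₁.subgroupOf H).Normal) (hn2 : (H₂.subgroupOf H).Normal)
    {n : G} (hn : n ∈ H) (hn2' : n * n = 1) {j k : ℕ} (hj : j < 288) (hk : k < 288) (hb : baseK j k = true)
    (e1 : n * P.g j * n⁻¹ = P.g j) (e2 : n * P.g k * n⁻¹ = P.g j * P.g k) :
    ∃ P' : Pair H₁ H₂, Outer P' n ∧ P'.F1.f 12 = P.F1.f 12 := by
  obtain ⟨hc, hm, -⟩ := base_facts' hj hk hb
  obtain ⟨m1, hm1, ε1, hε1, ha1⟩ := P.F1.exists_au fun x hx => factor_normal h1 hn1 hn hx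
  obtain ⟨m2, hm2, ε2, hε2, ha2⟩ := P.F2.exists_au fun x hx => factor_normal h2 hn2 hn hx
  have sq : ∀ {K : Subgroup G} (F : Fac K) (m : ℕ), m < 24 → (∀ a < 24, n * F.f a * n⁻¹ = F.f (au m 0 a)) →
      au m 0 (au m 0 4) = 4 ∧ au m 0 (au m 0 10) = 10 := by
    intro K F m hm ha
    have h : ∀ a < 24, au m 0 (au m 0 a) = a := fun a hal => by
      refine F.inj _ (au_lt hm (au_lt hm hal)) a hal ?_
      rw [← ha _ (au_lt hm hal), ← ha a hal,
        show n * (n * F.f a * n⁻¹) * n⁻¹ = (n * n) * F.f a * (n * n)⁻¹ by group, hn2']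
      group
    exact ⟨h 4 (by norm_num), h 10 (by norm_num)⟩
  have conj : ∀ i, n * P.g i * n⁻¹ = P.F1.f (au m1 ε1 (sa i)) * P.F2.f (au m2 ε2 (sb i)) := fun i => by
    rw [← ha1 _ (sa_lt i), ← ha2 _ (sb_lt i), Pair.g]; group
  have code : ∀ i < 288, ∀ l < 288, n * P.g i * n⁻¹ = P.g l →
      au m1 ε1 (sa i) % 12 = sa l % 12 ∧ au m2 ε2 (sb i) % 12 = sb l % 12 := by
    intro i hi l hl e
    have ha := au_lt (ε := ε1) hm1 (sa_lt i)
    have hb' := au_lt (ε := ε2) hm2 (sb_lt i)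
    have hlt : PSp43.norm (au m1 ε1 (sa i)) (au m2 ε2 (sb i)) 0 < 288 := by
      have := PSp43.norm_spec ha hb' (show 0 < 2 by norm_num)
      simp only [PSp43.se] at this
      omega
    rw [conj, ← P.g_norm (e := 0) ha hb'] at e
    have := P.g_inj hlt hl e
    rw [← this, PSp43.norm]
    cases r : Nat.ble (au m1 ε1 (sa i)) 11
    · simp only [cond_false, sa, sb, ngs] at ha hb' ⊢
      omega
    · have := Nat.ble_eq.mp r
      simp only [cond_true, sa, sb] at ha hb' this ⊢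
      omega
  have hjk : mL j k < 288 := by
    have := PSp43.norm_spec (mt_lt (sa_lt j) (sa_lt k)) (mt_lt (sb_lt j) (sb_lt k)) (PSp43.se_lt k)
    rw [mL, show se j = 0 by rw [se]; omega]
    change PSp43.norm (mt (sa j) (sa k)) (mt (sb j) (sb k)) (se k) < 288
    simp only [PSp43.se] at this ⊢
    omega
  have ej := code j hj j hj e1
  have ek := code k hk (mL j k) hjk (by rw [e2, P.g_mul hj])
  have hε : ε1 = 1 ∧ ε2 = 1 := by
    constructor
    · by_contra he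
      obtain rfl : ε1 = 0 := by omega
      obtain ⟨s4, s10⟩ := sq P.F1 m1 hm1 ha1
      exact (hm m1 hm1 s4 s10).1 ⟨ej.1, ek.1⟩
    · by_contra he
      obtain rfl : ε2 = 0 := by omega
      obtain ⟨s4, s10⟩ := sq P.F2 m2 hm2 ha2
      exact (hm m2 hm2 s4 s10).2 ⟨ej.2, ek.2⟩
  obtain ⟨rfl, rfl⟩ := hε
  obtain ⟨F1', hF1⟩ := P.F1.exists_std hm1 hn2' ha1
  obtain ⟨F2', hF2⟩ := P.F2.exists_std hm2 hn2' ha2
  have center : ∀ {K : Subgroup G} (F F' : Fac K), F'.f 12 = F.f 12 := by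
    intro K F F'
    obtain ⟨a, ha, e⟩ := (F.mem _).1 (F'.f_mem (show 12 < 24 by norm_num))
    have hcom : ∀ b < 24, mt a b = mt b a := fun b hb => by
      refine F.inj _ (mt_lt ha hb) _ (mt_lt hb ha) ?_
      obtain ⟨c, hc, ec⟩ := (F'.mem _).1 (F.f_mem hb)
      rw [F.mul a ha b hb, F.mul b hb a ha, e, ← ec, ← F'.mul 12 (by norm_num) c hc,
        ← F'.mul c hc 12 (by norm_num), (sl_basic.1 c hc).2.2.2.2.2.1]
    rcases sl_basic.2.2.2 a ha hcom with rfl | rfl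
    · rw [F.f_zero, ← F'.f_zero] at e
      exact absurd (F'.inj 0 (by norm_num) 12 (by norm_num) e) (by norm_num)
    · exact e.symm
  let P' : Pair H₁ H₂ := ⟨F1', F2', by rw [center P.F1 F1', center P.F2 F2', P.z_eq],
    fun a ha b hb => by
      obtain ⟨c, hc', ec⟩ := (P.F1.mem _).1 (F1'.f_mem ha)
      obtain ⟨d, hd, ed⟩ := (P.F2.mem _).1 (F2'.f_mem hb)
      rw [← ec, ← ed, P.comm c hc' d hd],
    fun a ha b hb e => by
      obtain ⟨c, hc', ec⟩ := (P.F1.mem _).1 (F1'.f_mem ha)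
      obtain ⟨d, hd, ed⟩ := (P.F2.mem _).1 (F2'.f_mem hb)
      rcases P.inter c hc' d hd (by rw [ec, ed, e]) with rfl | rfl
      · exact Or.inl (F1'.inj a ha 0 (by norm_num) (by rw [← ec, P.F1.f_zero, F1'.f_zero]))
      · exact Or.inr (F1'.inj a ha 12 (by norm_num) (by rw [← ec, center P.F1 F1']))⟩
  refine ⟨P', ⟨hn2', hF1, hF2, fun l hl e => ?_⟩, center P.F1 F1'⟩
  obtain ⟨i, hi, ei⟩ := P.mem_sup.1 ((P'.mem_sup).2 ⟨l, hl, e⟩)
  exact hc i hi ⟨P.g_inj (by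
      have := PSp43.norm_spec (mt_lt (sa_lt i) (sa_lt j)) (mt_lt (sb_lt i) (sb_lt j)) (PSp43.se_lt j)
      have hm1 : mL i j < 288 := by
        rw [mL, show se i = 0 by rw [se]; omega]
        change PSp43.norm (mt (sa i) (sa j)) (mt (sb i) (sb j)) (se j) < 288
        simp only [PSp43.se] at this ⊢
        omega
      exact cj_lt_of hi hm1) hj (by rw [P.g_cj hi hj, ei, e1]),
    P.g_inj (by
      have := PSp43.norm_spec (mt_lt (sa_lt i) (sa_lt k)) (mt_lt (sb_lt i) (sb_lt k)) (PSp43.se_lt k)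
      have hm1 : mL i k < 288 := by
        rw [mL, show se i = 0 by rw [se]; omega]
        change PSp43.norm (mt (sa i) (sa k)) (mt (sb i) (sb k)) (se k) < 288
        simp only [PSp43.se] at this ⊢
        omega
      exact cj_lt_of hi hm1) hjk (by rw [P.g_cj hi hk, ei, e2, P.g_mul hj])⟩
where
  cj_lt_of {i l : ℕ} (hi : i < 288) (hm1 : mL i l < 288) : cj i l < 288 := by
    have hv : iL i < 288 := by
      rw [iL, show se i = 0 by rw [se]; omega]
      change PSp43.norm (ivs (sa i)) (ivs (sb i)) 0 < 288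
      have := PSp43.norm_spec (ivs_lt (sa_lt i)) (ivs_lt (sb_lt i)) (show 0 < 2 by norm_num)
      simp only [PSp43.se] at this
      omega
    rw [cj, mL, show se (mL i l) = 0 by rw [se]; omega]
    change PSp43.norm (mt (sa (mL i l)) (sa (iL i))) (mt (sb (mL i l)) (sb (iL i))) (se (iL i)) < 288
    have := PSp43.norm_spec (mt_lt (sa_lt (mL i l)) (sa_lt (iL i))) (mt_lt (sb_lt (mL i l)) (sb_lt (iL i)))
      (PSp43.se_lt (iL i))
    simp only [PSp43.se] at this ⊢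
    omega

end Pair

theorem eight_of_hyp [Finite G] [hOM : (Cfsg.pCore 2 ↥M).Normal]
    (hM : Nonempty ((↥M ⧸ Cfsg.pCore 2 ↥M) ≃* Matrix.SpecialLinearGroup (Fin 3) (ZMod 2)))
    (hOel : Cfsg.IsElementaryAbelian 2 (Cfsg.pCore 2 ↥M)) (hOcard : Nat.card ↥(Cfsg.pCore 2 ↥M) = 8)
    {z : G} (hz : z ∈ (Cfsg.pCore 2 ↥M).map M.subtype) (hz1 : z ≠ 1)
    (hsmall : Nat.card (Subgroup.centralizer ({z} : Set G)) ≤ 576) :
    Eight M ((Cfsg.pCore 2 ↥M).map M.subtype) := by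
  set W := (Cfsg.pCore 2 ↥M).map M.subtype with hW
  have hinj : Function.Injective M.subtype := Subtype.coe_injective
  have hcard : Nat.card W = 8 := by
    rw [hW, Subgroup.card_map_of_injective hinj, hOcard]
  obtain ⟨ψ⟩ := hM
  have hcM : Nat.card M = 1344 := by
    rw [Subgroup.card_eq_card_quotient_mul_card_subgroup (Cfsg.pCore 2 ↥M), hOcard,
      Nat.card_congr ψ.toEquiv, Cfsg.Agent.Grp.TwoSymFour.card_SL]
  have hsq : ∀ v ∈ W, v * v = 1 := by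
    rintro _ ⟨v, hv, rfl⟩
    rw [← map_mul, ← pow_two, hOel.2 v hv, map_one]
  have hcomm : ∀ v ∈ W, ∀ w ∈ W, v * w = w * v := by
    rintro _ ⟨v, hv, rfl⟩ _ ⟨w, hw, rfl⟩
    haveI := hOel.1
    rw [← map_mul, ← map_mul]
    congr 1
    exact congrArg Subtype.val (IsMulCommutative.is_comm.comm (⟨v, hv⟩ : ↥(Cfsg.pCore 2 ↥M)) ⟨w, hw⟩)
  have hle : W ≤ M := by
    rintro _ ⟨v, -, rfl⟩
    exact v.2
  have hnorm : ∀ m ∈ M, ∀ v ∈ W, m * v * m⁻¹ ∈ W := by
    rintro m hm _ ⟨v, hv, rfl⟩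
    exact ⟨⟨m, hm⟩ * v * ⟨m, hm⟩⁻¹, hOM.conj_mem v hv _, rfl⟩
  refine ⟨hle, hcard, hsq, hcomm, hnorm, hcM, ?_⟩
  let K : Subgroup M :=
    { carrier := {m | ∀ v ∈ W, (m : G) * v = v * m}
      one_mem' := fun v _ => by simp
      mul_mem' := fun {a b} ha hb v hv => by
        show (a : G) * b * v = v * (a * b)
        rw [mul_assoc, hb v hv, ← mul_assoc, ha v hv, mul_assoc]
      inv_mem' := fun {a} ha v hv => by
        show (a : G)⁻¹ * v = v * (a : G)⁻¹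
        have := ha v hv
        calc (a : G)⁻¹ * v = (a : G)⁻¹ * (v * a) * (a : G)⁻¹ := by group
          _ = v * (a : G)⁻¹ := by rw [← this]; group }
  have hKn : K.Normal := ⟨fun k hk m v hv => by
    have h1 := hnorm (m : G)⁻¹ (inv_mem m.2) v hv
    rw [inv_inv] at h1
    show (m : G) * k * (m : G)⁻¹ * v = v * ((m : G) * k * (m : G)⁻¹)
    calc (m : G) * k * (m : G)⁻¹ * v = (m : G) * ((k : G) * ((m : G)⁻¹ * v * m)) * (m : G)⁻¹ := by group
      _ = (m : G) * (((m : G)⁻¹ * v * m) * k) * (m : G)⁻¹ := by rw [hk _ h1]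
      _ = v * ((m : G) * k * (m : G)⁻¹) := by group⟩
  have hOK : Cfsg.pCore 2 ↥M ≤ K := fun k hk v hv => hcomm _ ⟨k, hk, rfl⟩ v hv
  haveI := sl32_simple
  haveI : IsSimpleGroup (↥M ⧸ Cfsg.pCore 2 ↥M) := ψ.isSimpleGroup
  have himg : (K.map (QuotientGroup.mk' (Cfsg.pCore 2 ↥M))).Normal :=
    hKn.map _ (QuotientGroup.mk'_surjective _)
  intro m hm hc
  have hmK : (⟨m, hm⟩ : M) ∈ K := hc
  rcases himg.eq_bot_or_eq_top with e | e
  · have h1 : (QuotientGroup.mk' (Cfsg.pCore 2 ↥M)) ⟨m, hm⟩ ∈ K.map (QuotientGroup.mk' (Cfsg.pCore 2 ↥M)) :=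
      ⟨_, hmK, rfl⟩
    rw [e, Subgroup.mem_bot] at h1
    exact ⟨⟨m, hm⟩, (QuotientGroup.eq_one_iff _).1 h1, rfl⟩
  · exfalso
    have hall : ∀ a : M, a ∈ K := by
      intro a
      have : (QuotientGroup.mk' (Cfsg.pCore 2 ↥M)) a ∈ K.map (QuotientGroup.mk' (Cfsg.pCore 2 ↥M)) := by
        rw [e]; exact Subgroup.mem_top _
      obtain ⟨k, hk, hka⟩ := this
      have h2 : k⁻¹ * a ∈ Cfsg.pCore 2 ↥M := QuotientGroup.eq.1 hka
      have := mul_mem hk (hOK h2)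
      rwa [mul_inv_cancel_left] at this
    have hMC : M ≤ Subgroup.centralizer ({z} : Set G) := fun a ha =>
      Subgroup.mem_centralizer_singleton_iff.2 (hall ⟨a, ha⟩ z hz)
    have := Subgroup.card_le_of_le hMC
    omega

theorem cent_count [Finite G] (h : Eight M V) {z : G} (hz : z ∈ V) (hz1 : z ≠ 1) :
    192 ≤ Nat.card ↥(M ⊓ Subgroup.centralizer ({z} : Set G)) := by
  classical
  set C : Subgroup M := (Subgroup.centralizer ({z} : Set G)).subgroupOf M with hC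
  have hcard : Nat.card C = Nat.card ↥(M ⊓ Subgroup.centralizer ({z} : Set G)) := by
    rw [hC, inf_comm, ← Subgroup.inf_subgroupOf_right]
    exact Nat.card_congr (Subgroup.subgroupOfEquivOfLe inf_le_right).toEquiv
  let T := {v : V // (v : G) ≠ 1}
  have hT : Nat.card T = 7 := by
    have e := Nat.card_congr (Equiv.sumCompl fun v : V => (v : G) ≠ 1)
    rw [Nat.card_sum, h.card, show Nat.card {v : V // ¬(v : G) ≠ 1} = 1 by
      haveI : Unique {v : V // ¬(v : G) ≠ 1} :=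
        ⟨⟨⟨1, by simp⟩⟩, fun v => Subtype.ext (Subtype.ext (by simpa using v.2))⟩
      exact Nat.card_unique] at e
    have : Nat.card T + 1 = 8 := e
    omega
  let F : M → T := fun m => ⟨⟨(m : G) * z * (m : G)⁻¹, h.norm m m.2 z hz⟩, fun e => hz1 (conj_eq_one_iff.1 e)⟩
  have hF : ∀ m m' : M, F m = F m' → m⁻¹ * m' ∈ C := by
    intro m m' e
    have e' : (m : G) * z * (m : G)⁻¹ = (m' : G) * z * (m' : G)⁻¹ := congrArg (fun t : T => ((t.1 : V) : G)) e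
    show ((m⁻¹ * m' : M) : G) ∈ Subgroup.centralizer ({z} : Set G)
    rw [Subgroup.mem_centralizer_singleton_iff]
    push_cast
    calc (m : G)⁻¹ * m' * z = (m : G)⁻¹ * ((m' : G) * z * (m' : G)⁻¹) * m' := by group
      _ = z * ((m : G)⁻¹ * m') := by rw [← e']; group
  have hle : Nat.card (M ⧸ C) ≤ 7 := by
    rw [← hT]
    refine Nat.card_le_card_of_injective (fun q : M ⧸ C => F q.out) fun p q e => ?_
    rw [← QuotientGroup.out_eq' p, ← QuotientGroup.out_eq' q]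
    exact QuotientGroup.eq.2 (hF _ _ e)
  have := C.card_eq_card_quotient_mul_card_subgroup
  rw [h.cardM, hcard] at this
  have h2 : Nat.card (M ⧸ C) * Nat.card ↥(M ⊓ Subgroup.centralizer ({z} : Set G)) ≤
      7 * Nat.card ↥(M ⊓ Subgroup.centralizer ({z} : Set G)) := Nat.mul_le_mul_right _ hle
  omega

end Cfsg.Agent.Invol.G23Two
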