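import Cfsg.Agent.Lib.Invol.G23Two.Recog
import Cfsg.Agent.Lib.Invol.BrauerSuzuki

/-!
# The centraliser of an element of order three

Either it lies in the centraliser of the involution, or a commuting element of order three exists whose
enumeration gives `G₂(3)`.
-/

set_option autoImplicit false
set_option linter.unusedSectionVars false
set_option linter.style.haveILetI false
set_option maxRecDepth 20000

namespace Cfsg.Agent.Invol.G23Two

open Cfsg.Agent.Invol.PSp43 (beq_iff)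

/-- the powers of the first element of order three -/
def xList : List ℕ := [0, 96, 192]

/-- the two-elements centralising it -/
def qList : List ℕ := [0, 1, 2, 3, 12, 13, 14, 15]

theorem q_ok : ((List.range 576).all fun i => !(com i xI) ||
      ((!(Nat.beq (pw i 64) 0) || qList.contains i) &&
        (!(Nat.beq (pw i 9) 0) || xList.contains i ||
          qList.any fun q => !(Nat.beq (pw (mL (iL i) (cj q i)) 9) 0)))) = true ∧
    (qList.all fun q => com q zI && com q xI && decide (q < 576) &&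
      (!(Nat.beq (mL q q) 0) || Nat.beq q 0 || Nat.beq q zI)) = true := by
  decide +kernel

theorem cand_ok : ((List.range 576).all fun i => !(Nat.beq (pw i 9) 0) || Nat.beq (pw i 3) 0) = true ∧
    ((List.range 576).all fun i => Nat.beq i 0 || !(Nat.beq (pw i 3) 0) || !(Nat.beq (cj 300 i) (iL i)) ||
      cList.any fun p => Nat.beq p.1 i || Nat.beq p.1 (iL i)) = true := by
  decide +kernel

theorem move_ok : al tI = 63 ∧ inR tI = true ∧ inR (cj 198 (al tI)) = true ∧ al (cj 198 (al tI)) = zI ∧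
    inR (cj 198 (al zI)) = true ∧ al (cj 198 (al zI)) = 300 ∧ inR zI = true ∧ cj 1 tI = 300 := by
  decide +kernel

theorem act_ok : cj tI xI = 192 ∧ cj 300 xI = 192 ∧ cj tI yI = 8 ∧ cj 300 yI = 8 ∧ iL xI = 192 ∧ iL yI = 8 ∧
    mL xI (mL xI xI) = 0 ∧ mL yI (mL yI yI) = 0 ∧ com xI yI = true ∧ mL xI xI = 192 ∧
    mL tI tI = 0 ∧ mL 300 300 = 0 ∧ com tI zI = true ∧ com 300 zI = true ∧ mL zI tI = 300 ∧
    com xI zI = true ∧ com yI zI = true := by
  decide +kernel

namespace Loc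

variable {G : Type*} [Group G] [Finite G] (L : Loc G)

/-- An element of order three commuting with both standard ones and with the involution `s`, inverted by `z`. -/
def Big (s : ℕ) : Prop :=
  ∃ a : G, a ≠ 1 ∧ a * a * a = 1 ∧ Commute a (L.h.e xI) ∧ Commute a (L.h.e yI) ∧ Commute a (L.h.e s) ∧
    L.h.e zI * a * L.h.e zI = a⁻¹

theorem odd_code {i : ℕ} (hi : i < 576) (h : Odd (orderOf (L.h.e i))) : pw i 9 = 0 := by
  have h1 : L.h.e i ^ 576 = 1 := by
    let K : Subgroup G := Subgroup.centralizer ({L.h.e zI} : Set G)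
    have hK : Nat.card K = 576 := by
      let F : Fin 576 → K := fun j => ⟨L.h.e j, Subgroup.mem_centralizer_singleton_iff.2 (L.h.e_comm_z j.2)⟩
      have hF : Function.Bijective F := by
        refine ⟨fun a b e => Fin.ext (L.h.inj a a.2 b b.2 (congrArg Subtype.val e)), fun x => ?_⟩
        obtain ⟨j, hj, e⟩ := L.h.mem_cent (Subgroup.mem_centralizer_singleton_iff.1 x.2)
        exact ⟨⟨j, hj⟩, Subtype.ext e⟩
      rw [← Nat.card_eq_of_bijective F hF, Nat.card_fin]
    have : (⟨L.h.e i, Subgroup.mem_centralizer_singleton_iff.2 (L.h.e_comm_z hi)⟩ : K) ^ Nat.card K = 1 :=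
      pow_card_eq_one'
    rw [hK] at this
    exact congrArg Subtype.val this
  have h2 := orderOf_dvd_of_pow_eq_one h1
  rw [show (576 : ℕ) = 64 * 9 by norm_num] at h2
  have hc : (orderOf (L.h.e i)).Coprime 64 := by
    rw [show (64 : ℕ) = 2 ^ 6 by norm_num]
    exact (Nat.coprime_two_right.2 h).pow_right 6
  have h9 := orderOf_dvd_iff_pow_eq_one.1 (hc.dvd_of_dvd_mul_left h2)
  rw [← L.h.e_pow hi, L.h.e_eq_one (pw_lt i 9)] at h9
  exact h9

/-- An element of odd order of the centraliser of `z` has order dividing three. -/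
theorem cube_z {a : G} (ha : Commute a (L.h.e zI)) (ho : Odd (orderOf a)) : a * a * a = 1 := by
  obtain ⟨i, hi, rfl⟩ := L.h.mem_cent ha.eq
  have h := cand_ok.1
  simp only [List.all_eq_true, List.mem_range, Bool.or_eq_true, Bool.not_eq_true'] at h
  have h3 := beq_iff.1 ((h i hi).resolve_left (by rw [beq_iff.2 (L.odd_code hi ho)]; exact fun e => Bool.noConfusion e))
  have := L.h.e_pow hi 3
  rw [h3, L.h.e_zero, pow_succ, pow_two] at this
  exact this.symm

/-- The element carrying `t` to the centre. -/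
def mv : G := L.u * L.h.e 198 * L.u

theorem mv_t : L.mv * L.h.e tI * L.mv⁻¹ = L.h.e zI ∧ L.mv * L.h.e zI * L.mv⁻¹ = L.h.e 300 := by
  obtain ⟨-, r1, r2, r3, r4, r5, r6, -⟩ := move_ok
  have hu : (L.u)⁻¹ = L.u := inv_eq_of_mul_eq_one_right L.u2
  have key : ∀ r, r ∈ rList → cj 198 (al r) ∈ rList →
      L.mv * L.h.e r * L.mv⁻¹ = L.h.e (al (cj 198 (al r))) := by
    intro r hr hr'
    rw [← L.ru _ hr', ← L.h.conj_e (by norm_num) (rList_lt _ (al_mem hr)), ← L.ru _ hr, mv, mul_inv_rev,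
      mul_inv_rev, hu]
    group
  refine ⟨?_, ?_⟩
  · rw [key _ (inR_iff.1 r1) (inR_iff.1 r2), r3]
  · rw [key _ (inR_iff.1 r6) (inR_iff.1 r4), r5]

/-- The centralisers of `t` and of `z t` have elements of odd order dividing three only. -/
theorem cube_t {s : ℕ} (hs : s = tI ∨ s = 300) {a : G} (ha : Commute a (L.h.e s)) (ho : Odd (orderOf a)) :
    a * a * a = 1 := by
  obtain ⟨k, hk⟩ : ∃ k : G, k * L.h.e s * k⁻¹ = L.h.e zI := by
    rcases hs with rfl | rfl
    · exact ⟨L.mv, L.mv_t.1⟩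
    · refine ⟨L.mv * (L.h.e 1)⁻¹, ?_⟩
      have : L.h.e 300 = L.h.e 1 * L.h.e tI * (L.h.e 1)⁻¹ := by
        rw [L.h.conj_e (by norm_num) (by norm_num), move_ok.2.2.2.2.2.2.2]
      rw [this]
      calc L.mv * (L.h.e 1)⁻¹ * (L.h.e 1 * L.h.e tI * (L.h.e 1)⁻¹) * (L.mv * (L.h.e 1)⁻¹)⁻¹
          = L.mv * L.h.e tI * L.mv⁻¹ := by group
        _ = L.h.e zI := L.mv_t.1
  have h1 : Commute (k * a * k⁻¹) (L.h.e zI) := by
    rw [← hk]
    exact (ha.map (MulAut.conj k).toMonoidHom)
  have h2 := L.cube_z h1 (by rw [Cfsg.Agent.Invol.orderOf_conj_eq]; exact ho)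
  rw [show k * a * k⁻¹ * (k * a * k⁻¹) * (k * a * k⁻¹) = k * (a * a * a) * k⁻¹ by group] at h2
  exact conj_eq_one_iff.1 h2

/-- An element inverted by an involution is the square of one fixed modulo nothing. -/
theorem half {c z : G} (ho : Odd (orderOf c)) (hz : z * c * z = c⁻¹) (h2 : z * z = 1) :
    ∃ d ∈ Subgroup.zpowers c, d * d = c ∧ z * d * z = d⁻¹ := by
  obtain ⟨m, hm⟩ := ho
  refine ⟨c ^ (m + 1), pow_mem (Subgroup.mem_zpowers c) _, ?_, ?_⟩
  · rw [← pow_add, show m + 1 + (m + 1) = orderOf c + 1 by omega, pow_succ, pow_orderOf_eq_one, one_mul]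
  · have hi : z⁻¹ = z := inv_eq_of_mul_eq_one_right h2
    have : z * c ^ (m + 1) * z⁻¹ = (z * c * z⁻¹) ^ (m + 1) := (_root_.conj_pow).symm
    rw [hi] at this
    rw [this, hz, inv_pow]

/-- The centraliser of the first element of order three. -/
abbrev Cx : Subgroup G := Subgroup.centralizer ({L.h.e xI} : Set G)

/-- Its odd core, in the whole group. -/
noncomputable def Ox : Subgroup G := (Cfsg.pPrimeCore 2 ↥L.Cx).map L.Cx.subtype

theorem mem_Cx {a : G} : a ∈ L.Cx ↔ Commute a (L.h.e xI) := Subgroup.mem_centralizer_singleton_iff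

theorem Ox_le : L.Ox ≤ L.Cx := by
  rintro _ ⟨a, -, rfl⟩
  exact a.2

theorem Ox_odd {a : G} (ha : a ∈ L.Ox) : Odd (orderOf a) := by
  obtain ⟨b, hb, rfl⟩ := ha
  rw [orderOf_injective L.Cx.subtype Subtype.coe_injective b]
  refine Odd.of_dvd_nat ?_ (Subgroup.orderOf_dvd_natCard _ hb)
  exact Nat.coprime_two_right.1 Grp.pPrimeCore_coprime

theorem Ox_conj {a c : G} (ha : a ∈ L.Ox) (hc : c ∈ L.Cx) : c * a * c⁻¹ ∈ L.Ox := by
  obtain ⟨b, hb, rfl⟩ := ha
  exact ⟨⟨c, hc⟩ * b * ⟨c, hc⟩⁻¹, Grp.pPrimeCore_isNormal.conj_mem b hb _, rfl⟩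

theorem inverts {s : ℕ} (hs : s = tI ∨ s = 300) :
    L.h.e s * L.h.e xI * L.h.e s = (L.h.e xI)⁻¹ ∧ L.h.e s * L.h.e yI * L.h.e s = (L.h.e yI)⁻¹ ∧
      L.h.e s * L.h.e s = 1 ∧ Commute (L.h.e s) (L.h.e zI) := by
  obtain ⟨a1, a2, a3, a4, a5, a6, -, -, -, -, a7, a8, a9, a10, -⟩ := act_ok
  have lx : xI < 576 := by norm_num
  have ly : yI < 576 := by norm_num
  rcases hs with rfl | rfl
  · have ls : tI < 576 := by norm_num
    have h2 := L.h.sq_one ls a7
    have hi : (L.h.e tI)⁻¹ = L.h.e tI := inv_eq_of_mul_eq_one_right h2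
    refine ⟨?_, ?_, h2, (L.h.com_iff ls (by norm_num)).2 a9⟩
    · conv_lhs => arg 2; rw [← hi]
      rw [L.h.conj_e ls lx, a1, ← L.h.e_inv lx, a5]
    · conv_lhs => arg 2; rw [← hi]
      rw [L.h.conj_e ls ly, a3, ← L.h.e_inv ly, a6]
  · have ls : (300 : ℕ) < 576 := by norm_num
    have h2 := L.h.sq_one ls a8
    have hi : (L.h.e 300)⁻¹ = L.h.e 300 := inv_eq_of_mul_eq_one_right h2
    refine ⟨?_, ?_, h2, (L.h.com_iff ls (by norm_num)).2 a10⟩
    · conv_lhs => arg 2; rw [← hi]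
      rw [L.h.conj_e ls lx, a2, ← L.h.e_inv lx, a5]
    · conv_lhs => arg 2; rw [← hi]
      rw [L.h.conj_e ls ly, a4, ← L.h.e_inv ly, a6]

theorem Ox_auto {a : G} (ha : a ∈ L.Ox) {s : ℕ} (hs : s = tI ∨ s = 300) : L.h.e s * a * L.h.e s ∈ L.Ox := by
  obtain ⟨hx, -, h2, -⟩ := L.inverts hs
  set t := L.h.e s
  set x := L.h.e xI
  have htt : ∀ c : G, t * (t * c * t) * t = c := fun c => by
    rw [show t * (t * c * t) * t = (t * t) * c * (t * t) by group, h2, one_mul, mul_one]
  have hmem : ∀ c : G, c ∈ L.Cx → t * c * t ∈ L.Cx := by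
    intro c hc
    rw [mem_Cx] at hc ⊢
    have key : t * (c * x⁻¹) * t = t * (x⁻¹ * c) * t := by rw [hc.inv_right.eq]
    have hxi : t * x⁻¹ * t = x := by
      conv_rhs => rw [← htt x]
      rw [hx]
    calc t * c * t * x = t * c * t * (t * x⁻¹ * t) := by rw [hxi]
      _ = t * (c * x⁻¹) * t := by
        rw [show t * c * t * (t * x⁻¹ * t) = t * c * (t * t) * x⁻¹ * t by group, h2]; group
      _ = t * (x⁻¹ * c) * t := key
      _ = (t * x⁻¹ * t) * (t * c * t) := by
        rw [show (t * x⁻¹ * t) * (t * c * t) = t * x⁻¹ * (t * t) * c * t by group, h2]; group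
      _ = x * (t * c * t) := by rw [hxi]
  let τ : L.Cx ≃* L.Cx :=
    { toFun := fun c => ⟨t * c * t, hmem c c.2⟩
      invFun := fun c => ⟨t * c * t, hmem c c.2⟩
      left_inv := fun c => Subtype.ext (htt c)
      right_inv := fun c => Subtype.ext (htt c)
      map_mul' := fun c d => Subtype.ext (by
        show t * ((c : G) * d) * t = (t * c * t) * (t * d * t)
        rw [show (t * (c : G) * t) * (t * d * t) = t * c * (t * t) * d * t by group, h2]; group) }
  obtain ⟨b, hb, rfl⟩ := ha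
  haveI : (Cfsg.pPrimeCore 2 ↥L.Cx).Characteristic := inferInstance
  refine ⟨τ b, ?_, rfl⟩
  have := Subgroup.Characteristic.fixed (H := Cfsg.pPrimeCore 2 ↥L.Cx) inferInstance τ
  rw [← this] at hb
  exact hb

theorem xI_Cx : L.h.e xI ∈ L.Cx := L.mem_Cx.2 (Commute.refl _)

theorem yI_Cx : L.h.e yI ∈ L.Cx :=
  L.mem_Cx.2 (Commute.symm ((L.h.com_iff (by norm_num) (by norm_num)).2 act_ok.2.2.2.2.2.2.2.2.1))

theorem zI_Cx : L.h.e zI ∈ L.Cx :=
  L.mem_Cx.2 (Commute.symm ((L.h.com_iff (by norm_num) (by norm_num)).2 act_ok.2.2.2.2.2.2.2.2.2.2.2.2.2.2.2.1))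

theorem x_pow {i : ℕ} (hi : i ∈ xList) : L.h.e i ∈ Subgroup.zpowers (L.h.e xI) := by
  simp only [xList, List.mem_cons, List.not_mem_nil, or_false] at hi
  rcases hi with rfl | rfl | rfl
  · rw [L.h.e_zero]; exact one_mem _
  · exact Subgroup.mem_zpowers _
  · rw [← act_ok.2.2.2.2.2.2.2.2.2.1, L.h.mul _ (by norm_num) _ (by norm_num)]
    exact mul_mem (Subgroup.mem_zpowers _) (Subgroup.mem_zpowers _)

theorem x_sub {a : G} (ha : a ∈ Subgroup.zpowers (L.h.e xI)) : Commute a (L.h.e zI) := by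
  obtain ⟨k, rfl⟩ := ha
  exact Commute.zpow_left (L.h.e_comm_z (by norm_num)) k

/-- An element of the odd core which commutes with `z` is a power of the element of order three. -/
theorem Ox_fix {a : G} (ha : a ∈ L.Ox) (hz : Commute a (L.h.e zI)) : a ∈ Subgroup.zpowers (L.h.e xI) := by
  obtain ⟨i, hi, rfl⟩ := L.h.mem_cent hz.eq
  have h := q_ok.1
  simp only [List.all_eq_true, List.mem_range, Bool.or_eq_true, Bool.and_eq_true, Bool.not_eq_true',
    List.any_eq_true, List.contains_iff_mem, beq_iff] at h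
  have hcom : com i xI = true := (L.h.com_iff hi (by norm_num)).1 (L.mem_Cx.1 (L.Ox_le ha)).eq
  obtain ⟨-, h9⟩ := (h i hi).resolve_left (by rw [hcom]; exact fun e => Bool.noConfusion e)
  rcases h9 with (r | r) | ⟨q, hq, r⟩
  · rw [beq_iff.2 (L.odd_code hi (L.Ox_odd ha))] at r; exact absurd r Bool.noConfusion
  · exact L.x_pow r
  · exfalso
    have hq' := q_ok.2
    simp only [List.all_eq_true, Bool.and_eq_true, decide_eq_true_eq] at hq'
    obtain ⟨⟨⟨qz, qx⟩, ql⟩, -⟩ := hq' q hq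
    have hm : L.h.e (mL (iL i) (cj q i)) ∈ L.Ox := by
      rw [L.h.mul _ (iL_lt i) _ (cj_lt q i), L.h.e_inv hi, ← L.h.conj_e ql hi]
      exact mul_mem (inv_mem ha) (L.Ox_conj ha (L.mem_Cx.2 ((L.h.com_iff ql (by norm_num)).2 qx)))
    rw [beq_iff.2 (L.odd_code (mL_lt _ _) (L.Ox_odd hm))] at r
    exact Bool.noConfusion r

theorem z2 : L.h.e zI * L.h.e zI = 1 := L.h.sq_one (by norm_num) (by decide +kernel)

/-- The centre inverts the odd core modulo the element of order three. -/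
theorem Ox_inverted {v : G} (hv : v ∈ L.Ox) :
    L.h.e zI * v * L.h.e zI * v ∈ Subgroup.zpowers (L.h.e xI) := by
  set z := L.h.e zI with hz
  have z2 := L.z2
  rw [← hz] at z2
  have zi : z⁻¹ = z := inv_eq_of_mul_eq_one_right z2
  have hzv : z * v * z ∈ L.Ox := by
    have := L.Ox_conj hv L.zI_Cx
    rwa [← hz, zi] at this
  set c := v⁻¹ * (z * v * z) with hc
  have hcm : c ∈ L.Ox := mul_mem (inv_mem hv) hzv
  have hci : z * c * z = c⁻¹ := by
    rw [hc, mul_inv_rev, mul_inv_rev, mul_inv_rev, inv_inv, zi]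
    calc z * (v⁻¹ * (z * v * z)) * z = z * v⁻¹ * z * v * (z * z) := by group
      _ = z * (v⁻¹ * z) * v := by rw [z2]; group
  obtain ⟨d, hd, hd2, hdi⟩ := half (L.Ox_odd hcm) hci z2
  have hdm : d ∈ L.Ox := (Subgroup.zpowers_le.2 hcm) hd
  have hfix : z * (v * d) * z = v * d := by
    calc z * (v * d) * z = (z * v * z) * (z * d * z) := by
          rw [show (z * v * z) * (z * d * z) = z * v * (z * z) * d * z by group, z2]; group
      _ = v * (c * d⁻¹) := by rw [hdi, hc]; group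
      _ = v * d := by rw [← hd2, mul_inv_cancel_right]
  have hf : v * d ∈ Subgroup.zpowers (L.h.e xI) := by
    refine L.Ox_fix (mul_mem hv hdm) ?_
    show v * d * z = z * (v * d)
    calc v * d * z = z * (v * d) * z * z := by rw [hfix]
      _ = z * (v * d) := by rw [mul_assoc, z2, mul_one]
  have hcd : Commute d (v * d) := by
    obtain ⟨k, hk⟩ := hf
    rw [← hk]
    exact (L.mem_Cx.1 (L.Ox_le hdm)).zpow_right k
  have : z * v * z * v = (v * d) * (v * d) := by
    calc z * v * z * v = (v * c) * v := by rw [hc]; group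
      _ = v * d * (d * (v * d)) * d⁻¹ := by rw [← hd2]; group
      _ = v * d * (v * d * d) * d⁻¹ := by rw [hcd.eq]
      _ = _ := by group
  rw [this]
  exact mul_mem hf hf

/-- The Brauer–Suzuki theorem for the centraliser of the element of order three. -/
theorem Cx_decomp {g : G} (hg : g ∈ L.Cx) :
    ∃ m ∈ L.Ox, Commute (m * g) (L.h.e zI) := by
  haveI : Fact (Nat.Prime 2) := ⟨Nat.prime_two⟩
  set z := L.h.e zI with hz
  have z2 := L.z2
  rw [← hz] at z2
  have zi : z⁻¹ = z := inv_eq_of_mul_eq_one_right z2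
  let zC : L.Cx := ⟨z, L.zI_Cx⟩
  have hz1 : z ≠ 1 := fun e => absurd ((L.h.e_eq_one (by norm_num)).1 e) (by norm_num)
  have hzC : orderOf zC = 2 := Cfsg.Agent.Invol.orderOf_two_iff.2
    ⟨Subtype.ext z2, fun e => hz1 (congrArg Subtype.val e)⟩
  have hpg : IsPGroup 2 (Subgroup.zpowers zC) :=
    IsPGroup.of_card (n := 1) (by rw [Nat.card_zpowers, hzC, pow_one])
  obtain ⟨S, hS⟩ := hpg.exists_le_sylow
  have hzS : zC ∈ (S : Subgroup L.Cx) := hS (Subgroup.mem_zpowers _)
  have hq := q_ok.1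
  have hq' := q_ok.2
  simp only [List.all_eq_true, List.mem_range, Bool.or_eq_true, Bool.and_eq_true, Bool.not_eq_true',
    decide_eq_true_eq, List.contains_iff_mem, beq_iff] at hq hq'
  have code : ∀ w : L.Cx, w ∈ (S : Subgroup L.Cx) → Commute (w : G) z → ∃ q ∈ qList, L.h.e q = w := by
    intro w hw hwz
    obtain ⟨i, hi, hie⟩ := L.h.mem_cent hwz.eq
    have hcom : com i xI = true := (L.h.com_iff hi (by norm_num)).1 (by rw [hie]; exact (L.mem_Cx.1 w.2).eq)
    obtain ⟨h64, -⟩ := (hq i hi).resolve_left (by rw [hcom]; exact fun e => Bool.noConfusion e)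
    obtain ⟨k, hk⟩ := (IsPGroup.iff_orderOf.1 S.2) ⟨w, hw⟩
    have hord : orderOf (L.h.e i) = 2 ^ k := by
      rw [hie, ← hk, Subgroup.orderOf_mk]
      exact orderOf_injective L.Cx.subtype Subtype.coe_injective w
    have hd : 2 ^ k ∣ 576 := by
      let K : Subgroup G := Subgroup.centralizer ({L.h.e zI} : Set G)
      let F : Fin 576 → K := fun j => ⟨L.h.e j, Subgroup.mem_centralizer_singleton_iff.2 (L.h.e_comm_z j.2)⟩
      have hF : Function.Bijective F := by
        refine ⟨fun a b e => Fin.ext (L.h.inj a a.2 b b.2 (congrArg Subtype.val e)), fun x => ?_⟩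
        obtain ⟨j, hj, e⟩ := L.h.mem_cent (Subgroup.mem_centralizer_singleton_iff.1 x.2)
        exact ⟨⟨j, hj⟩, Subtype.ext e⟩
      have := Subgroup.orderOf_dvd_natCard K (F ⟨i, hi⟩).2
      rw [← Nat.card_eq_of_bijective F hF, Nat.card_fin] at this
      rw [← hord]
      exact this
    have h64' : (2 : ℕ) ^ k ∣ 64 := by
      have h2 : (2 ^ k).Coprime 9 := Nat.Coprime.pow_left k (by norm_num)
      exact h2.dvd_of_dvd_mul_right (show 2 ^ k ∣ 64 * 9 by norm_num; exact hd)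
    rcases h64 with r | r
    · rw [← hord, orderOf_dvd_iff_pow_eq_one, ← L.h.e_pow hi, L.h.e_eq_one (pw_lt i 64)] at h64'
      rw [beq_iff.2 h64'] at r
      exact absurd r Bool.noConfusion
    · exact ⟨i, r, hie⟩
  have invol : ∀ w : L.Cx, w ∈ (S : Subgroup L.Cx) → orderOf w = 2 → Commute (w : G) z → w = zC := by
    intro w hw hw2 hwz
    obtain ⟨q, hq1, hqe⟩ := code w hw hwz
    obtain ⟨⟨⟨-, -⟩, ql⟩, h3⟩ := hq' q hq1
    have hsq : mL q q = 0 := by
      refine L.h.inj _ (mL_lt _ _) 0 (by norm_num) ?_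
      rw [L.h.mul q ql q ql, L.h.e_zero, hqe]
      exact congrArg Subtype.val (Cfsg.Agent.Invol.mul_self_of_orderOf_two hw2)
    rcases h3 with (r | r) | r
    · rw [beq_iff.2 hsq] at r; exact absurd r Bool.noConfusion
    · exfalso
      rw [r, L.h.e_zero] at hqe
      exact Cfsg.Agent.Invol.ne_one_of_orderOf_two hw2 (Subtype.ext hqe.symm)
    · rw [r] at hqe
      exact Subtype.ext hqe.symm
  haveI hnt : Nontrivial (S : Subgroup L.Cx) :=
    ⟨⟨⟨zC, hzS⟩, 1, fun e => Cfsg.Agent.Invol.ne_one_of_orderOf_two hzC (congrArg Subtype.val e)⟩⟩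
  haveI := S.2.center_nontrivial
  obtain ⟨ζ, hζ⟩ := exists_prime_orderOf_dvd_card' (G := Subgroup.center (S : Subgroup L.Cx)) 2 (by
    obtain ⟨k, hk⟩ := IsPGroup.iff_card.1 (S.2.to_subgroup (Subgroup.center (S : Subgroup L.Cx)))
    rw [hk]
    refine dvd_pow_self 2 fun e => ?_
    rw [e, pow_zero] at hk
    have := Finite.one_lt_card (α := Subgroup.center (S : Subgroup L.Cx))
    omega)
  have hcen : ∀ w : L.Cx, w ∈ (S : Subgroup L.Cx) → Commute ((ζ : (S : Subgroup L.Cx)) : L.Cx) w := fun w hw =>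
    (congrArg Subtype.val (Subgroup.mem_center_iff.1 ζ.2 ⟨w, hw⟩)).symm
  have hζ2 : orderOf ((ζ : (S : Subgroup L.Cx)) : L.Cx) = 2 := by
    have := orderOf_injective ((S : Subgroup L.Cx).subtype.comp (Subgroup.center (S : Subgroup L.Cx)).subtype)
      (Subtype.coe_injective.comp Subtype.coe_injective) ζ
    exact this.trans hζ
  have hζz := invol _ (ζ : (S : Subgroup L.Cx)).2 hζ2 ((hcen zC hzS).map L.Cx.subtype)
  have htr : Cfsg.Agent.BS.TwoRankOne L.Cx := Cfsg.Agent.BS.twoRankOne_of_sylow S fun a ha b hb a2 b2 => by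
    have hc : ∀ w : L.Cx, w ∈ (S : Subgroup L.Cx) → Commute (w : G) z := fun w hw => by
      have := hcen w hw
      rw [hζz] at this
      exact this.symm.map L.Cx.subtype
    rw [invol a ha a2 (hc a ha), invol b hb b2 (hc b hb)]
  have hcom := Cfsg.Agent.BS.commutator_mem_oddCore _ L.Cx rfl htr zC hzC ⟨g, hg⟩
  have hn : z * g * z * g⁻¹ ∈ L.Ox := ⟨_, hcom, by
    show z * g * z⁻¹ * g⁻¹ = _
    rw [zi]⟩
  have hni : z * (z * g * z * g⁻¹) * z = (z * g * z * g⁻¹)⁻¹ := by
    calc z * (z * g * z * g⁻¹) * z = (z * z) * g * z * g⁻¹ * z := by group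
      _ = g * z * g⁻¹ * z := by rw [z2, one_mul]
      _ = g * z⁻¹ * g⁻¹ * z⁻¹ := by rw [zi]
      _ = _ := by group
  obtain ⟨d, hd, hd2, hdi⟩ := half (L.Ox_odd hn) hni z2
  refine ⟨d, (Subgroup.zpowers_le.2 hn) hd, ?_⟩
  show d * g * z = z * (d * g)
  have e1 : z * (d * g) * z = d * g := by
    calc z * (d * g) * z = (z * d * z) * (z * g * z * g⁻¹) * g := by
          rw [show (z * d * z) * (z * g * z * g⁻¹) * g = z * d * (z * z) * g * z by group, z2]; group
      _ = d⁻¹ * (d * d) * g := by rw [hdi, hd2]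
      _ = d * g := by group
  calc d * g * z = z * (d * g) * z * z := by rw [e1]
    _ = z * (d * g) := by rw [mul_assoc, z2, mul_one]

end Loc

end Cfsg.Agent.Invol.G23Two
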