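import Cfsg.Agent.Lib.Invol.G23Two.SmallGroup
import Cfsg.Agent.Lib.Char.Galois
import Cfsg.Agent.Lib.Char.Induce
import Cfsg.Agent.Lib.Block.ClassMul
import Cfsg.Agent.Lib.Block.Central

/-!
# The case of small centralisers of elements of order three does not occur

The generalised character of norm three induces to one of norm three; counting pairs of involutions with it
leaves three possible orders, none of which admits Sylow subgroups for its largest prime.
-/

set_option autoImplicit false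
set_option linter.unusedSectionVars false
set_option linter.style.haveILetI false
set_option maxRecDepth 20000

namespace Cfsg.Agent.Invol.G23Two

open Cfsg Cfsg.Agent.Char
open Cfsg.Agent.Invol.PSp43 (beq_iff)
open scoped ComplexConjugate

theorem sq_dvd_ok : ∀ n < 2444, 5971968 % (n * n) = 0 → 1728 % n = 0 := by decide +kernel

/-- the three possible indices -/
def indexOk (m : ℤ) : Bool := m == 8911 || m == 11935 || m == 9835

/-- the conditions on the parameters -/
def paramOk (a d : ℤ) : Bool :=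
  let s := a + d
  let t := s * (s + 1)
  let m := 10368 * t / (d * d)
  decide (575 < a * a + (a + 1) * (a + 1)) || t == 0 || 10368 * t % (d * d) != 0 || 576 * m % t != 0 ||
    m % 7 != 0 || m % 2 == 0 || m % 3 != 1 || indexOk m

theorem param_ok : ((List.range 34).all fun n => (List.range 1729).all fun k =>
    !(Nat.beq (1728 % k) 0) || (paramOk ((n : ℤ) - 17) (k : ℤ) && paramOk ((n : ℤ) - 17) (-(k : ℤ)))) = true := by
  decide +kernel

theorem sylow_ok :
    (∀ e < 133 * Nat.gcd (67 - 1) 576 + 1, 133 * Nat.gcd (67 - 1) 576 % e = 0 → 576 * 133 / e % 67 ≠ 1) ∧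
    (∀ e < 1085 * Nat.gcd (11 - 1) 576 + 1, 1085 * Nat.gcd (11 - 1) 576 % e = 0 → 576 * 1085 / e % 11 ≠ 1) ∧
    (∀ e < 35 * Nat.gcd (281 - 1) 576 + 1, 35 * Nat.gcd (281 - 1) 576 % e = 0 → 576 * 35 / e % 281 ≠ 1) := by
  decide +kernel

theorem index_cases {m : ℕ} {a s : ℤ} (hm2 : ¬ 2 ∣ m) (hm3 : m % 3 = 1) (hm7 : 7 ∣ m) (hs : s ≠ 0) (hs1 : s + 1 ≠ 0)
    (ha : a * a + (a + 1) * (a + 1) ≤ 575) (hsd : s ∣ 576 * (m : ℤ)) (hs1d : s + 1 ∣ 576 * (m : ℤ))
    (hE : (m : ℤ) * ((s - a) * (s - a)) = 10368 * (s * (s + 1))) : m = 8911 ∨ m = 11935 ∨ m = 9835 := by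
  set d := s - a with hd
  set t := s * (s + 1) with ht
  have ht0 : t ≠ 0 := mul_ne_zero hs hs1
  have hd0 : d ≠ 0 := fun e => by rw [e] at hE; simp at hE; exact ht0 hE
  have htd : t ∣ 576 * (m : ℤ) := (show IsCoprime s (s + 1) from ⟨-1, 1, by ring⟩).mul_dvd hsd hs1d
  obtain ⟨r, hr⟩ := htd
  have hrd : r * (d * d) = 5971968 := by
    refine mul_left_cancel₀ ht0 ?_
    calc t * (r * (d * d)) = (t * r) * (d * d) := by ring
      _ = 576 * ((m : ℤ) * (d * d)) := by rw [← hr]; ring
      _ = t * 5971968 := by rw [hE]; ring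
  set n := d.natAbs with hn
  have hnn : n * n ∣ 5971968 := by
    have : d * d ∣ (5971968 : ℤ) := Dvd.intro_left _ hrd
    have := Int.natAbs_dvd_natAbs.2 this
    rwa [Int.natAbs_mul] at this
  have hn0 : 0 < n := Int.natAbs_pos.2 hd0
  have hnlt : n < 2444 := by
    have := Nat.le_of_dvd (by norm_num) hnn
    nlinarith
  have hdvd := sq_dvd_ok n hnlt (Nat.mod_eq_zero_of_dvd hnn)
  have hn1729 : n < 1729 := Nat.lt_succ_of_le (Nat.le_of_dvd (by norm_num) (Nat.dvd_of_mod_eq_zero hdvd))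
  have hab : -17 ≤ a ∧ a ≤ 16 := ⟨by nlinarith, by nlinarith⟩
  obtain ⟨i, hi, hia⟩ : ∃ i : ℕ, i < 34 ∧ (i : ℤ) - 17 = a := ⟨(a + 17).toNat, by omega, by omega⟩
  have h := param_ok
  simp only [List.all_eq_true, List.mem_range, Bool.or_eq_true, Bool.not_eq_true', Bool.and_eq_true] at h
  have hp := (h i hi n hn1729).resolve_left (by rw [beq_iff.2 hdvd]; exact fun e => Bool.noConfusion e)
  rw [hia] at hp
  have hok : paramOk a d = true := by
    rcases Int.natAbs_eq d with e | e
    · rw [e, ← hn]; exact hp.1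
    · rw [e, ← hn]; exact hp.2
  simp only [paramOk, show a + d = s by omega, ← ht, Bool.or_eq_true, decide_eq_true_eq, beq_iff_eq, bne_iff_ne,
    ne_eq] at hok
  have hm : 10368 * t / (d * d) = (m : ℤ) := by
    rw [← hE, Int.mul_ediv_cancel _ (mul_ne_zero hd0 hd0)]
  rw [hm] at hok
  rcases hok with ((((((r1 | r1) | r1) | r1) | r1) | r1) | r1) | r1
  · omega
  · exact absurd r1 ht0
  · exact absurd (by rw [← hE]; exact Int.mul_emod_left _ _) r1
  · exact absurd (Int.emod_eq_zero_of_dvd ⟨r, hr⟩) r1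
  · omega
  · omega
  · omega
  · simp only [indexOk, Bool.or_eq_true, beq_iff_eq] at r1
    omega

universe u

namespace Loc

variable {G : Type u} [Group G] [Finite G] (L : Loc G)

theorem sum_class [Fintype G] (F : G → ℂ)
    (hF : ∀ x : G, F (x⁻¹ * L.h.e zI * x) ≠ 0 → Commute (x⁻¹ * L.h.e zI * x) (L.h.e zI)) :
    ∑ x : G, F (x⁻¹ * L.h.e zI * x) = 576 * (invL.map fun p => F (L.h.e p)).sum := by
  classical
  have hnd : invL.Nodup := List.nodup_range.filter _
  rw [← List.sum_toFinset _ hnd, Finset.mul_sum]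
  have hx : ∀ x : G, F (x⁻¹ * L.h.e zI * x) =
      ∑ p ∈ invL.toFinset, (if x⁻¹ * L.h.e zI * x = L.h.e p then F (L.h.e p) else 0) := by
    intro x
    by_cases h0 : F (x⁻¹ * L.h.e zI * x) = 0
    · rw [h0]
      refine (Finset.sum_eq_zero fun p _ => ?_).symm
      split
      · next e => rw [← e, h0]
      · rfl
    obtain ⟨i, hi, e⟩ := L.h.mem_cent (hF x h0).eq
    have ho : orderOf (x⁻¹ * L.h.e zI * x) = 2 := by
      rw [show x⁻¹ * L.h.e zI * x = x⁻¹ * L.h.e zI * x⁻¹⁻¹ by rw [inv_inv], Cfsg.Agent.Invol.orderOf_conj_eq, L.z_inv]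
    have hiL : i ∈ invL.toFinset := by
      rw [List.mem_toFinset, mem_invL]
      refine ⟨hi, L.h.inj _ (mL_lt _ _) 0 (by norm_num) ?_, fun r => ?_⟩
      · rw [L.h.mul i hi i hi, e, L.h.e_zero, Cfsg.Agent.Invol.mul_self_of_orderOf_two ho]
      · rw [r, L.h.e_zero] at e
        exact Cfsg.Agent.Invol.ne_one_of_orderOf_two ho e.symm
    rw [Finset.sum_eq_single_of_mem i hiL fun p hp hne => if_neg fun e' => hne ?_, if_pos e.symm, e]
    exact L.h.inj p (mem_invL.1 (List.mem_toFinset.1 hp)).1 i hi (e'.symm.trans e.symm)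
  simp only [hx]
  rw [Finset.sum_comm]
  refine Finset.sum_congr rfl fun p hp => ?_
  obtain ⟨lp, hsq, p0⟩ := mem_invL.1 (List.mem_toFinset.1 hp)
  obtain ⟨a, ha⟩ := L.inv_conj (L.h.ord_two lp p0 hsq) (L.h.e_comm_z lp)
  rw [← Finset.sum_filter, Finset.sum_const, nsmul_eq_mul]
  congr 1
  have hc : (Finset.univ.filter fun x : G => x⁻¹ * L.h.e zI * x = L.h.e p).card =
      (Finset.univ.filter fun x : G => x ∈ L.Cz).card := by
    refine Finset.card_equiv (Equiv.mulRight a) fun x => ?_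
    simp only [Finset.mem_filter, Finset.mem_univ, true_and, Equiv.coe_mulRight, L.mem_Cz]
    constructor
    · intro e
      show x * a * L.h.e zI = L.h.e zI * (x * a)
      calc x * a * L.h.e zI = x * (a * L.h.e zI * a⁻¹) * a := by group
        _ = L.h.e zI * (x * a) := by rw [← ha, ← e]; group
    · intro e
      calc x⁻¹ * L.h.e zI * x = x⁻¹ * (L.h.e zI * (x * a)) * a⁻¹ := by group
        _ = L.h.e p := by rw [← e.eq, ha]; group
  have h576 : (Finset.univ.filter fun x : G => x ∈ L.Cz).card = 576 := by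
    rw [← L.card_Cz, Nat.card_eq_fintype_card, Fintype.card_subtype]
  rw [hc, h576]
  norm_num

theorem char_int (χ : IrrCharacter G) : ∃ v : ℤ, (χ : G → ℂ) (L.h.e zI) = (v : ℂ) := by
  refine IsChar.exists_int_of_fixed (IsIrr.isCharacter χ.2) _ fun k hk => ?_
  rw [L.z_inv, Nat.coprime_two_right] at hk
  obtain ⟨j, rfl⟩ := hk
  rw [pow_add, pow_mul, pow_two, L.z2, one_pow, one_mul, pow_one]

theorem ext_theC {i : ℕ} (hi : i < 576) : extendByZero L.Cz L.theC (L.h.e i) = (the i : ℂ) := by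
  rw [extendByZero_of_mem L.theC (L.mem_Cz.2 (L.h.e_comm_z hi)), theC, L.idx_eq hi rfl]

theorem small_false (hS : L.Small) : False := by
  classical
  letI := Fintype.ofFinite G
  set z := L.h.e zI with hz
  have hC : (Nat.card L.Cz : ℂ) = 576 := by rw [L.card_Cz]; norm_num
  have hgen : IsGeneralizedCharacter G (indFun L.Cz L.theC) := IsGenChar.ind L.Cz L.genChar
  set Ψ := indFun L.Cz L.theC with hΨ
  have supp : ∀ c : L.Cz, L.theC c ≠ 0 → the (L.idx c) ≠ 0 := fun c hc e => hc (by rw [theC, e]; norm_num)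
  have suppG : ∀ w : G, extendByZero L.Cz L.theC w ≠ 0 → ∃ i, i < 576 ∧ L.h.e i = w ∧ the i ≠ 0 := by
    intro w hw
    by_cases hm : w ∈ L.Cz
    · rw [extendByZero_of_mem L.theC hm] at hw
      exact ⟨_, L.idx_lt _, L.e_idx ⟨w, hm⟩, supp _ hw⟩
    · exact absurd (extendByZero_not_mem L.theC hm) hw
  have hval : ∀ c : L.Cz, L.theC c ≠ 0 → Ψ c = 3 := by
    intro c hc
    have hterm : ∀ x : G, extendByZero L.Cz L.theC (x⁻¹ * c * x) = if x ∈ L.Cz then 3 else 0 := by
      intro x
      split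
      · next hx =>
        rw [extendByZero_of_mem L.theC (mul_mem (mul_mem (inv_mem hx) c.2) hx)]
        have e : L.theC ⟨x⁻¹ * c * x, mul_mem (mul_mem (inv_mem hx) c.2) hx⟩ = L.theC c := by
          have := IsGenChar.classFun L.genChar c ⟨x, hx⟩⁻¹
          rw [inv_inv] at this
          exact this
        rw [e, theC]
        rcases the_cases (L.idx c) with r | r
        · exact absurd r (supp c hc)
        · rw [r]; norm_num
      · next hx =>
        by_contra hne
        obtain ⟨i, hi, e, hi0⟩ := suppG _ hne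
        refine hx (L.mem_Cz.2 (L.ti_supp hS hi hi0 ?_))
        rw [e, show x * (x⁻¹ * c * x) * x⁻¹ = (c : G) by group]
        exact L.mem_Cz.1 c.2
    show (Nat.card L.Cz : ℂ)⁻¹ * ∑ x : G, extendByZero L.Cz L.theC (x⁻¹ * c * x) = 3
    rw [Finset.sum_congr rfl fun x _ => hterm x, ← Finset.sum_filter, Finset.sum_const,
      ← Fintype.card_subtype, ← Nat.card_eq_fintype_card, nsmul_eq_mul, ← mul_assoc,
      inv_mul_cancel₀ (by rw [hC]; norm_num), one_mul]
  have hinner : classInner L.theC (fun _ => (1 : ℂ)) = 1 := by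
    simp only [classInner, map_one, mul_one, L.sum_theC, hC]
    norm_num
  have htriv : classInner Ψ (fun _ => (1 : ℂ)) = 1 := by
    rw [hΨ, classInner_indFun L.Cz L.theC (IsIrr.classFun isIrr_one), hinner]
  have hnorm : classInner Ψ Ψ = 3 := by
    rw [hΨ, classInner_indFun L.Cz L.theC (indFun_classFun L.Cz L.theC), ← hΨ]
    have e : classInner L.theC (fun h : L.Cz => Ψ h) = 3 * classInner L.theC (fun _ => (1 : ℂ)) := by
      simp only [classInner, map_one, mul_one]
      rw [← mul_assoc, mul_comm (3 : ℂ), mul_assoc, Finset.mul_sum _ _ (3 : ℂ)]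
      congr 1
      refine Finset.sum_congr rfl fun c _ => ?_
      by_cases hc : L.theC c = 0
      · rw [hc, zero_mul, mul_zero]
      · rw [hval c hc, map_ofNat, mul_comm]
    rw [e, hinner, mul_one]
  have hone : Ψ 1 = 0 := by
    rw [hΨ, indFun_one_eq, theC, L.idx_one, show the 0 = 0 from rfl, Nat.cast_zero, mul_zero]
  have hzero : Ψ z = 0 := by
    refine indFun_eq_zero_of_not_conj L.Cz L.theC fun x hx => ?_
    by_contra hne
    have hne' := supp _ hne
    have h := the_ok.1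
    simp only [List.all_eq_true, List.mem_range, Bool.or_eq_true, Bool.and_eq_true, Bool.not_eq_true'] at h
    rcases h _ (L.idx_lt ⟨_, hx⟩) with r | ⟨r, -⟩
    · exact hne' (beq_iff.1 r)
    · have hsq : (⟨_, hx⟩ : L.Cz) * ⟨_, hx⟩ = 1 := Subtype.ext (by
        show x⁻¹ * z * x * (x⁻¹ * z * x) = 1
        calc x⁻¹ * z * x * (x⁻¹ * z * x) = x⁻¹ * (z * z) * x := by group
          _ = 1 := by rw [hz, L.z2]; group)
      rw [← L.idx_mul, hsq, L.idx_one] at r
      exact Bool.noConfusion r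
  -- the decomposition
  obtain ⟨c, hc, hdec⟩ := IsGenChar.exists_decomp hgen
  have h0 : c (Block.trivialIrr G) = 1 := by
    have h := hc (Block.trivialIrr G)
    rw [show ((Block.trivialIrr G : IrrCharacter G) : G → ℂ) = fun _ => (1 : ℂ) from rfl, htriv] at h
    exact_mod_cast h.symm
  have hs : ∑ φ : IrrCharacter G, c φ ^ 2 = 3 := by
    rw [hdec, IsGenChar.classInner_self_int] at hnorm
    exact_mod_cast hnorm
  rw [← Finset.add_sum_erase _ _ (Finset.mem_univ (Block.trivialIrr G)), h0] at hs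
  set S := Finset.univ.erase (Block.trivialIrr G) with hSdef
  have hle : ∀ φ ∈ S, c φ = 0 ∨ c φ = 1 ∨ c φ = -1 := by
    intro φ hφ
    have := Finset.single_le_sum (f := fun x => c x ^ 2) (fun x _ => sq_nonneg _) hφ
    have h5 : -1 ≤ c φ ∧ c φ ≤ 1 := ⟨by nlinarith, by nlinarith⟩
    omega
  have hcard : (S.filter fun φ => c φ ≠ 0).card = 2 := by
    have h2 : ∑ φ ∈ S, c φ ^ 2 = ∑ φ ∈ S, (if c φ ≠ 0 then (1 : ℤ) else 0) :=
      Finset.sum_congr rfl fun φ hφ => by rcases hle φ hφ with e | e | e <;> simp [e]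
    rw [h2, Finset.sum_boole] at hs
    have : (((S.filter fun φ => c φ ≠ 0).card : ℕ) : ℤ) = 2 := by linarith
    exact_mod_cast this
  obtain ⟨P, Q, hPQ, hPQe⟩ := Finset.card_eq_two.mp hcard
  have hP : P ∈ S ∧ c P ≠ 0 := Finset.mem_filter.mp (hPQe ▸ Finset.mem_insert_self P {Q})
  have hQ : Q ∈ S ∧ c Q ≠ 0 :=
    Finset.mem_filter.mp (hPQe ▸ Finset.mem_insert_of_mem (Finset.mem_singleton_self Q))
  have hsum : ∀ f : IrrCharacter G → ℂ, ∑ φ : IrrCharacter G, (c φ : ℂ) * f φ =
      f (Block.trivialIrr G) + ((c P : ℂ) * f P + (c Q : ℂ) * f Q) := by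
    intro f
    rw [← Finset.add_sum_erase _ _ (Finset.mem_univ (Block.trivialIrr G)), h0, Int.cast_one, one_mul, ← hSdef,
      ← Finset.sum_subset (Finset.filter_subset (fun φ => c φ ≠ 0) S) fun φ hφ hn => by
        simp only [Finset.mem_filter, hφ, true_and, not_not] at hn
        rw [hn, Int.cast_zero, zero_mul], hPQe, Finset.sum_pair hPQ]
  have hvalue : ∀ x : G, Ψ x = 1 + ((c P : ℂ) * (P : G → ℂ) x + (c Q : ℂ) * (Q : G → ℂ) x) := by
    intro x
    have h := congrFun hdec x
    rw [Finset.sum_apply, Finset.sum_congr rfl fun φ _ =>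
      show ((c φ : ℂ) • (φ : G → ℂ)) x = (c φ : ℂ) * (φ : G → ℂ) x from rfl, hsum] at h
    exact h
  obtain ⟨vP, hvP⟩ := L.char_int P
  obtain ⟨vQ, hvQ⟩ := L.char_int Q
  rw [← hz] at hvP hvQ
  set dP := charDegree (P : G → ℂ) with hdP
  set dQ := charDegree (Q : G → ℂ) with hdQ
  have hP1 : (P : G → ℂ) 1 = (dP : ℂ) := Block.charDeg_spec' P
  have hQ1 : (Q : G → ℂ) 1 = (dQ : ℂ) := Block.charDeg_spec' Q
  have sP : c P = 1 ∨ c P = -1 := (hle P hP.1).resolve_left hP.2
  have sQ : c Q = 1 ∨ c Q = -1 := (hle Q hQ.1).resolve_left hQ.2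
  set s : ℤ := c P * dP with hsdef
  set a : ℤ := c P * vP with hadef
  have hQs : c Q * dQ = -1 - s := by
    have h := (hvalue 1).symm.trans hone
    rw [hP1, hQ1] at h
    have h' : (1 : ℤ) + (c P * dP + c Q * dQ) = 0 := by exact_mod_cast h
    omega
  have hQa : c Q * vQ = -1 - a := by
    have h := (hvalue z).symm.trans hzero
    rw [hvP, hvQ] at h
    have h' : (1 : ℤ) + (c P * vP + c Q * vQ) = 0 := by exact_mod_cast h
    omega
  have hPsq : c P * c P = 1 := by rcases sP with e | e <;> rw [e] <;> rfl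
  have hQsq : c Q * c Q = 1 := by rcases sQ with e | e <;> rw [e] <;> rfl
  have hs0 : s ≠ 0 := mul_ne_zero hP.2 (by have := Block.charDeg_pos P; omega)
  have hs1 : s + 1 ≠ 0 := fun e => by
    have : c Q * dQ = 0 := by omega
    exact mul_ne_zero hQ.2 (by have := Block.charDeg_pos Q; omega) this
  -- orthogonality
  have hbound : a * a + (a + 1) * (a + 1) ≤ 575 := by
    have h := sum_irr_mul_conj z z
    rw [if_pos (IsConj.refl z), hC] at h
    simp only [Complex.mul_conj, ← Complex.ofReal_sum] at h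
    have h' : ∑ χ : IrrCharacter G, Complex.normSq ((χ : G → ℂ) z) = 576 := by exact_mod_cast h
    have hsub := Finset.sum_le_sum_of_subset_of_nonneg
      (Finset.subset_univ ({Block.trivialIrr G, P, Q} : Finset (IrrCharacter G)))
      (f := fun χ : IrrCharacter G => Complex.normSq ((χ : G → ℂ) z)) fun χ _ _ => Complex.normSq_nonneg _
    have hPt : Block.trivialIrr G ≠ P := (Finset.mem_erase.mp hP.1).1.symm
    have hQt : Block.trivialIrr G ≠ Q := (Finset.mem_erase.mp hQ.1).1.symm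
    rw [h', Finset.sum_insert (by simp [hPt, hQt]), Finset.sum_pair hPQ, hvP, hvQ,
      show ((Block.trivialIrr G : IrrCharacter G) : G → ℂ) z = 1 from rfl, Complex.normSq_one,
      Complex.normSq_intCast, Complex.normSq_intCast] at hsub
    have hi : (1 : ℤ) + (vP * vP + vQ * vQ) ≤ 576 := by exact_mod_cast hsub
    have e1 : a * a = vP * vP := by rw [hadef, mul_mul_mul_comm, hPsq, one_mul]
    have e2 : (a + 1) * (a + 1) = vQ * vQ := by
      rw [show (a + 1) * (a + 1) = (-1 - a) * (-1 - a) by ring, ← hQa, mul_mul_mul_comm, hQsq, one_mul]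
    omega
  -- the count of pairs of involutions
  have hcount : ∑ g : G, Ψ (z * (g * z * g⁻¹)) = 576 * 10368 := by
    have step : ∀ g : G, Ψ (z * (g * z * g⁻¹)) =
        (576 : ℂ)⁻¹ * ∑ x : G, extendByZero L.Cz L.theC ((x⁻¹ * z * x) * (x⁻¹ * g * z * (x⁻¹ * g)⁻¹)) := by
      intro g
      rw [hΨ, indFun, hC]
      congr 1
      refine Finset.sum_congr rfl fun x _ => congrArg _ ?_
      group
    rw [Finset.sum_congr rfl fun g _ => step g, ← Finset.mul_sum, Finset.sum_comm]
    have inner : ∀ x : G, ∑ g : G, extendByZero L.Cz L.theC ((x⁻¹ * z * x) * (x⁻¹ * g * z * (x⁻¹ * g)⁻¹)) =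
        (fun w => ∑ g : G, extendByZero L.Cz L.theC (w * (g * z * g⁻¹))) (x⁻¹ * z * x) := fun x =>
      Fintype.sum_equiv (Equiv.mulLeft x⁻¹) _ _ fun g => rfl
    rw [Finset.sum_congr rfl fun x _ => inner x,
      L.sum_class (fun w => ∑ g : G, extendByZero L.Cz L.theC (w * (g * z * g⁻¹))) ?_]
    · have hp : ∀ p ∈ invL, ∑ g : G, extendByZero L.Cz L.theC (L.h.e p * (g * z * g⁻¹)) =
          576 * ((((invL.map fun q => the (mL p q)).sum : ℕ)) : ℂ) := by
        intro p hp
        obtain ⟨lp, hsq, p0⟩ := mem_invL.1 hp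
        rw [show ∑ g : G, extendByZero L.Cz L.theC (L.h.e p * (g * z * g⁻¹)) =
            ∑ g : G, (fun w => extendByZero L.Cz L.theC (L.h.e p * w)) (g⁻¹ * z * g) from
          Fintype.sum_equiv (Equiv.inv G) _ _ fun g => by simp [Equiv.inv_apply],
          L.sum_class (fun w => extendByZero L.Cz L.theC (L.h.e p * w)) fun x hx => ?_]
        · rw [Nat.cast_list_sum, List.map_map]
          refine congrArg (fun l : List ℂ => 576 * l.sum) (List.map_congr_left fun q hq => ?_)
          show extendByZero L.Cz L.theC (L.h.e p * L.h.e q) = ((the (mL p q) : ℕ) : ℂ)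
          rw [← L.h.mul p lp q (mem_invL.1 hq).1, L.ext_theC (mL_lt _ _)]
        · obtain ⟨i, hi, e, -⟩ := suppG _ hx
          have : x⁻¹ * L.h.e zI * x = (L.h.e p)⁻¹ * L.h.e i := by rw [e, inv_mul_cancel_left]
          rw [this]
          exact L.mem_Cz.1 (mul_mem (inv_mem (L.mem_Cz.2 (L.h.e_comm_z lp))) (L.mem_Cz.2 (L.h.e_comm_z hi)))
      rw [List.map_congr_left hp, List.sum_map_mul_left,
        show (invL.map fun p => (((invL.map fun q => the (mL p q)).sum : ℕ) : ℂ)) =
          (invL.map fun p => (invL.map fun q => the (mL p q)).sum).map (Nat.cast : ℕ → ℂ) by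
          rw [List.map_map]; rfl,
        ← Nat.cast_list_sum, the_ok.2.2]
      norm_num
    · intro x hx
      obtain ⟨g, -, hg⟩ := Finset.exists_ne_zero_of_sum_ne_zero hx
      obtain ⟨i, hi, e, hi0⟩ := suppG _ hg
      set w := x⁻¹ * L.h.e zI * x with hw
      set v := g * z * g⁻¹ with hv
      have hw2 : w * w = 1 := by
        calc w * w = x⁻¹ * (L.h.e zI * L.h.e zI) * x := by rw [hw]; group
          _ = 1 := by rw [L.z2]; group
      have hv2 : v * v = 1 := by
        calc v * v = g * (z * z) * g⁻¹ := by rw [hv]; group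
          _ = 1 := by rw [hz, L.z2]; group
      refine L.ti_supp hS hi hi0 ?_
      have : w * L.h.e i * w⁻¹ = (L.h.e i)⁻¹ := by
        rw [e]
        calc w * (w * v) * w⁻¹ = (w * w) * v * w⁻¹ := by group
          _ = v⁻¹ * w⁻¹ := by rw [hw2, one_mul, inv_eq_of_mul_eq_one_right hv2]
          _ = (w * v)⁻¹ := (mul_inv_rev w v).symm
      rw [this]
      exact (show Commute (L.h.e i) (L.h.e zI) from L.h.e_comm_z hi).inv_left
  have hpair := Block.sum_classFun_mul_conj (IsGenChar.classFun hgen) z z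
  rw [hcount, Finset.sum_congr rfl (g := fun χ : IrrCharacter G => (c χ : ℂ) *
    ((χ : G → ℂ) z * (χ : G → ℂ) z / (χ : G → ℂ) 1)) fun χ _ => by rw [hc]; ring, hsum, hvP, hvQ, hP1, hQ1,
    show ((Block.trivialIrr G : IrrCharacter G) : G → ℂ) z = 1 from rfl,
    show ((Block.trivialIrr G : IrrCharacter G) : G → ℂ) 1 = 1 from rfl] at hpair
  set m := L.Cz.index with hm
  have hcG : Nat.card G = m * 576 := by rw [← L.Cz.index_mul_card, L.card_Cz]
  have hm0 : m ≠ 0 := Subgroup.index_ne_zero_of_finite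
  have hterm : ∀ (e d v : ℤ), e * e = 1 → d ≠ 0 →
      (e : ℂ) * ((v : ℂ) * v / d) = ((e * v : ℤ) : ℂ) * ((e * v : ℤ) : ℂ) / ((e * d : ℤ) : ℂ) := by
    intro e d v he hd
    have hd' : (d : ℂ) ≠ 0 := Int.cast_ne_zero.mpr hd
    have he' : (e : ℂ) * (e : ℂ) = 1 := by exact_mod_cast he
    have he0 : (e : ℂ) ≠ 0 := fun r => by rw [r, zero_mul] at he'; exact zero_ne_one he'
    push_cast
    field_simp
  have t1 := hterm (c P) dP vP hPsq (by have := Block.charDeg_pos P; omega)
  have t2 := hterm (c Q) dQ vQ hQsq (by have := Block.charDeg_pos Q; omega)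
  simp only [Int.cast_natCast] at t1 t2
  rw [t1, t2, hQs, hQa, ← hsdef, ← hadef, hcG] at hpair
  have hE : (m : ℤ) * ((s - a) * (s - a)) = 10368 * (s * (s + 1)) := by
    have hsC : (s : ℂ) ≠ 0 := Int.cast_ne_zero.mpr hs0
    have hs1C : (s : ℂ) + 1 ≠ 0 := by
      rw [← Int.cast_one, ← Int.cast_add]
      exact Int.cast_ne_zero.mpr hs1
    have hs1N : (-1 : ℂ) - s ≠ 0 := fun r => hs1C (by linear_combination -r)
    have hmC : (m : ℂ) ≠ 0 := Nat.cast_ne_zero.mpr hm0
    have key : (1 * 1 / 1 + ((a : ℂ) * a / s + ((-1 : ℂ) - a) * (-1 - a) / (-1 - s))) * ((s : ℂ) * (s + 1)) =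
        ((s : ℂ) - a) * (s - a) := by field_simp; ring
    have h2 : ((m * 576 : ℕ) : ℂ)⁻¹ * (576 * 10368) = (10368 : ℂ) / m := by push_cast; field_simp
    push_cast at hpair
    push_cast at h2
    rw [← hpair, h2] at key
    have hC' : ((m : ℂ)) * (((s : ℂ) - a) * (s - a)) = 10368 * ((s : ℂ) * (s + 1)) := by
      rw [← key]; field_simp
    exact_mod_cast hC'
  have hdvd : ∀ χ : IrrCharacter G, ∀ e : ℤ, e * e = 1 → e * (charDegree (χ : G → ℂ) : ℤ) ∣ 576 * (m : ℤ) := by
    intro χ e he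
    have h : (charDegree (χ : G → ℂ) : ℤ) ∣ 576 * (m : ℤ) := by
      have := Block.charDeg_dvd χ
      rw [hcG, mul_comm] at this
      exact_mod_cast this
    obtain ⟨r, hr⟩ := h
    exact ⟨e * r, by rw [mul_mul_mul_comm, he, one_mul, hr]⟩
  have hd1 : s ∣ 576 * (m : ℤ) := hdvd P (c P) hPsq
  have hd2 : s + 1 ∣ 576 * (m : ℤ) := by
    have := hdvd Q (c Q) hQsq
    rw [← hdQ, hQs, show (-1 : ℤ) - s = -(s + 1) by ring, neg_dvd] at this
    exact this
  rcases index_cases L.two_part.1 (L.index_mod_three hS) L.seven_dvd hs0 hs1 hbound hd1 hd2 hE with e | e | e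
  · exact L.no_sylow hS (p := 67) (k := 133) (by norm_num) (by norm_num) e (by norm_num) sylow_ok.1
  · exact L.no_sylow hS (p := 11) (k := 1085) (by norm_num) (by norm_num) e (by norm_num) sylow_ok.2.1
  · exact L.no_sylow hS (p := 281) (k := 35) (by norm_num) (by norm_num) e (by norm_num) sylow_ok.2.2

end Loc

end Cfsg.Agent.Invol.G23Two
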