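import Cfsg.Agent.Lib.Invol.G23Two.Recog
import Cfsg.Agent.Lib.Char.Constituent

/-!
# A generalised character of norm three on the centraliser of the involution

It is three on the elements of the core whose image in the second factor is outside the quaternion group, and
zero elsewhere: the difference of two characters of degree two.
-/

set_option autoImplicit false
set_option linter.unusedSectionVars false
set_option linter.style.haveILetI false
set_option maxRecDepth 20000

namespace Cfsg.Agent.Invol.G23Two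

open Cfsg.Agent.Invol.PSp43 (mt ivs ngs sa sb se norm sa_lt sb_lt se_lt mt_lt beq_iff)

/-- the homomorphism of `SL(2, 3)` onto the group of order three -/
def kap (a : ℕ) : ℕ := a % 12 / 4

/-- its value on the second component -/
def kb (i : ℕ) : ℕ := kap (sb i)

/-- the generalised character -/
def the (i : ℕ) : ℕ := bif Nat.beq (se i) 0 && !(Nat.beq (kb i) 0) then 3 else 0

/-- the involutions of the table -/
def invL : List ℕ := (List.range 576).filter fun i => Nat.beq (mL i i) 0 && !(Nat.beq i 0)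

theorem kap_ok : (∀ a < 24, ∀ b < 24, kap (mt a b) = (kap a + kap b) % 3) ∧
    (∀ a < 24, kap (tw a) = 2 * kap a % 3 ∧ kap (ngs a) = kap a ∧ kap a < 3) := by decide +kernel

theorem kb_lt (i : ℕ) : kb i < 3 := (kap_ok.2 _ (sb_lt i)).2.2

theorem kb_mul (i j : ℕ) : se (mL i j) = (se i + se j) % 2 ∧
    kb (mL i j) = (kb i + (if se i = 0 then kb j else 2 * kb j)) % 3 := by
  have ha := sa_lt i; have hb := sb_lt i; have hc := sa_lt j; have hd := sb_lt j
  have he := se_lt i; have hf := se_lt j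
  obtain ⟨km, ku⟩ := kap_ok
  have hnorm : ∀ {a b e : ℕ}, a < 24 → b < 24 → e < 2 → se (norm a b e) = e ∧ kb (norm a b e) = kap b := by
    intro a b e la lb le
    obtain ⟨h1, h2⟩ := norm_parts la lb le
    refine ⟨h1, ?_⟩
    rcases h2 with ⟨-, h⟩ | ⟨-, h⟩
    · rw [kb, h]
    · rw [kb, h, (ku b lb).2.1]
  rw [mL]
  by_cases h0 : se i = 0
  · rw [h0, if_pos rfl, show Nat.beq 0 0 = true from rfl, cond_true]
    obtain ⟨h1, h2⟩ := hnorm (mt_lt ha hc) (mt_lt hb hd) hf
    rw [h1, h2, km _ hb _ hd]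
    exact ⟨by omega, rfl⟩
  · have h1' : se i = 1 := by omega
    rw [h1', if_neg Nat.one_ne_zero, show Nat.beq 1 0 = false from rfl, cond_false]
    obtain ⟨h1, h2⟩ := hnorm (mt_lt ha (tw_lt hc)) (mt_lt hb (tw_lt hd)) (show 1 - se j < 2 by omega)
    rw [h1, h2, km _ hb _ (tw_lt hd), (ku _ hd).1]
    refine ⟨by omega, ?_⟩
    show (kap (sb i) + 2 * kap (sb j) % 3) % 3 = _
    simp only [kb]
    omega

theorem the_ok : ((List.range 576).all fun i => Nat.beq (the i) 0 || (!(Nat.beq (mL i i) 0) &&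
      [1, 2, 4].any fun n => !(Nat.beq (pw i n) 0) && Nat.beq (pw (pw i n) 3) 0)) = true ∧
    ((List.range 576).map the).sum = 576 ∧
    (invL.map fun p => (invL.map fun q => the (mL p q)).sum).sum = 10368 := by
  decide +kernel

theorem the_cases (i : ℕ) : the i = 0 ∨ the i = 3 := by
  rw [the]
  cases (Nat.beq (se i) 0 && !(Nat.beq (kb i) 0))
  · exact Or.inl rfl
  · exact Or.inr rfl

/-- the representation of degree two -/
def rM (k e : ℕ) : Matrix (Fin 2) (Fin 2) ℤ := !![0, -1; 1, -1] ^ k * !![0, 1; 1, 0] ^ e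

theorem rM_mul : ∀ k < 3, ∀ l < 3, ∀ e < 2, ∀ f < 2,
    rM k e * rM l f = rM ((k + if e = 0 then l else 2 * l) % 3) ((e + f) % 2) := by decide +kernel

theorem rM_trace : ∀ k < 3, ∀ e < 2, ((bif Nat.beq e 0 && !(Nat.beq k 0) then 3 else 0 : ℕ) : ℤ) =
    (rM 0 e).trace - (rM k e).trace := by decide +kernel

theorem rM_one : rM 0 0 = 1 := by decide +kernel

namespace Loc

variable {G : Type*} [Group G] [Finite G] (L : Loc G)

/-- the centraliser of the involution -/
abbrev Cz : Subgroup G := Subgroup.centralizer ({L.h.e zI} : Set G)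

theorem mem_Cz {g : G} : g ∈ L.Cz ↔ Commute g (L.h.e zI) := Subgroup.mem_centralizer_singleton_iff

/-- the code of an element of the centraliser -/
noncomputable def idx (c : L.Cz) : ℕ := (L.h.mem_cent (L.mem_Cz.1 c.2).eq).choose

theorem idx_lt (c : L.Cz) : L.idx c < 576 := (L.h.mem_cent (L.mem_Cz.1 c.2).eq).choose_spec.1

theorem e_idx (c : L.Cz) : L.h.e (L.idx c) = (c : G) := (L.h.mem_cent (L.mem_Cz.1 c.2).eq).choose_spec.2

theorem idx_eq {c : L.Cz} {i : ℕ} (hi : i < 576) (e : L.h.e i = (c : G)) : L.idx c = i :=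
  L.h.inj _ (L.idx_lt c) i hi ((L.e_idx c).trans e.symm)

theorem idx_mul (a b : L.Cz) : L.idx (a * b) = mL (L.idx a) (L.idx b) :=
  L.idx_eq (mL_lt _ _) (by rw [L.h.mul _ (L.idx_lt a) _ (L.idx_lt b), L.e_idx, L.e_idx]; rfl)

theorem idx_one : L.idx 1 = 0 := L.idx_eq (by norm_num) (by rw [L.h.e_zero]; rfl)

/-- the generalised character on the centraliser -/
noncomputable def theC (c : L.Cz) : ℂ := (the (L.idx c) : ℂ)

theorem isChar_trace (M : L.Cz →* Matrix (Fin 2) (Fin 2) ℂ) : Cfsg.IsCharacter L.Cz fun c => (M c).trace :=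
  ⟨2, (Matrix.toLinAlgEquiv' : Matrix (Fin 2) (Fin 2) ℂ ≃ₐ[ℂ] _).toMonoidHom.comp M,
    funext fun c => Matrix.trace_toLin'_eq (M c)⟩

/-- The representations of degree two. -/
noncomputable def rHom (b : Bool) : L.Cz →* Matrix (Fin 2) (Fin 2) ℂ where
  toFun c := (Int.castRingHom ℂ).mapMatrix (rM (bif b then kb (L.idx c) else 0) (se (L.idx c)))
  map_one' := by
    rw [L.idx_one, show kb 0 = 0 from rfl, show se 0 = 0 from rfl]
    cases b <;> simp only [cond_true, cond_false, rM_one, map_one]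
  map_mul' a c := by
    obtain ⟨h1, h2⟩ := kb_mul (L.idx a) (L.idx c)
    rw [← map_mul, L.idx_mul, h1]
    congr 1
    cases b
    · simp only [cond_false]
      rw [rM_mul 0 (by norm_num) 0 (by norm_num) _ (se_lt _) _ (se_lt _)]
      simp
    · simp only [cond_true]
      rw [h2, rM_mul _ (kb_lt _) _ (kb_lt _) _ (se_lt _) _ (se_lt _)]

theorem genChar : Cfsg.IsGeneralizedCharacter L.Cz L.theC := by
  refine ⟨_, _, L.isChar_trace (L.rHom false), L.isChar_trace (L.rHom true), funext fun c => ?_⟩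
  have h := rM_trace (kb (L.idx c)) (kb_lt _) (se (L.idx c)) (se_lt _)
  have htr : ∀ M : Matrix (Fin 2) (Fin 2) ℤ, ((Int.castRingHom ℂ).mapMatrix M).trace = (M.trace : ℂ) := fun M => by
    simp [Matrix.trace, Fin.sum_univ_two]
  show (the (L.idx c) : ℂ) = ((Int.castRingHom ℂ).mapMatrix (rM 0 (se (L.idx c)))).trace -
    ((Int.castRingHom ℂ).mapMatrix (rM (kb (L.idx c)) (se (L.idx c)))).trace
  rw [htr, htr, ← Int.cast_sub, ← h]
  simp [the]

theorem card_Cz : Nat.card L.Cz = 576 := by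
  let F : Fin 576 → L.Cz := fun j => ⟨L.h.e j, L.mem_Cz.2 (L.h.e_comm_z j.2)⟩
  have hF : Function.Bijective F := by
    refine ⟨fun a b e => Fin.ext (L.h.inj a a.2 b b.2 (congrArg Subtype.val e)), fun x => ?_⟩
    exact ⟨⟨L.idx x, L.idx_lt x⟩, Subtype.ext (L.e_idx x)⟩
  rw [← Nat.card_eq_of_bijective F hF, Nat.card_fin]

theorem sum_theC [Fintype L.Cz] : ∑ c : L.Cz, L.theC c = 576 := by
  have e : ∑ c : L.Cz, the (L.idx c) = ∑ i ∈ Finset.range 576, the i := by
    refine Finset.sum_bij (fun c _ => L.idx c) (fun c _ => Finset.mem_range.2 (L.idx_lt c))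
      (fun a _ b _ h => Subtype.ext (by rw [← L.e_idx a, ← L.e_idx b]; exact congrArg L.h.e h))
      (fun i hi => ?_) (fun c _ => rfl)
    exact ⟨⟨L.h.e i, L.mem_Cz.2 (L.h.e_comm_z (Finset.mem_range.1 hi))⟩, Finset.mem_univ _,
      L.idx_eq (Finset.mem_range.1 hi) rfl⟩
  have e2 : ∑ i ∈ Finset.range 576, the i = 576 := the_ok.2.1
  simp only [theC]
  rw [← Nat.cast_sum, e, e2]
  norm_num

end Loc

end Cfsg.Agent.Invol.G23Two
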