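import Cfsg.Agent.Lib.Invol.G23Two.Recog
import Cfsg.Agent.Lib.Invol.StronglyEmbeddedCount

/-! The subgroup isomorphic to `G₂(3)` is the whole group. -/

set_option autoImplicit false
set_option linter.unusedSectionVars false
set_option linter.style.haveILetI false
set_option maxRecDepth 20000

namespace Cfsg.Agent.Invol.G23Two

open Cfsg.Agent.Invol.PSp43 (beq_iff)

/-- insertion without repetition -/
def ins (S : List ℕ) (i : ℕ) : List ℕ := bif S.contains i then S else S ++ [i]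

/-- one round of fusion -/
def fstep (S : List ℕ) : List ℕ :=
  (S.flatMap fun s => (gens.map fun k => cj k s) ++ (bif inR s then [al s] else [])).foldl ins S

/-- rounds of fusion of the centre -/
def fiter : ℕ → List ℕ
  | 0 => [zI]
  | n + 1 => fstep (fiter n)

theorem fusion_ok : ((List.range 576).all fun i =>
    Nat.beq i 0 || !(Nat.beq (mL i i) 0) || (fiter 9).contains i) = true := by decide +kernel

theorem mem_foldl_ins : ∀ (l S : List ℕ) (i : ℕ), i ∈ l.foldl ins S → i ∈ S ∨ i ∈ l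
  | [], S, i, h => Or.inl h
  | a :: l, S, i, h => by
    rcases mem_foldl_ins l (ins S a) i h with r | r
    · rw [ins] at r
      cases hc : S.contains a <;> rw [hc] at r
      · rcases List.mem_append.1 r with q | q
        · exact Or.inl q
        · exact Or.inr (List.mem_cons.2 (Or.inl (List.mem_singleton.1 q)))
      · exact Or.inl r
    · exact Or.inr (List.mem_cons_of_mem _ r)

theorem no_adj_seven_thirteen : ¬ ∃ x : Cfsg.Agent.Fus.GTwoThree.G, orderOf x = 13 * 7 := by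
  intro h
  have := (Cfsg.Agent.Fus.GTwoThree.adj_iff (by norm_num) (by norm_num) (by norm_num)).1 h
  omega

namespace Loc

variable {G : Type*} [Group G] [Finite G] (L : Loc G)

theorem mem_fiter : ∀ n, ∀ i ∈ fiter n, i < 576 ∧ ∃ a ∈ L.G0, L.h.e i = a * L.h.e zI * a⁻¹
  | 0, i, hi => by
    obtain rfl : i = zI := List.mem_singleton.1 hi
    exact ⟨by norm_num, 1, one_mem _, by group⟩
  | n + 1, i, hi => by
    rcases mem_foldl_ins _ _ _ hi with r | r
    · exact mem_fiter n i r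
    obtain ⟨s, hs, r⟩ := List.mem_flatMap.1 r
    obtain ⟨hs5, a, ha, e⟩ := mem_fiter n s hs
    rcases List.mem_append.1 r with q | q
    · obtain ⟨k, hk, rfl⟩ := List.mem_map.1 q
      have hg := gens_ok
      simp only [List.all_eq_true, Bool.and_eq_true, Nat.blt_eq] at hg
      have hk5 := (hg k hk).1
      refine ⟨cj_lt _ _, L.h.e k * a, mul_mem (L.e_mem_G0 hk5) ha, ?_⟩
      rw [← L.h.conj_e hk5 hs5, e]; group
    · cases hR : inR s <;> rw [hR] at q
      · exact absurd q List.not_mem_nil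
      · obtain rfl : i = al s := List.mem_singleton.1 q
        have hsR := inR_iff.1 hR
        refine ⟨rList_lt _ (al_mem hsR), L.u * a, mul_mem L.u_mem_G0 ha, ?_⟩
        rw [← L.ru s hsR, e, mul_inv_rev, inv_eq_of_mul_eq_one_right L.u2]
        group

theorem cent_le {g : G} (h : g * L.h.e zI = L.h.e zI * g) : g ∈ L.G0 := by
  obtain ⟨i, hi, rfl⟩ := L.h.mem_cent h
  exact L.e_mem_G0 hi

theorem card_cent : Nat.card (Subgroup.centralizer ({L.h.e zI} : Set G)) = 576 := by
  let F : Fin 576 → Subgroup.centralizer ({L.h.e zI} : Set G) := fun j =>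
    ⟨L.h.e j, Subgroup.mem_centralizer_singleton_iff.2 (L.h.e_comm_z j.2)⟩
  have hF : Function.Bijective F := by
    refine ⟨fun a b e => Fin.ext (L.h.inj a a.2 b b.2 (congrArg Subtype.val e)), fun x => ?_⟩
    obtain ⟨j, hj, e⟩ := L.h.mem_cent (Subgroup.mem_centralizer_singleton_iff.1 x.2)
    exact ⟨⟨j, hj⟩, Subtype.ext e⟩
  rw [← Nat.card_eq_of_bijective F hF, Nat.card_fin]

variable (φ : Cfsg.Agent.Fus.GTwoThree.G ≃* L.G0)

include φ

theorem card_G0 : Nat.card L.G0 = 2 ^ 6 * 3 ^ 6 * 7 * 13 := by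
  rw [← Nat.card_congr φ.toEquiv, Cfsg.Agent.Fus.GTwoThree.card_G]

/-- All involutions of the subgroup are conjugate in it to the central one. -/
theorem one_class {x : G} (hx : x ∈ L.G0) (hx2 : orderOf x = 2) :
    ∃ a ∈ L.G0, x = a * L.h.e zI * a⁻¹ := by
  haveI : Fact (Nat.Prime 2) := ⟨Nat.prime_two⟩
  let K : Subgroup L.G0 := (Subgroup.centralizer ({L.h.e zI} : Set G)).subgroupOf L.G0
  have hKle : Subgroup.centralizer ({L.h.e zI} : Set G) ≤ L.G0 := fun g hg =>
    L.cent_le (Subgroup.mem_centralizer_singleton_iff.1 hg)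
  have hK : Nat.card K = 576 := by
    rw [Nat.card_congr (Subgroup.subgroupOfEquivOfLe hKle).toEquiv, L.card_cent]
  obtain ⟨S, hS⟩ := Sylow.exists_subgroup_card_pow_prime (G := K) 2 (n := 6) (by rw [hK]; norm_num)
  have hS' : Nat.card (S.map K.subtype) = 2 ^ 6 := by
    rw [Subgroup.card_map_of_injective Subtype.coe_injective, hS]
  have hfac : (Nat.card L.G0).factorization 2 = 6 := by
    rw [L.card_G0 φ, show (2 : ℕ) ^ 6 * 3 ^ 6 * 7 * 13 = 2 ^ 6 * 66339 by norm_num,
      Nat.factorization_mul (by norm_num) (by norm_num), Finsupp.add_apply,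
      Nat.Prime.factorization_pow Nat.prime_two, Finsupp.single_eq_same,
      Nat.factorization_eq_zero_of_not_dvd (by norm_num : ¬ 2 ∣ 66339)]
  let P : Sylow 2 L.G0 := Sylow.ofCard (S.map K.subtype) (by rw [hS', hfac])
  let xx : L.G0 := ⟨x, hx⟩
  have hpg : IsPGroup 2 (Subgroup.zpowers xx) :=
    IsPGroup.of_card (n := 1) (by rw [Nat.card_zpowers, Subgroup.orderOf_mk, hx2, pow_one])
  obtain ⟨Q, hQ⟩ := hpg.exists_le_sylow
  obtain ⟨g, hg⟩ := MulAction.exists_smul_eq L.G0 Q P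
  have hmem : g * xx * g⁻¹ ∈ (P : Subgroup L.G0) := by
    rw [← hg, Sylow.smul_def]
    exact ⟨xx, hQ (Subgroup.mem_zpowers _), rfl⟩
  obtain ⟨y, hy, hyx⟩ : g * xx * g⁻¹ ∈ S.map K.subtype := hmem
  have hz := Subgroup.mem_centralizer_singleton_iff.1 (Subgroup.mem_subgroupOf.1 y.2)
  obtain ⟨i, hi, hie⟩ := L.h.mem_cent hz
  have hval : L.h.e i = (g : G) * x * (g : G)⁻¹ := by
    rw [hie]
    exact congrArg Subtype.val hyx
  have hord : orderOf (L.h.e i) = 2 := by rw [hval, Cfsg.Agent.Invol.orderOf_conj_eq, hx2]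
  have h := fusion_ok
  simp only [List.all_eq_true, List.mem_range, Bool.or_eq_true, Bool.not_eq_true', List.contains_iff_mem] at h
  rcases h i hi with (r | r) | r
  · exfalso
    rw [beq_iff.1 r, L.h.e_zero, orderOf_one] at hord
    norm_num at hord
  · exfalso
    have : mL i i = 0 := by
      refine L.h.inj _ (mL_lt _ _) 0 (by norm_num) ?_
      rw [L.h.mul i hi i hi, L.h.e_zero, Cfsg.Agent.Invol.mul_self_of_orderOf_two hord]
    rw [beq_iff.2 this] at r
    exact Bool.noConfusion r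
  · obtain ⟨-, a, ha, e⟩ := L.mem_fiter 9 i r
    refine ⟨(g : G)⁻¹ * a, mul_mem (inv_mem g.2) ha, ?_⟩
    rw [show x = (g : G)⁻¹ * L.h.e i * g by rw [hval]; group, e]
    group

theorem z_order : orderOf (L.h.e zI) = 2 :=
  L.h.ord_two (by norm_num) (by norm_num) (by decide +kernel)

/-- The subgroup is the whole group. -/
theorem top_of_iso : L.G0 = ⊤ := by
  by_contra hne
  have hz2 := L.z_order φ
  have hzG : L.h.e zI ∈ L.G0 := L.e_mem_G0 (by norm_num)
  have conj_in : ∀ g : G, g * L.h.e zI * g⁻¹ ∈ L.G0 → g ∈ L.G0 := by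
    intro g hg
    obtain ⟨a, ha, e⟩ := L.one_class φ hg (by rw [Cfsg.Agent.Invol.orderOf_conj_eq, hz2])
    have : (a⁻¹ * g) * L.h.e zI = L.h.e zI * (a⁻¹ * g) := by
      calc (a⁻¹ * g) * L.h.e zI = a⁻¹ * (g * L.h.e zI * g⁻¹) * g := by group
        _ = L.h.e zI * (a⁻¹ * g) := by rw [e]; group
    have := mul_mem ha (L.cent_le this)
    rwa [mul_inv_cancel_left] at this
  have hSE : Cfsg.IsStronglyEmbedded L.G0 := by
    refine ⟨hne, by rw [L.card_G0 φ]; decide, fun g hg => ?_⟩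
    rw [← Nat.not_even_iff_odd]
    intro hev
    obtain ⟨⟨x, hx⟩, hx2⟩ := exists_prime_orderOf_dvd_card'
      (G := ↥(L.G0 ⊓ L.G0.map (MulAut.conj g).toMonoidHom)) 2 hev.two_dvd
    rw [Subgroup.orderOf_mk] at hx2
    obtain ⟨hx1, y, hy, hyx⟩ := Subgroup.mem_inf.1 hx
    obtain ⟨a, ha, e⟩ := L.one_class φ hy (by
      rw [← hx2, ← hyx]
      exact (orderOf_injective (MulAut.conj g).toMonoidHom (MulAut.conj g).injective y).symm)
    refine hg ?_
    have hga : g * a ∈ L.G0 := conj_in _ (by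
      rw [show g * a * L.h.e zI * (g * a)⁻¹ = g * y * g⁻¹ by rw [e]; group]
      have : g * y * g⁻¹ = x := hyx
      rw [this]
      exact hx1)
    have := mul_mem hga (inv_mem ha)
    rwa [mul_inv_cancel_right] at this
  obtain ⟨g, hg⟩ : ∃ g, g ∉ L.G0 := by
    by_contra h
    push Not at h
    exact hne (eq_top_iff.2 fun g _ => h g)
  set u := g * L.h.e zI * g⁻¹ with hu
  have hu2 : orderOf u = 2 := by rw [hu, Cfsg.Agent.Invol.orderOf_conj_eq, hz2]
  have huG : u ∉ L.G0 := fun h => hg (conj_in g h)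
  set K := L.G0 ⊓ L.G0.map (MulAut.conj u).toMonoidHom with hKdef
  have hKodd : Odd (Nat.card K) := hSE.2.2 u huG
  -- the orbit of the central involution under the odd subgroup
  have trans : ∀ a ∈ L.G0, ∃ d ∈ K, d * L.h.e zI * d⁻¹ = a * L.h.e zI * a⁻¹ := fun a ha =>
    Cfsg.Agent.Invol.exists_conj_inf hSE hu2 huG hz2 hzG (by rw [Cfsg.Agent.Invol.orderOf_conj_eq, hz2])
      (mul_mem (mul_mem ha hzG) (inv_mem ha))
  have hdiv : 2 ^ 6 * 3 ^ 6 * 7 * 13 ∣ Nat.card K * 576 := by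
    have hsup : ∀ a ∈ L.G0, ∃ d ∈ K, ∃ c ∈ Subgroup.centralizer ({L.h.e zI} : Set G), a = d * c := by
      intro a ha
      obtain ⟨d, hd, e⟩ := trans a ha
      refine ⟨d, hd, d⁻¹ * a, Subgroup.mem_centralizer_singleton_iff.2 ?_, (mul_inv_cancel_left d a).symm⟩
      calc d⁻¹ * a * L.h.e zI = d⁻¹ * (a * L.h.e zI * a⁻¹) * a := by group
        _ = L.h.e zI * (d⁻¹ * a) := by rw [← e]; group
    let A : Subgroup L.G0 := K.subgroupOf L.G0
    let C : Subgroup L.G0 := (Subgroup.centralizer ({L.h.e zI} : Set G)).subgroupOf L.G0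
    have hC : Nat.card C = 576 := by
      rw [Nat.card_congr (Subgroup.subgroupOfEquivOfLe fun g hg =>
        L.cent_le (Subgroup.mem_centralizer_singleton_iff.1 hg)).toEquiv, L.card_cent]
    have hA : Nat.card A = Nat.card K :=
      Nat.card_congr (Subgroup.subgroupOfEquivOfLe inf_le_left).toEquiv
    have horb : MulAction.orbit A ((1 : L.G0) : L.G0 ⧸ C) = Set.univ := by
      refine Set.eq_univ_of_forall fun q => ?_
      induction q using QuotientGroup.induction_on with | _ a =>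
      obtain ⟨d, hd, c, hc, e⟩ := hsup a a.2
      refine ⟨⟨⟨d, (Subgroup.mem_inf.1 hd).1⟩, hd⟩, ?_⟩
      show (((⟨d, (Subgroup.mem_inf.1 hd).1⟩ : L.G0) * 1 : L.G0) : L.G0 ⧸ C) = _
      rw [mul_one, QuotientGroup.eq]
      show d⁻¹ * (a : G) ∈ Subgroup.centralizer ({L.h.e zI} : Set G)
      rw [e, inv_mul_cancel_left]
      exact hc
    have h1 : Nat.card (L.G0 ⧸ C) ∣ Nat.card A := by
      have e1 := Nat.card_congr (MulAction.orbitEquivQuotientStabilizer A ((1 : L.G0) : L.G0 ⧸ C))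
      rw [horb, Nat.card_congr (Equiv.Set.univ _)] at e1
      rw [e1]
      exact Subgroup.card_quotient_dvd_card _
    have h2 := C.card_eq_card_quotient_mul_card_subgroup
    rw [hC, L.card_G0 φ] at h2
    rw [h2, ← hA]
    exact Nat.mul_dvd_mul_right h1 576
  have hK7 : 7 ∣ Nat.card K := by
    have : 7 ∣ Nat.card K * 576 := Dvd.dvd.trans (by norm_num) hdiv
    exact (Nat.Coprime.dvd_of_dvd_mul_right (by norm_num) this)
  have hK13 : 13 ∣ Nat.card K := by
    have : 13 ∣ Nat.card K * 576 := Dvd.dvd.trans (by norm_num) hdiv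
    exact (Nat.Coprime.dvd_of_dvd_mul_right (by norm_num) this)
  have hKd : Nat.card K ∣ 2 ^ 6 * 3 ^ 6 * 7 * 13 :=
    L.card_G0 φ ▸ Subgroup.card_dvd_of_le inf_le_left
  -- the order of the odd subgroup
  obtain ⟨j, hj, hcard⟩ : ∃ j ≤ 6, Nat.card K = 3 ^ j * 7 * 13 := by
    have hcop : (Nat.card K).Coprime (2 ^ 6) := (Nat.coprime_two_right.2 hKodd).pow_right 6
    have h1 : Nat.card K ∣ 3 ^ 6 * 7 * 13 := hcop.dvd_of_dvd_mul_left (by
      rw [show 2 ^ 6 * (3 ^ 6 * 7 * 13) = 2 ^ 6 * 3 ^ 6 * 7 * 13 by ring]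
      exact hKd)
    obtain ⟨m, hm⟩ : 7 * 13 ∣ Nat.card K := Nat.Coprime.mul_dvd_of_dvd_of_dvd (by norm_num) hK7 hK13
    rw [hm, show 3 ^ 6 * 7 * 13 = 7 * 13 * 3 ^ 6 by norm_num] at h1
    obtain ⟨j, hj, rfl⟩ := (Nat.dvd_prime_pow Nat.prime_three).1 (Nat.dvd_of_mul_dvd_mul_left (by norm_num) h1)
    exact ⟨j, hj, by rw [hm]; ring⟩
  haveI : Fact (Nat.Prime 13) := ⟨by norm_num⟩
  haveI : Fact (Nat.Prime 7) := ⟨by norm_num⟩
  obtain ⟨P⟩ : Nonempty (Sylow 13 K) := inferInstance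
  have hnorm7 : 7 ∣ Nat.card (Subgroup.normalizer ((P : Subgroup K) : Set K)) := by
    have hn : Nat.card (Sylow 13 K) ≡ 1 [MOD 13] := card_sylow_modEq_one 13 K
    have hidx : Nat.card (Sylow 13 K) = (Subgroup.normalizer ((P : Subgroup K) : Set K)).index :=
      P.card_eq_index_normalizer
    have hmul : Nat.card (Subgroup.normalizer ((P : Subgroup K) : Set K)) * Nat.card (Sylow 13 K) =
        3 ^ j * 7 * 13 := by rw [hidx, Subgroup.card_mul_index, hcard]
    by_contra h7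
    have hd : 7 ∣ Nat.card (Sylow 13 K) := by
      have : 7 ∣ Nat.card (Subgroup.normalizer ((P : Subgroup K) : Set K)) * Nat.card (Sylow 13 K) :=
        ⟨3 ^ j * 13, by rw [hmul]; ring⟩
      exact ((Nat.Prime.dvd_mul (by norm_num)).1 this).resolve_left h7
    have hd3 : Nat.card (Sylow 13 K) ∣ 3 ^ j * 7 := by
      have h13 : (Nat.card (Sylow 13 K)).Coprime 13 := by
        refine Nat.Coprime.symm ((Nat.Prime.coprime_iff_not_dvd (by norm_num)).2 fun h => ?_)
        rw [Nat.ModEq, Nat.mod_eq_zero_of_dvd h] at hn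
        omega
      exact h13.dvd_of_dvd_mul_right (Dvd.intro_left _ hmul)
    obtain ⟨m, hm⟩ := hd
    have hm3 : m ∣ 3 ^ j := by
      rw [hm, mul_comm (3 ^ j)] at hd3
      exact Nat.dvd_of_mul_dvd_mul_left (by norm_num) hd3
    obtain ⟨i, hi, rfl⟩ := (Nat.dvd_prime_pow Nat.prime_three).1 hm3
    rw [hm, Nat.ModEq] at hn
    have : i ≤ 6 := hi.trans hj
    interval_cases i <;> norm_num at hn
  obtain ⟨⟨b, hb⟩, hb7⟩ := exists_prime_orderOf_dvd_card' 7 hnorm7
  rw [Subgroup.orderOf_mk] at hb7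
  have hP13 : Nat.card (P : Subgroup K) = 13 := by
    rw [P.card_eq_multiplicity, hcard, Nat.factorization_mul (by positivity) (by norm_num),
      Nat.factorization_mul (by positivity) (by norm_num)]
    simp [Nat.Prime.factorization_pow Nat.prime_three, Nat.Prime.factorization_self (show Nat.Prime 13 by norm_num),
      Nat.factorization_eq_zero_of_not_dvd (show ¬ 13 ∣ 7 by norm_num)]
  haveI : IsCyclic (P : Subgroup K) := isCyclic_of_prime_card hP13
  obtain ⟨⟨c, hc⟩, hcg⟩ := IsCyclic.exists_generator (α := (P : Subgroup K))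
  have hc13 : orderOf c = 13 := by
    rw [← Subgroup.orderOf_mk c hc, orderOf_eq_card_of_forall_mem_zpowers hcg, hP13]
  have hcomm : Commute b c := by
    obtain ⟨k, hk⟩ := hcg ⟨b * c * b⁻¹, ((Subgroup.mem_normalizer_iff.1 hb) c).1 hc⟩
    have hk' : c ^ k = b * c * b⁻¹ := congrArg Subtype.val hk
    obtain ⟨n, hn⟩ : ∃ n : ℕ, c ^ n = b * c * b⁻¹ :=
      ((isOfFinOrder_of_finite c).mem_powers_iff_mem_zpowers.2 ⟨k, hk'⟩)
    have iter : ∀ m : ℕ, b ^ m * c * (b ^ m)⁻¹ = c ^ (n ^ m) := by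
      intro m
      induction m with
      | zero => simp
      | succ m ih =>
        calc b ^ (m + 1) * c * (b ^ (m + 1))⁻¹ = b * (b ^ m * c * (b ^ m)⁻¹) * b⁻¹ := by rw [pow_succ']; group
          _ = (b * c * b⁻¹) ^ (n ^ m) := by rw [ih, _root_.conj_pow]
          _ = c ^ (n ^ (m + 1)) := by rw [← hn, ← pow_mul, ← pow_succ']
    have h7 := iter 7
    rw [← hb7, pow_orderOf_eq_one, hb7, one_mul, inv_one, mul_one] at h7
    have e : c ^ (n ^ 7) = c ^ 1 := by rw [pow_one]; exact h7.symm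
    rw [pow_inj_mod, hc13] at e
    have hn1 : n % 13 = 1 := by
      rw [Nat.pow_mod] at e
      have key : ∀ r < 13, r ^ 7 % 13 = 1 % 13 → r = 1 := by decide
      exact key _ (Nat.mod_lt n (by norm_num)) e
    have : c ^ n = c := by
      conv_rhs => rw [← pow_one c]
      rw [pow_inj_mod, hc13, hn1]
    rw [this] at hn
    exact mul_inv_eq_iff_eq_mul.1 hn.symm
  have h91 : orderOf (c * b) = 13 * 7 := by
    rw [hcomm.symm.orderOf_mul_eq_mul_orderOf_of_coprime (by rw [hc13, hb7]; norm_num), hc13, hb7]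
  refine no_adj_seven_thirteen ⟨φ.symm ⟨((c * b : K) : G), (Subgroup.mem_inf.1 (c * b).2).1⟩, ?_⟩
  rw [MulEquiv.orderOf_eq, Subgroup.orderOf_mk]
  exact (orderOf_injective K.subtype Subtype.coe_injective (c * b)).trans h91

end Loc

end Cfsg.Agent.Invol.G23Two
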