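import Cfsg.Agent.Lib.Invol.G23Two.Diag
import Cfsg.Agent.Lib.Invol.G23Two.Whole
import Cfsg.Agent.Lib.Invol.G23Two.Theta

/-!
# The case of small centralisers of elements of order three: the group theory

Elements of the centraliser of the involution whose order is divisible by three are fused only inside it, all
involutions are conjugate, and the index of the centraliser is odd, prime to three and divisible by seven.
-/

set_option autoImplicit false
set_option linter.unusedSectionVars false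
set_option linter.style.haveILetI false
set_option maxRecDepth 20000

namespace Cfsg.Agent.Invol.G23Two

open Cfsg.Agent.Invol.PSp43 (beq_iff)

theorem four_ok : pw 4 3 = 0 := by decide +kernel

theorem mem_invL {p : ℕ} : p ∈ invL ↔ p < 576 ∧ mL p p = 0 ∧ p ≠ 0 := by
  simp [invL, List.mem_filter, List.mem_range, beq_iff, ← Bool.not_eq_true]

namespace Loc

variable {G : Type*} [Group G] [Finite G] (L : Loc G)

/-- The centralisers of both elements of order three are small. -/
def Small : Prop := (∀ g : G, Commute g (L.h.e xI) → Commute g (L.h.e zI)) ∧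
  ∀ g : G, Commute g (L.h.e yI) → Commute g (L.h.e zI)

theorem z_inv : orderOf (L.h.e zI) = 2 := L.h.ord_two (by norm_num) (by norm_num) (by decide +kernel)

theorem ti (hS : L.Small) {i : ℕ} (hi : i < 576) (i0 : i ≠ 0) (i3 : pw i 3 = 0) {g : G}
    (hj : Commute (g * L.h.e i * g⁻¹) (L.h.e zI)) : Commute g (L.h.e zI) := by
  obtain ⟨j, lj, ej⟩ := L.h.mem_cent hj.eq
  have j0 : j ≠ 0 := fun e => i0 ((L.h.e_eq_one hi).1 (by
    rw [e, L.h.e_zero] at ej
    calc L.h.e i = g⁻¹ * (g * L.h.e i * g⁻¹) * g := by group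
      _ = 1 := by rw [← ej]; group))
  have j3 : pw j 3 = 0 := L.h.inj _ (pw_lt j 3) 0 (by norm_num) (by
    rw [L.h.e_pow lj, ej, _root_.conj_pow, ← L.h.e_pow hi, i3, L.h.e_zero]; group)
  have hw : Commute (g * L.h.e zI * g⁻¹) (L.h.e j) := by
    rw [ej]
    exact Commute.map (show Commute (L.h.e zI) (L.h.e i) from (L.h.e_comm_z hi).symm) (MulAut.conj g).toMonoidHom
  obtain ⟨k, lk, ek⟩ := L.h.mem_cent (L.cent_three hS.1 hS.2 lj j0 j3 hw).eq
  have hsq : mL k k = 0 := L.h.inj _ (mL_lt _ _) 0 (by norm_num) (by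
    rw [L.h.mul k lk k lk, ek, L.h.e_zero]
    calc g * L.h.e zI * g⁻¹ * (g * L.h.e zI * g⁻¹) = g * (L.h.e zI * L.h.e zI) * g⁻¹ := by group
      _ = 1 := by rw [L.z2]; group)
  have k0 : k ≠ 0 := fun e => by
    rw [e, L.h.e_zero] at ek
    have : L.h.e zI = 1 := by
      calc L.h.e zI = g⁻¹ * (g * L.h.e zI * g⁻¹) * g := by group
        _ = 1 := by rw [← ek]; group
    exact absurd ((L.h.e_eq_one (by norm_num)).1 this) (by norm_num)
  have hcom : com k j = true := (L.h.com_iff lk lj).1 (by rw [ek]; exact hw.eq)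
  have h := diag_ok.2.2.2.1
  simp only [List.all_eq_true, List.mem_range, Bool.or_eq_true, Bool.not_eq_true'] at h
  rcases h j lj with (r | r) | r
  · exact absurd (beq_iff.1 r) j0
  · rw [beq_iff.2 j3] at r; exact absurd r Bool.noConfusion
  rcases r k lk with ((r | r) | r) | r
  · rw [beq_iff.2 hsq] at r; exact absurd r Bool.noConfusion
  · exact absurd (beq_iff.1 r) k0
  · rw [beq_iff.1 r] at ek
    show g * L.h.e zI = L.h.e zI * g
    exact mul_inv_eq_iff_eq_mul.1 ek.symm
  · rw [hcom] at r; exact absurd r Bool.noConfusion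

theorem ti_supp (hS : L.Small) {s : ℕ} (ls : s < 576) (hs : the s ≠ 0) {g : G}
    (hj : Commute (g * L.h.e s * g⁻¹) (L.h.e zI)) : Commute g (L.h.e zI) := by
  have h := the_ok.1
  simp only [List.all_eq_true, List.mem_range, Bool.or_eq_true, Bool.and_eq_true, Bool.not_eq_true',
    List.any_eq_true] at h
  rcases h s ls with r | ⟨-, n, -, r0, r3⟩
  · exact absurd (beq_iff.1 r) hs
  refine L.ti hS (pw_lt s n) (fun e => by rw [beq_iff.2 e] at r0; exact Bool.noConfusion r0) (beq_iff.1 r3) ?_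
  rw [L.h.e_pow ls, ← _root_.conj_pow]
  exact hj.pow_left n

theorem inv_conj {x : G} (hx : orderOf x = 2) (hc : Commute x (L.h.e zI)) : ∃ a, x = a * L.h.e zI * a⁻¹ := by
  obtain ⟨i, hi, rfl⟩ := L.h.mem_cent hc.eq
  have h := fusion_ok
  simp only [List.all_eq_true, List.mem_range, Bool.or_eq_true, Bool.not_eq_true', List.contains_iff_mem] at h
  rcases h i hi with (r | r) | r
  · exfalso
    rw [beq_iff.1 r, L.h.e_zero, orderOf_one] at hx
    norm_num at hx
  · exfalso
    have : mL i i = 0 := by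
      refine L.h.inj _ (mL_lt _ _) 0 (by norm_num) ?_
      rw [L.h.mul i hi i hi, L.h.e_zero, Cfsg.Agent.Invol.mul_self_of_orderOf_two hx]
    rw [beq_iff.2 this] at r
    exact Bool.noConfusion r
  · obtain ⟨-, a, -, e⟩ := L.mem_fiter 9 i r
    exact ⟨a, e⟩

theorem conj_cent {a x : G} (hx : Commute x (a * L.h.e zI * a⁻¹)) : Commute (a⁻¹ * x * a) (L.h.e zI) := by
  show a⁻¹ * x * a * L.h.e zI = L.h.e zI * (a⁻¹ * x * a)
  calc a⁻¹ * x * a * L.h.e zI = a⁻¹ * (x * (a * L.h.e zI * a⁻¹)) * a := by group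
    _ = _ := by rw [hx.eq]; group

theorem two_part : ¬ 2 ∣ L.Cz.index ∧ ∀ x : G, orderOf x = 2 → ∃ a, x = a * L.h.e zI * a⁻¹ := by
  haveI : Fact (Nat.Prime 2) := ⟨Nat.prime_two⟩
  have hpg : IsPGroup 2 (Subgroup.zpowers (L.h.e zI)) :=
    IsPGroup.of_card (n := 1) (by rw [Nat.card_zpowers, L.z_inv, pow_one])
  obtain ⟨P, hP⟩ := hpg.exists_le_sylow
  have hzP := hP (Subgroup.mem_zpowers (L.h.e zI))
  haveI : Nontrivial (P : Subgroup G) :=
    ⟨⟨⟨_, hzP⟩, 1, fun e => Cfsg.Agent.Invol.ne_one_of_orderOf_two L.z_inv (congrArg Subtype.val e)⟩⟩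
  haveI := P.2.center_nontrivial
  obtain ⟨ζ, hζ⟩ := exists_prime_orderOf_dvd_card' (G := Subgroup.center (P : Subgroup G)) 2 (by
    obtain ⟨k, hk⟩ := IsPGroup.iff_card.1 (P.2.to_subgroup (Subgroup.center (P : Subgroup G)))
    rw [hk]
    refine dvd_pow_self 2 fun e => ?_
    rw [e, pow_zero] at hk
    have := Finite.one_lt_card (α := Subgroup.center (P : Subgroup G))
    omega)
  have hcen : ∀ w : G, w ∈ (P : Subgroup G) → Commute w ((ζ : (P : Subgroup G)) : G) := fun w hw =>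
    congrArg Subtype.val (Subgroup.mem_center_iff.1 ζ.2 ⟨w, hw⟩)
  have hζ2 : orderOf ((ζ : (P : Subgroup G)) : G) = 2 :=
    (orderOf_injective ((P : Subgroup G).subtype.comp (Subgroup.center (P : Subgroup G)).subtype)
      (Subtype.coe_injective.comp Subtype.coe_injective) ζ).trans hζ
  obtain ⟨a, ha⟩ := L.inv_conj hζ2 (hcen _ hzP).symm
  have hin : ∀ w ∈ (P : Subgroup G), Commute (a⁻¹ * w * a) (L.h.e zI) := fun w hw =>
    L.conj_cent (by rw [← ha]; exact hcen w hw)
  refine ⟨fun h2 => ?_, fun x hx => ?_⟩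
  · have hle : (P : Subgroup G).map (MulAut.conj a⁻¹).toMonoidHom ≤ L.Cz := by
      rintro _ ⟨w, hw, rfl⟩
      refine L.mem_Cz.2 ?_
      show Commute (a⁻¹ * w * a⁻¹⁻¹) _
      rw [inv_inv]
      exact hin w hw
    have hd := Subgroup.card_dvd_of_le hle
    rw [Subgroup.card_map_of_injective (MulAut.conj a⁻¹).injective, L.card_Cz] at hd
    obtain ⟨r, hr⟩ := h2
    have h7 : 2 ^ 7 ∣ Nat.card P := P.pow_dvd_card_of_pow_dvd_card (by
      rw [← L.Cz.index_mul_card, L.card_Cz, hr]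
      exact ⟨r * 9, by ring⟩)
    exact absurd (h7.trans hd) (by norm_num)
  · have hxg : IsPGroup 2 (Subgroup.zpowers x) :=
      IsPGroup.of_card (n := 1) (by rw [Nat.card_zpowers, hx, pow_one])
    obtain ⟨Q, hQ⟩ := hxg.exists_le_sylow
    obtain ⟨g, hg⟩ := MulAction.exists_smul_eq G Q P
    have hmem : g * x * g⁻¹ ∈ (P : Subgroup G) := by
      rw [← hg, Sylow.smul_def]
      exact ⟨x, hQ (Subgroup.mem_zpowers _), rfl⟩
    obtain ⟨b, hb⟩ := L.inv_conj
      (show orderOf (a⁻¹ * (g * x * g⁻¹) * a) = 2 by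
        rw [show a⁻¹ * (g * x * g⁻¹) * a = (a⁻¹ * g) * x * (a⁻¹ * g)⁻¹ by group,
          Cfsg.Agent.Invol.orderOf_conj_eq, hx]) (hin _ hmem)
    refine ⟨g⁻¹ * a * b, ?_⟩
    calc x = g⁻¹ * a * (a⁻¹ * (g * x * g⁻¹) * a) * a⁻¹ * g := by group
      _ = _ := by rw [hb]; group

theorem index_mod_three (hS : L.Small) : L.Cz.index % 3 = 1 := by
  haveI : Fact (Nat.Prime 3) := ⟨Nat.prime_three⟩
  set y := L.h.e 4 with hy
  have h3 : y ^ 3 = 1 := by rw [hy, ← L.h.e_pow (by norm_num), four_ok, L.h.e_zero]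
  have hord : orderOf y = 3 := orderOf_eq_prime h3 fun e =>
    absurd ((L.h.e_eq_one (by norm_num)).1 e) (by norm_num)
  have hpg : IsPGroup 3 (Subgroup.zpowers y) :=
    IsPGroup.of_card (n := 1) (by rw [Nat.card_zpowers, hord, pow_one])
  have h := hpg.card_modEq_card_fixedPoints (G ⧸ L.Cz)
  have hfix : MulAction.fixedPoints (Subgroup.zpowers y) (G ⧸ L.Cz) = {((1 : G) : G ⧸ L.Cz)} := by
    ext q
    induction q using QuotientGroup.induction_on with | _ g =>
    constructor
    · intro hq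
      have e : (((y * g : G)) : G ⧸ L.Cz) = (g : G ⧸ L.Cz) := hq ⟨y, Subgroup.mem_zpowers y⟩
      rw [QuotientGroup.eq, ← inv_mem_iff, L.mem_Cz] at e
      have h1 : Commute (g⁻¹ * L.h.e 4 * g⁻¹⁻¹) (L.h.e zI) := by
        rw [show g⁻¹ * L.h.e 4 * g⁻¹⁻¹ = ((y * g)⁻¹ * g)⁻¹ by rw [hy]; group]
        exact e
      have h2 := L.ti hS (by norm_num) (by norm_num) four_ok h1
      refine QuotientGroup.eq.2 (L.mem_Cz.2 ?_)
      rw [mul_one]
      exact h2
    · intro hq c
      obtain ⟨c, hc⟩ := c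
      obtain ⟨n, rfl⟩ := hc
      rw [Set.mem_singleton_iff] at hq
      rw [hq]
      show ((y ^ n * 1 : G) : G ⧸ L.Cz) = _
      rw [mul_one, QuotientGroup.eq, mul_one]
      exact inv_mem (Subgroup.zpow_mem _ (L.mem_Cz.2 (L.h.e_comm_z (by norm_num))) _)
  rw [hfix, Nat.card_coe_set_eq, Set.ncard_singleton] at h
  rw [Subgroup.index_eq_card]
  exact h

theorem seven_dvd : 7 ∣ L.Cz.index := by
  have h := L.Cz.index_mul_card
  rw [L.card_Cz] at h
  have h2 : Nat.card L.M ∣ Nat.card G := Subgroup.card_subgroup_dvd_card L.M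
  rw [L.eight.cardM, ← h] at h2
  exact (show Nat.Coprime 7 576 by norm_num).dvd_of_dvd_mul_right (Dvd.dvd.trans (by norm_num) h2)

theorem three_conj (hS : L.Small) {x : G} (hx : orderOf x = 3) :
    ∃ a : G, Commute (a * x * a⁻¹) (L.h.e zI) := by
  haveI : Fact (Nat.Prime 3) := ⟨Nat.prime_three⟩
  have hm := L.index_mod_three hS
  obtain ⟨S, hS9⟩ := Sylow.exists_subgroup_card_pow_prime (G := L.Cz) 3 (n := 2) (by rw [L.card_Cz]; norm_num)
  have hfac : (Nat.card G).factorization 3 = 2 := by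
    rw [← L.Cz.index_mul_card, L.card_Cz, Nat.factorization_mul (by omega) (by norm_num), Finsupp.add_apply,
      Nat.factorization_eq_zero_of_not_dvd (show ¬ 3 ∣ L.Cz.index by omega), zero_add,
      show (576 : ℕ) = 3 ^ 2 * 64 by norm_num, Nat.factorization_mul (by norm_num) (by norm_num), Finsupp.add_apply,
      Nat.Prime.factorization_pow Nat.prime_three, Finsupp.single_eq_same,
      Nat.factorization_eq_zero_of_not_dvd (show ¬ 3 ∣ 64 by norm_num)]
  let P : Sylow 3 G := Sylow.ofCard (S.map L.Cz.subtype) (by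
    rw [Subgroup.card_map_of_injective Subtype.coe_injective, hS9, hfac])
  have hxg : IsPGroup 3 (Subgroup.zpowers x) :=
    IsPGroup.of_card (n := 1) (by rw [Nat.card_zpowers, hx, pow_one])
  obtain ⟨Q, hQ⟩ := hxg.exists_le_sylow
  obtain ⟨g, hg⟩ := MulAction.exists_smul_eq G Q P
  have hmem : g * x * g⁻¹ ∈ (P : Subgroup G) := by
    rw [← hg, Sylow.smul_def]
    exact ⟨x, hQ (Subgroup.mem_zpowers _), rfl⟩
  obtain ⟨c, -, hc⟩ : g * x * g⁻¹ ∈ S.map L.Cz.subtype := hmem
  exact ⟨g, L.mem_Cz.1 (hc ▸ c.2)⟩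

/-- An element of prime order at least five has a centraliser of order prime to six. -/
theorem cent_big (hS : L.Small) {p : ℕ} (hp : p.Prime) (h5 : 5 ≤ p) {y : G} (hy : orderOf y = p) {x : G}
    (hxy : Commute x y) : orderOf x ≠ 2 ∧ orderOf x ≠ 3 := by
  have small : ∀ a : G, ¬ Commute (a * y * a⁻¹) (L.h.e zI) := fun a hc => by
    have hd := Subgroup.orderOf_dvd_natCard L.Cz (L.mem_Cz.2 hc)
    rw [Cfsg.Agent.Invol.orderOf_conj_eq, hy, L.card_Cz] at hd
    have : p ∣ 2 ^ 6 * 3 ^ 2 := by norm_num; exact hd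
    rcases (Nat.Prime.dvd_mul hp).1 this with h | h <;>
      have := Nat.le_of_dvd (by norm_num) (hp.dvd_of_dvd_pow h) <;> omega
  refine ⟨fun h2 => ?_, fun h3 => ?_⟩
  · obtain ⟨a, rfl⟩ := L.two_part.2 x h2
    refine small a⁻¹ ?_
    rw [inv_inv]
    exact L.conj_cent hxy.symm
  · obtain ⟨a, ha⟩ := L.three_conj hS h3
    obtain ⟨i, hi, ei⟩ := L.h.mem_cent ha.eq
    have i0 : i ≠ 0 := fun e => by
      rw [e, L.h.e_zero] at ei
      have h1 : x = 1 := by
        calc x = a⁻¹ * (a * x * a⁻¹) * a := by group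
          _ = 1 := by rw [← ei]; group
      rw [h1, orderOf_one] at h3
      omega
    have i3 : pw i 3 = 0 := L.h.inj _ (pw_lt i 3) 0 (by norm_num) (by
      rw [L.h.e_pow hi, ei, L.h.e_zero, _root_.conj_pow, ← h3, pow_orderOf_eq_one]; group)
    refine small a (L.cent_three hS.1 hS.2 hi i0 i3 ?_)
    rw [ei]
    exact Commute.map hxy.symm (MulAut.conj a).toMonoidHom

theorem no_sylow (hS : L.Small) {p k : ℕ} (hp : p.Prime) (h5 : 5 ≤ p) (hk : L.Cz.index = p * k) (hpk : ¬ p ∣ k)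
    (hcheck : ∀ e < k * Nat.gcd (p - 1) 576 + 1, k * Nat.gcd (p - 1) 576 % e = 0 → 576 * k / e % p ≠ 1) :
    False := by
  haveI : Fact p.Prime := ⟨hp⟩
  have hcG : Nat.card G = p * k * 576 := by rw [← L.Cz.index_mul_card, L.card_Cz, hk]
  have hk0 : k ≠ 0 := fun e => hpk (e ▸ dvd_zero p)
  obtain ⟨P⟩ : Nonempty (Sylow p G) := inferInstance
  have hP : Nat.card (P : Subgroup G) = p := by
    rw [P.card_eq_multiplicity, hcG, Nat.factorization_mul (Nat.mul_ne_zero hp.ne_zero hk0) (by norm_num),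
      Finsupp.add_apply, Nat.factorization_mul hp.ne_zero hk0, Finsupp.add_apply, hp.factorization_self,
      Nat.factorization_eq_zero_of_not_dvd hpk,
      Nat.factorization_eq_zero_of_not_dvd (show ¬ p ∣ 576 from fun h => ?_), pow_one]
    have : p ∣ 2 ^ 6 * 3 ^ 2 := by norm_num; exact h
    rcases (Nat.Prime.dvd_mul hp).1 this with h | h <;>
      have := Nat.le_of_dvd (by norm_num) (hp.dvd_of_dvd_pow h) <;> omega
  haveI : IsCyclic (P : Subgroup G) := isCyclic_of_prime_card hP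
  obtain ⟨y, hy⟩ := exists_prime_orderOf_dvd_card' (G := (P : Subgroup G)) p (by rw [hP])
  set C := Subgroup.centralizer ((P : Subgroup G) : Set G) with hC
  set N := Subgroup.normalizer ((P : Subgroup G) : Set G) with hN
  have hCno : ∀ q, (q = 2 ∨ q = 3) → ¬ q ∣ Nat.card C := by
    intro q hq hd
    haveI : Fact q.Prime := ⟨by rcases hq with rfl | rfl <;> norm_num⟩
    obtain ⟨c, hc⟩ := exists_prime_orderOf_dvd_card' (G := C) q hd
    have hxy : Commute (c : G) (y : G) := (c.2 (y : G) y.2).symm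
    have := L.cent_big hS hp h5 (y := (y : G)) (by rw [Subgroup.orderOf_coe, hy]) hxy
    rw [Subgroup.orderOf_coe, hc] at this
    omega
  have hC1 : Nat.card C ∣ p * k := by
    have hcop : (Nat.card C).Coprime 576 := by
      rw [show (576 : ℕ) = 2 ^ 6 * 3 ^ 2 by norm_num]
      refine Nat.Coprime.mul_right (Nat.Coprime.pow_right 6 ?_) (Nat.Coprime.pow_right 2 ?_)
      · exact (Nat.prime_two.coprime_iff_not_dvd.2 (hCno 2 (Or.inl rfl))).symm
      · exact (Nat.prime_three.coprime_iff_not_dvd.2 (hCno 3 (Or.inr rfl))).symm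
    exact hcop.dvd_of_dvd_mul_right (hcG ▸ Subgroup.card_subgroup_dvd_card C)
  have hNC : Nat.card N ∣ Nat.card C * (p - 1) := by
    have h1 : (C.subgroupOf N).index ∣ p - 1 := by
      have h := Subgroup.card_dvd_of_injective _
        (QuotientGroup.kerLift_injective (P : Subgroup G).normalizerMonoidHom)
      rw [Subgroup.normalizerMonoidHom_ker, IsCyclic.card_mulAut, hP, Nat.totient_prime hp] at h
      exact h
    rw [← (C.subgroupOf N).card_mul_index]
    refine mul_dvd_mul (dvd_of_eq (Nat.card_congr (Subgroup.subgroupOfEquivOfLe ?_).toEquiv)) h1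
    exact Subgroup.centralizer_le_normalizer _
  have hPN : p ∣ Nat.card N := by
    have := Subgroup.card_dvd_of_le (show (P : Subgroup G) ≤ N from Subgroup.le_normalizer)
    rwa [hP] at this
  obtain ⟨e, he⟩ := hPN
  have he1 : e ∣ k * (p - 1) := by
    have := hNC.trans (Nat.mul_dvd_mul_right hC1 (p - 1))
    rw [he, Nat.mul_assoc] at this
    exact Nat.dvd_of_mul_dvd_mul_left hp.pos this
  have hmul : N.index * e = k * 576 := by
    have h := N.index_mul_card
    rw [hcG, he] at h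
    refine Nat.eq_of_mul_eq_mul_left hp.pos ?_
    calc p * (N.index * e) = N.index * (p * e) := by ring
      _ = p * (k * 576) := by rw [h]; ring
  have he2 : e ∣ k * Nat.gcd (p - 1) 576 := by
    rw [← Nat.gcd_mul_left]
    exact Nat.dvd_gcd he1 (Dvd.intro_left _ hmul)
  have hn : Nat.card (Sylow p G) ≡ 1 [MOD p] := card_sylow_modEq_one p G
  rw [P.card_eq_index_normalizer] at hn
  change N.index ≡ 1 [MOD p] at hn
  rw [Nat.ModEq, Nat.mod_eq_of_lt hp.one_lt] at hn
  have he0 : 0 < e := by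
    rcases Nat.eq_zero_or_pos e with r | r
    · rw [r, mul_zero] at hmul; omega
    · exact r
  refine hcheck e (Nat.lt_succ_of_le (Nat.le_of_dvd ?_ he2)) (Nat.mod_eq_zero_of_dvd he2) ?_
  · exact Nat.mul_pos (Nat.pos_of_ne_zero hk0) (Nat.gcd_pos_of_pos_right _ (by norm_num))
  · rw [mul_comm, ← hmul, Nat.mul_div_cancel _ he0, hn]

end Loc

end Cfsg.Agent.Invol.G23Two
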