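import Cfsg.Agent.Lib.Invol.G23Two.Shape

/-! The hypotheses give the table, with the second subgroup over its elementary group. -/

set_option autoImplicit false
set_option linter.unusedSectionVars false
set_option linter.style.haveILetI false
set_option maxRecDepth 20000

namespace Cfsg.Agent.Invol.G23Two

open Cfsg.Agent.Invol.PSp43 (mt ivs ngs sa sb se sa_lt sb_lt se_lt mt_lt ivs_lt beq_iff)

variable {G : Type*} [Group G] [Finite G]

namespace Eight

variable {M V : Subgroup G} (h : Eight M V)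

include h

theorem tri_zero (a b c : G) : tri a b c (0 : Fin 8) = 1 := by simp [tri]

/-- An element fixed by a transvection pair is a power of the second basis element. -/
theorem fixed_cases {a b c u w : G} (hB : Basis8 a b c) (ha : a ∈ V) (hb : b ∈ V) (hc : c ∈ V)
    (ea : u * a * u⁻¹ = a * b) (eb : u * b * u⁻¹ = b) (ec : u * c * u⁻¹ = c * a)
    (hw : w ∈ V) (ew : u * w * u⁻¹ = w) : w = 1 ∨ w = b := by
  obtain ⟨i, rfl⟩ := h.exists_tri hB ha hb hc hw
  set t := tri a b c with ht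
  have t3 : t 3 = a * b := by simp [ht, tri]
  have t2 : t 2 = b := by simp [ht, tri]
  have t5 : t 5 = c * a := by
    rw [h.comm c hc a ha]; simp [ht, tri]
  have hif : ∀ (P : Prop) [Decidable P] (p : Fin 8), (if P then t p else 1) = t (if P then p else 0) := by
    intro P _ p
    by_cases hP : P <;> simp [hP, ht, tri]
  let x : Fin 8 → Fin 8 := fun i => if (i : ℕ) % 2 = 1 then 3 else 0
  let y : Fin 8 → Fin 8 := fun i => if (i : ℕ) / 2 % 2 = 1 then 2 else 0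
  let r : Fin 8 → Fin 8 := fun i => if (i : ℕ) / 4 % 2 = 1 then 5 else 0
  have e : u * t i * u⁻¹ = t (x i) * t (y i) * t (r i) := by
    have split : ∀ p q s : G, u * (p * q * s) * u⁻¹ = (u * p * u⁻¹) * (u * q * u⁻¹) * (u * s * u⁻¹) := fun p q s => by
      group
    have one : ∀ (P : Prop) [Decidable P] (v : G), u * (if P then v else 1) * u⁻¹ = if P then u * v * u⁻¹ else 1 := by
      intro P _ v
      by_cases hP : P <;> simp [hP]
    conv_lhs => rw [ht, tri]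
    rw [split, one, one, one, ea, eb, ec, ← t3, ← t2, ← t5, hif, hif, hif]
  let k1 : Fin 8 := ⟨Nat.xor (x i) (y i), Nat.xor_lt_two_pow (n := 3) (x i).isLt (y i).isLt⟩
  let k2 : Fin 8 := ⟨Nat.xor k1 (r i), Nat.xor_lt_two_pow (n := 3) k1.isLt (r i).isLt⟩
  rw [e, h.tri_mul ha hb hc _ _ k1 rfl, h.tri_mul ha hb hc _ _ k2 rfl] at ew
  have hk : (k2 : ℕ) = i := congrArg Fin.val (h.tri_injective hB ha hb hc ew)
  have key : ∀ i : Fin 8, Nat.xor (Nat.xor (x i) (y i)) (r i) = i → i = 0 ∨ i = 2 := by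
    decide +kernel
  rcases key i hk with rfl | rfl
  · exact Or.inl (h.tri_zero a b c)
  · exact Or.inr t2

end Eight

/-- The table and the second subgroup. -/
theorem exists_setting (H H₁ H₂ M : Subgroup G) (h1 : H₁ ≤ H) (h2 : H₂ ≤ H)
    (hn1 : (H₁.subgroupOf H).Normal) (hn2 : (H₂.subgroupOf H).Normal)
    (hiso1 : Nonempty (↥H₁ ≃* Matrix.SpecialLinearGroup (Fin 2) (ZMod 3)))
    (hiso2 : Nonempty (↥H₂ ≃* Matrix.SpecialLinearGroup (Fin 2) (ZMod 3)))
    (hidx : (H₁ ⊔ H₂).relIndex H = 2) (hint1 : H₁ ⊓ H₂ = H₁ ⊓ Subgroup.centralizer (H₁ : Set G))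
    (hint2 : H₁ ⊓ H₂ = H₂ ⊓ Subgroup.centralizer (H₂ : Set G))
    (hHC : H = Subgroup.centralizer ((H₁ ⊓ H₂ : Subgroup G) : Set G)) [hOM : (Cfsg.pCore 2 ↥M).Normal]
    (hM : Nonempty ((↥M ⧸ Cfsg.pCore 2 ↥M) ≃* Matrix.SpecialLinearGroup (Fin 3) (ZMod 2)))
    (hOel : Cfsg.IsElementaryAbelian 2 (Cfsg.pCore 2 ↥M)) (hOcard : Nat.card ↥(Cfsg.pCore 2 ↥M) = 8)
    (hZin : H₁ ⊓ H₂ ≤ (Cfsg.pCore 2 ↥M).map M.subtype) :
    ∃ h : Setting G, Eight M h.V ∧ ∀ k < 576, inB k = true → h.e k ∈ M := by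
  classical
  obtain ⟨P, hH⟩ := exists_pair h1 h2 hn1 hn2 hiso1 hiso2 hint1 hint2 hHC
  set z := P.F1.f 12 with hz
  set V := (Cfsg.pCore 2 ↥M).map M.subtype with hV
  have l12 : (12 : ℕ) < 24 := by norm_num
  have hz1 : z ≠ 1 := fun e => absurd (P.F1.inj 12 l12 0 (by norm_num) (e.trans P.F1.f_zero.symm)) (by norm_num)
  have hzV : z ∈ V := hZin ⟨P.F1.f_mem l12, by rw [hz, P.z_eq]; exact P.F2.f_mem l12⟩
  have hK : H₁ ⊔ H₂ ≤ H := sup_le h1 h2
  have hK2 : ((H₁ ⊔ H₂).subgroupOf H).index = 2 := hidx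
  have hKc : Nat.card ↥(H₁ ⊔ H₂) = 288 := by
    let F : Fin 288 → ↥(H₁ ⊔ H₂) := fun j => ⟨P.g j, P.mem_sup.2 ⟨j, j.2, rfl⟩⟩
    have hF : Function.Bijective F := by
      refine ⟨fun i j e => Fin.ext (P.g_inj i.2 j.2 (congrArg Subtype.val e)), fun x => ?_⟩
      obtain ⟨j, hj, e⟩ := P.mem_sup.1 x.2
      exact ⟨⟨j, hj⟩, Subtype.ext e⟩
    rw [← Nat.card_eq_of_bijective F hF, Nat.card_fin]
  have hHc : Nat.card H = 576 := by
    rw [← Subgroup.card_mul_index ((H₁ ⊔ H₂).subgroupOf H), hK2,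
      Nat.card_congr (Subgroup.subgroupOfEquivOfLe hK).toEquiv, hKc]
  have hcz : Subgroup.centralizer ({z} : Set G) = H := by
    ext x
    rw [Subgroup.mem_centralizer_singleton_iff, hH]
  have E8 := eight_of_hyp hM hOel hOcard hzV hz1 (le_of_eq (by rw [hcz, hHc]))
  rw [← hV] at E8
  -- the centraliser in `M`
  set C := M ⊓ Subgroup.centralizer ({z} : Set G) with hC
  have hCc : Nat.card C = 192 := by
    have lo := cent_count E8 hzV hz1
    rw [← hC] at lo
    have d1 : Nat.card C ∣ 576 := hHc ▸ Subgroup.card_dvd_of_le (inf_le_right.trans (le_of_eq hcz))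
    have d2 : Nat.card C ∣ 1344 := E8.cardM ▸ Subgroup.card_dvd_of_le inf_le_left
    have d3 := Nat.dvd_gcd d1 d2
    norm_num at d3
    have := Nat.le_of_dvd (by norm_num) d3
    omega
  haveI : Fact (Nat.Prime 3) := ⟨Nat.prime_three⟩
  obtain ⟨⟨x, hxC⟩, hx⟩ := exists_prime_orderOf_dvd_card' (G := C) 3 (by rw [hCc]; norm_num)
  rw [Subgroup.orderOf_mk] at hx
  have hxM : x ∈ M := (Subgroup.mem_inf.1 hxC).1
  have hxH : x ∈ H := hcz ▸ (Subgroup.mem_inf.1 hxC).2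
  have hxz : x * z * x⁻¹ = z := by rw [(hH x).1 hxH, mul_inv_cancel_right]
  have hVH : ∀ v ∈ V, v ∈ H := fun v hv => (hH v).2 (E8.comm v hv z hzV)
  obtain ⟨v, hv, hvne⟩ : ∃ v ∈ V, x * v * x⁻¹ ≠ v := by
    by_contra hcon
    push Not at hcon
    have hxV := E8.cent x hxM fun v hv => mul_inv_eq_iff_eq_mul.1 (hcon v hv)
    have : orderOf x ∣ 2 := orderOf_dvd_of_pow_eq_one (by rw [pow_two]; exact E8.sq x hxV)
    rw [hx] at this
    norm_num at this
  have hx3 : x * x * x = 1 := by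
    have := pow_orderOf_eq_one x
    rw [hx, pow_succ, pow_two] at this
    exact this
  set v' := x * v * x⁻¹ with hv'
  have hv'V : v' ∈ V := E8.norm x hxM v hv
  set b := v * v' with hb
  have hbV : b ∈ V := mul_mem hv hv'V
  set b' := x * b * x⁻¹ with hb'
  have hb'V : b' ∈ V := E8.norm x hxM b hbV
  have b1 : b ≠ 1 := fun e => hvne (by
    rw [hb, mul_eq_one_iff_inv_eq, inv_eq_of_mul_eq_one_right (E8.sq v hv)] at e
    exact e.symm)
  have hb2 : x * b' * x⁻¹ = b * b' := by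
    have e3 : x * (x * v' * x⁻¹) * x⁻¹ = v := by
      calc x * (x * (x * v * x⁻¹) * x⁻¹) * x⁻¹ = (x * x * x) * v * (x * x * x)⁻¹ := by group
        _ = v := by rw [hx3]; group
    have e1 : b' = v' * (x * v' * x⁻¹) := by rw [hb', hb, hv']; group
    have e2 : x * b' * x⁻¹ = (x * v' * x⁻¹) * v := by
      conv_rhs => arg 2; rw [← e3]
      rw [e1]; group
    have w := E8.norm x hxM _ hv'V
    rw [e2, e1, hb]
    calc x * v' * x⁻¹ * v = v * (x * v' * x⁻¹) := E8.comm _ w _ hv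
      _ = v * (v' * v') * (x * v' * x⁻¹) := by rw [E8.sq v' hv'V, mul_one]
      _ = v * v' * (v' * (x * v' * x⁻¹)) := by group
  have b'1 : b' ≠ 1 := fun e => b1 (conj_eq_one_iff.1 e)
  have b'b : b' ≠ b := fun e => b1 (by
    rw [e, show x * b * x⁻¹ = b' from rfl, e, E8.sq b hbV] at hb2
    exact hb2)
  have bz : b ≠ z := fun e => b'b (by rw [hb', e, hxz])
  have b'z : b' ≠ z := fun e => bz (mul_left_cancel (mul_right_cancel (e.trans hxz.symm)))
  have b'zb : b' ≠ z * b := fun e => bz (by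
    have e' : x * b' * x⁻¹ = z * b' := by
      conv_lhs => rw [e]
      rw [show x * (z * b) * x⁻¹ = (x * z * x⁻¹) * (x * b * x⁻¹) by group, hxz]
    rw [hb2] at e'
    exact mul_right_cancel e')
  have hB : Basis8 z b b' := ⟨hz1, b1, bz, b'1, b'z, b'b, b'zb⟩
  have hzb : z * b ∈ V := mul_mem hzV hbV
  have hb'z : b' * z ∈ V := mul_mem hb'V hzV
  have sz := E8.sq z hzV
  have iz : z⁻¹ = z := inv_eq_of_mul_eq_one_right sz
  have ib : b⁻¹ = b := inv_eq_of_mul_eq_one_right (E8.sq b hbV)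
  have hB' : Basis8 (z * b) b (b' * z) := by
    refine ⟨fun e => bz ?_, b1, fun e => hz1 ?_, fun e => b'z ?_, fun e => b'b ?_, fun e => b'zb ?_, fun e => b'1 ?_⟩
    · rw [eq_inv_of_mul_eq_one_right e, iz]
    · exact mul_eq_right.1 e.symm
    · rw [eq_inv_of_mul_eq_one_left e, iz]
    · rw [E8.comm z hzV b hbV] at e
      exact mul_right_cancel e
    · rw [E8.comm z hzV b hbV]
      calc b' = b' * z * z⁻¹ := (mul_inv_cancel_right _ _).symm
        _ = b * z := by rw [e, iz]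
    · rw [mul_assoc z b b, E8.sq b hbV, mul_one] at e
      exact mul_eq_right.1 e
  obtain ⟨u, huM, uz, ub, ub'⟩ := E8.full hB hzV hbV hb'V hB' hzb hbV hb'z
  set n0 := u * u with hn0
  have n0M : n0 ∈ M := mul_mem huM huM
  have n0z : n0 * z * n0⁻¹ = z := by
    calc u * u * z * (u * u)⁻¹ = u * (u * z * u⁻¹) * u⁻¹ := by group
      _ = u * (z * b) * u⁻¹ := by rw [uz]
      _ = (u * z * u⁻¹) * (u * b * u⁻¹) := by group
      _ = z := by rw [uz, ub, mul_assoc, E8.sq b hbV, mul_one]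
  have n0b : n0 * b * n0⁻¹ = b := by
    calc u * u * b * (u * u)⁻¹ = u * (u * b * u⁻¹) * u⁻¹ := by group
      _ = b := by rw [ub, ub]
  have n0b' : n0 * b' * n0⁻¹ = b * b' := by
    calc u * u * b' * (u * u)⁻¹ = u * (u * b' * u⁻¹) * u⁻¹ := by group
      _ = u * (b' * z) * u⁻¹ := by rw [ub']
      _ = (u * b' * u⁻¹) * (u * z * u⁻¹) := by group
      _ = b' * (z * z) * b := by rw [ub', uz]; group
      _ = b * b' := by rw [sz, mul_one, E8.comm b' hb'V b hbV]
  have hsqV : n0 * n0 ∈ V := by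
    refine E8.cent _ (mul_mem n0M n0M) fun w hw => E8.eq_on_basis hB hzV hbV hb'V ?_ ?_ ?_ hw
    · calc n0 * n0 * z * (n0 * n0)⁻¹ = n0 * (n0 * z * n0⁻¹) * n0⁻¹ := by group
        _ = z := by rw [n0z, n0z]
    · calc n0 * n0 * b * (n0 * n0)⁻¹ = n0 * (n0 * b * n0⁻¹) * n0⁻¹ := by group
        _ = b := by rw [n0b, n0b]
    · calc n0 * n0 * b' * (n0 * n0)⁻¹ = n0 * (n0 * b' * n0⁻¹) * n0⁻¹ := by group
        _ = n0 * (b * b') * n0⁻¹ := by rw [n0b']
        _ = (n0 * b * n0⁻¹) * (n0 * b' * n0⁻¹) := by group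
        _ = b * (b * b') := by rw [n0b, n0b']
        _ = b * b * b' := (mul_assoc _ _ _).symm
        _ = b' := by rw [E8.sq b hbV, one_mul]
  -- an involution
  obtain ⟨n, hnM, hnsq, nz, nb, nb'⟩ : ∃ n ∈ M, n * n = 1 ∧ n * z * n⁻¹ = z ∧ n * b * n⁻¹ = b ∧
      n * b' * n⁻¹ = b * b' := by
    rcases E8.fixed_cases hB hzV hbV hb'V uz ub ub' hsqV (by rw [hn0]; group) with e | e
    · exact ⟨n0, n0M, e, n0z, n0b, n0b'⟩
    · have c : ∀ w ∈ V, b' * w * b'⁻¹ = w := fun w hw => by rw [E8.comm b' hb'V w hw, mul_inv_cancel_right]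
      refine ⟨n0 * b', mul_mem n0M (E8.le hb'V), ?_, ?_, ?_, ?_⟩
      · calc n0 * b' * (n0 * b') = (n0 * b' * n0⁻¹) * (n0 * n0) * b' := by group
          _ = b * b' * b * b' := by rw [n0b', e]
          _ = 1 := by rw [mul_assoc (b * b'), E8.sq _ (mul_mem hbV hb'V)]
      · rw [show n0 * b' * z * (n0 * b')⁻¹ = n0 * (b' * z * b'⁻¹) * n0⁻¹ by group, c z hzV, n0z]
      · rw [show n0 * b' * b * (n0 * b')⁻¹ = n0 * (b' * b * b'⁻¹) * n0⁻¹ by group, c b hbV, n0b]
      · rw [show n0 * b' * b' * (n0 * b')⁻¹ = n0 * b' * n0⁻¹ by group, n0b']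
  have hnH : n ∈ H := (hH n).2 (mul_inv_eq_iff_eq_mul.1 nz)
  -- the plane lies in the product
  have hKi : ∀ (a : G) (ha : a ∈ H) (c : G) (hc : c ∈ H), a * (c * a * c⁻¹) ∈ H₁ ⊔ H₂ := by
    intro a ha c hc
    have hn := Subgroup.normal_of_index_eq_two hK2
    have key := Subgroup.mul_mem_iff_of_index_two hK2 (a := ⟨a, ha⟩) (b := ⟨c, hc⟩ * ⟨a, ha⟩ * ⟨c, hc⟩⁻¹)
    refine key.2 ⟨fun h => hn.conj_mem _ h _, fun h => ?_⟩
    have := hn.conj_mem _ h (⟨c, hc⟩ : H)⁻¹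
    rwa [show (⟨c, hc⟩ : H)⁻¹ * (⟨c, hc⟩ * ⟨a, ha⟩ * ⟨c, hc⟩⁻¹) * (⟨c, hc⟩ : H)⁻¹⁻¹ = ⟨a, ha⟩ by group] at this
  have hbK : b ∈ H₁ ⊔ H₂ := hKi v (hVH v hv) x hxH
  have hb'K : b' ∈ H₁ ⊔ H₂ := by
    have := hKi v' (hVH v' hv'V) x hxH
    rwa [show v' * (x * v' * x⁻¹) = b' by rw [hb', hb, hv']; group] at this
  have hl : ∀ i < 288, ∀ l < 288, mL i l < 288 := by
    intro i hi l hl
    rw [mL, show se i = 0 by rw [se]; omega]
    change PSp43.norm (mt (sa i) (sa l)) (mt (sb i) (sb l)) (se l) < 288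
    have := PSp43.norm_spec (mt_lt (sa_lt i) (sa_lt l)) (mt_lt (sb_lt i) (sb_lt l)) (se_lt l)
    simp only [PSp43.se] at this ⊢
    omega
  have codes : ∀ Q : Pair H₁ H₂, Q.F1.f 12 = z → ∃ j < 288, ∃ k < 288, Q.g j = b ∧ Q.g k = b' ∧
      baseK j k = true := by
    intro Q hQ
    obtain ⟨j, hj, ej⟩ := Q.mem_sup.1 hbK
    obtain ⟨k, hk, ek⟩ := Q.mem_sup.1 hb'K
    have q0 : ∀ {i : ℕ}, i < 288 → Q.g i ≠ 1 → Nat.beq i 0 = false := fun {i} _ hne => by
      by_contra hh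
      rw [Bool.not_eq_false, beq_iff] at hh
      exact hne (hh ▸ Q.g_zero)
    have qz : ∀ {i : ℕ}, Q.g i ≠ z → Nat.beq i zI = false := fun {i} hne => by
      by_contra hh
      rw [Bool.not_eq_false, beq_iff] at hh
      exact hne (by rw [hh, Q.g_z, hQ])
    have sq : ∀ {i : ℕ}, i < 288 → Q.g i * Q.g i = 1 → Nat.beq (mL i i) 0 = true := fun {i} hi e =>
      beq_iff.2 (Q.g_inj (hl i hi i hi) (by norm_num) (by rw [Q.g_mul hi, Q.g_zero, e]))
    have ne : ∀ {i l : ℕ}, Q.g i ≠ Q.g l → Nat.beq i l = false := fun {i l} hne => by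
      by_contra hh
      rw [Bool.not_eq_false, beq_iff] at hh
      exact hne (hh ▸ rfl)
    refine ⟨j, hj, k, hk, ej, ek, ?_⟩
    simp only [baseK, invK, Bool.and_eq_true, Bool.not_eq_true']
    exact ⟨⟨⟨sq hj (by rw [ej]; exact E8.sq b hbV), q0 hj (by rw [ej]; exact b1)⟩, qz (by rw [ej]; exact bz)⟩,
      ⟨⟨sq hk (by rw [ek]; exact E8.sq b' hb'V), q0 hk (by rw [ek]; exact b'1)⟩, qz (by rw [ek]; exact b'z)⟩,
      Q.g_com hj hk (by rw [ej, ek]; exact E8.comm b hbV b' hb'V), ne (by rw [ej, ek]; exact b'b),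
      ne (by rw [ek, Q.g_mul (show zI < 288 by norm_num), Q.g_z, hQ, ej]; exact b'zb)⟩
  obtain ⟨j0, hj0, k0, hk0, ej0, ek0, hb0⟩ := codes P rfl
  obtain ⟨P', O, hP'z⟩ := P.exists_outer h1 h2 hn1 hn2 hnH hnsq hj0 hk0 hb0 (by rw [ej0]; exact nb)
    (by rw [ej0, ek0]; exact nb')
  rw [← hz] at hP'z
  obtain ⟨j, hj, k, hk, ej, ek, hbk⟩ := codes P' hP'z
  have htI : ∀ i < 288, ∀ l < 288, n * P'.g i * n⁻¹ = P'.g l → cj tI i = l := by
    intro i hi l hl e
    refine O.el_inj (cj_lt _ _) (hl.trans (by norm_num)) ?_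
    rw [cj, O.el_mul, O.el_mul, O.el_tI, O.el_lt hi, show iL tI = tI by decide +kernel, O.el_tI, O.el_lt hl, ← e,
      inv_eq_of_mul_eq_one_right hnsq]
  obtain ⟨-, -, hopt⟩ := base_facts' hj hk hbk
  have hopt' := hopt (htI j hj j hj (by rw [ej]; exact nb))
    (htI k hk _ (hl j hj k hk) (by rw [P'.g_mul hj, ej, ek]; exact nb'))
  -- the coordinates
  obtain ⟨Q, OQ, hQz, j', hj', k', hk', ej', ek', v1, v2⟩ : ∃ Q : Pair H₁ H₂, Outer Q n ∧ Q.F1.f 12 = z ∧
      ∃ j < 288, ∃ k < 288, Q.g j = b ∧ Q.g k = b' ∧ j ∈ vList ∧ k ∈ vList := by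
    rcases hopt' with r | r
    · exact ⟨P', O, hP'z, j, hj, k, hk, ej, ek, r j (by simp [span8]), r k (by simp [span8])⟩
    · have tl : ∀ i < 288, tm i < 288 := fun i hi => by
        have := PSp43.norm_spec (sa_lt i) (tw_lt (sb_lt i)) (se_lt i)
        simp only [tm, PSp43.se] at this ⊢
        omega
      exact ⟨P'.twist, O.twist, hP'z, tm j, tl j hj, tm k, tl k hk, by rw [P'.twist_g hj, ej],
        by rw [P'.twist_g hk, ek], r j (by simp [span8]), r k (by simp [span8])⟩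
  have hel : ∀ i < 576, Outer.el Q n i ∈ H := fun i _ => by
    rw [Outer.el]
    exact mul_mem (hK (Q.mem_sup.2 ⟨i % 288, Nat.mod_lt _ (by norm_num), by
      rw [Pair.g, Pair.g, show sa (i % 288) = sa i by simp only [sa]; omega,
        show sb (i % 288) = sb i by simp only [sb]; omega]⟩)) (pow_mem hnH _)
  have hez : Outer.el Q n zI = z := by rw [OQ.el_lt (show zI < 288 by norm_num), Q.g_z, hQz]
  let T : Setting G :=
    { e := Outer.el Q n
      inj := fun i hi l hl e => OQ.el_inj hi hl e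
      mul := fun i _ l _ => OQ.el_mul i l
      cen := fun y => by
        rw [hez, ← hH]
        refine ⟨fun hy => ?_, ?_⟩
        · let F : Fin 576 → H := fun i => ⟨Outer.el Q n i, hel i i.2⟩
          have hF : Function.Bijective F := (Nat.bijective_iff_injective_and_card F).2
            ⟨fun i l e => Fin.ext (OQ.el_inj i.2 l.2 (congrArg Subtype.val e)), by rw [Nat.card_fin, hHc]⟩
          obtain ⟨i, hi⟩ := hF.2 ⟨y, hy⟩
          exact ⟨i, i.2, congrArg Subtype.val hi⟩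
        · rintro ⟨i, hi, rfl⟩
          exact hel i hi }
  have hTV : T.V = V := by
    have hle : V ≤ T.V := by
      have mz : z ∈ T.V := ⟨zI, by decide, hez⟩
      have mb : b ∈ T.V := ⟨j', v1, (OQ.el_lt hj').trans ej'⟩
      have mb' : b' ∈ T.V := ⟨k', v2, (OQ.el_lt hk').trans ek'⟩
      intro w hw
      obtain ⟨i, rfl⟩ := E8.exists_tri hB hzV hbV hb'V hw
      refine mul_mem (mul_mem ?_ ?_) ?_ <;> split_ifs <;> first | assumption | exact one_mem _
    refine (Subgroup.eq_of_le_of_card_ge hle ?_).symm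
    rw [E8.card]
    let F : Fin 8 → T.V := fun i => ⟨T.e (vList.get ⟨i, i.2⟩), T.e_mem_V (List.get_mem _ _)⟩
    have hF : Function.Surjective F := by
      rintro ⟨w, c, hc, rfl⟩
      obtain ⟨i, hi⟩ := List.get_of_mem hc
      exact ⟨i, Subtype.ext (congrArg T.e hi)⟩
    have := Nat.card_le_card_of_surjective F hF
    rwa [Nat.card_fin] at this
  refine ⟨T, by rw [hTV]; exact E8, ?_⟩
  intro i hi hiB
  let S := (Finset.range 576).filter fun i => T.e i ∈ C
  let B := (Finset.range 576).filter fun i => inB i = true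
  have hSB : S ⊆ B := by
    intro a ha
    simp only [S, Finset.mem_filter, Finset.mem_range] at ha
    simp only [B, Finset.mem_filter, Finset.mem_range, inB, List.all_eq_true]
    refine ⟨ha.1, fun w hw => inV_iff.2 ?_⟩
    have hm : T.e a * T.e w * (T.e a)⁻¹ ∈ T.V := by
      rw [hTV]
      exact E8.norm _ (Subgroup.mem_inf.1 ha.2).1 _ (hTV ▸ T.e_mem_V hw)
    rw [T.conj_e ha.1 (vList_lt w hw)] at hm
    obtain ⟨c, hc, ec⟩ := hm
    rwa [← T.inj c (vList_lt c hc) _ (cj_lt _ _) ec]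
  have hB192 : B.card = 192 := by
    have := b_count
    rw [List.countP_eq_length_filter] at this
    rw [← this]
    rfl
  have hS192 : S.card = 192 := by
    rw [← hCc]
    let F : S → C := fun a => ⟨T.e a, (Finset.mem_filter.1 a.2).2⟩
    have hF : Function.Bijective F := by
      refine ⟨fun a c e => Subtype.ext (T.inj _ (Finset.mem_range.1 (Finset.mem_filter.1 a.2).1) _
        (Finset.mem_range.1 (Finset.mem_filter.1 c.2).1) (congrArg Subtype.val e)), fun y => ?_⟩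
      obtain ⟨a, ha, e⟩ := (T.cen (y : G)).1 (by
        show (y : G) * Outer.el Q n zI = Outer.el Q n zI * y
        rw [hez]
        exact Subgroup.mem_centralizer_singleton_iff.1 (Subgroup.mem_inf.1 y.2).2)
      exact ⟨⟨a, Finset.mem_filter.2 ⟨Finset.mem_range.2 ha, e ▸ y.2⟩⟩, Subtype.ext e⟩
    rw [← Nat.card_eq_of_bijective F hF, Nat.card_eq_fintype_card, Fintype.card_coe]
  have hEq := Finset.eq_of_subset_of_card_le hSB (by omega)
  have : i ∈ S := by
    rw [hEq]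
    exact Finset.mem_filter.2 ⟨Finset.mem_range.2 hi, hiB⟩
  exact (Subgroup.mem_inf.1 (Finset.mem_filter.1 this).2).1

end Cfsg.Agent.Invol.G23Two
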